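/-
Gauss decomposition with prescribed torus part in a split group over a field with at least nine elements,
by rank one steps: every non-central element is conjugate to a product of a lower and an upper unipotent.
-/
import Mathlib
import Cfsg.Agent.Lib.SL2Pres.Universal

set_option autoImplicit false

namespace Cfsg.Agent.ClassSquare

open Cfsg.Agent.SL2Pres (up low)
open Matrix

section TwoByTwo

variable {F : Type*} [Field F]

theorem val_mul' (a b : SpecialLinearGroup (Fin 2) F) : (a * b).1 = a.1 * b.1 := rfl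

theorem val_inv' (a : SpecialLinearGroup (Fin 2) F) : (a⁻¹).1 = adjugate a.1 := rfl

/-- The diagonal element of `SL₂`. -/
def dg : Fˣ →* SpecialLinearGroup (Fin 2) F where
  toFun c := ⟨!![(c : F), 0; 0, ((c⁻¹ : Fˣ) : F)], by simp [det_fin_two]⟩
  map_one' := by apply Subtype.ext; simp [Matrix.one_fin_two]
  map_mul' c d := by
    apply Subtype.ext
    show !![((c * d : Fˣ) : F), 0; 0, (((c * d)⁻¹ : Fˣ) : F)] = !![(c : F), 0; 0, ((c⁻¹ : Fˣ) : F)] *
      !![(d : F), 0; 0, ((d⁻¹ : Fˣ) : F)]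
    simp [mul_comm]

/-- Conjugation by `diag(s, 1)`. -/
def tw (s : Fˣ) : SpecialLinearGroup (Fin 2) F →* SpecialLinearGroup (Fin 2) F where
  toFun x := ⟨!![x.1 0 0, ((s⁻¹ : Fˣ) : F) * x.1 0 1; (s : F) * x.1 1 0, x.1 1 1], by
    have hd := x.2
    rw [det_fin_two] at hd
    simp [det_fin_two]
    field_simp
    linear_combination hd⟩
  map_one' := by apply Subtype.ext; simp [Matrix.one_fin_two]
  map_mul' x y := by
    apply Subtype.ext
    show !![(x * y).1 0 0, ((s⁻¹ : Fˣ) : F) * (x * y).1 0 1; (s : F) * (x * y).1 1 0, (x * y).1 1 1] =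
      !![x.1 0 0, ((s⁻¹ : Fˣ) : F) * x.1 0 1; (s : F) * x.1 1 0, x.1 1 1] *
      !![y.1 0 0, ((s⁻¹ : Fˣ) : F) * y.1 0 1; (s : F) * y.1 1 0, y.1 1 1]
    rw [val_mul']
    ext k l
    fin_cases k <;> fin_cases l <;> simp [Matrix.mul_apply, Fin.sum_univ_two] <;> field_simp

theorem tw_val (s : Fˣ) (x : SpecialLinearGroup (Fin 2) F) :
    (tw s x).1 = !![x.1 0 0, ((s⁻¹ : Fˣ) : F) * x.1 0 1; (s : F) * x.1 1 0, x.1 1 1] := rfl

theorem tw_up (s : Fˣ) (r : F) : tw s (up r) = up (((s⁻¹ : Fˣ) : F) * r) := by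
  apply Subtype.ext; simp [tw_val, SL2Pres.up_val]

theorem tw_low (s : Fˣ) (r : F) : tw s (low r) = low ((s : F) * r) := by
  apply Subtype.ext; simp [tw_val, SL2Pres.low_val]

theorem transvection_cases {p q : Fin 2} (h : p ≠ q) (r : F) :
    SpecialLinearGroup.transvection h r = up r ∨ SpecialLinearGroup.transvection h r = low r := by
  fin_cases p <;> fin_cases q <;> first | exact absurd rfl h | skip
  · left
    apply Subtype.ext
    rw [SpecialLinearGroup.transvection_coe]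
    ext k l
    fin_cases k <;> fin_cases l <;> simp [SL2Pres.up_val]
  · right
    apply Subtype.ext
    rw [SpecialLinearGroup.transvection_coe]
    ext k l
    fin_cases k <;> fin_cases l <;> simp [SL2Pres.low_val]

theorem hom_ext {G : Type*} [Group G] {f g : SpecialLinearGroup (Fin 2) F →* G}
    (h1 : ∀ r, f (up r) = g (up r)) (h2 : ∀ r, f (low r) = g (low r)) : f = g := by
  refine MonoidHom.eq_of_eqOn_dense Cfsg.Agent.ClassicalSL.closure_elemTransvections ?_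
  rintro _ ⟨p, q, h, r, rfl⟩
  rcases transvection_cases h r with e | e <;> rw [e]
  exacts [h1 r, h2 r]

theorem dg_val (c : Fˣ) :
    (dg c : Matrix (Fin 2) (Fin 2) F) = !![(c : F), 0; 0, ((c⁻¹ : Fˣ) : F)] := rfl

theorem up_zero : up (0 : F) = 1 := by apply Subtype.ext; simp [SL2Pres.up_val, Matrix.one_fin_two]

theorem low_zero : low (0 : F) = 1 := by apply Subtype.ext; simp [SL2Pres.low_val, Matrix.one_fin_two]

theorem up_add (a b : F) : up a * up b = up (a + b) := by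
  apply Subtype.ext; simp [SL2Pres.up_val, Matrix.mul_fin_two, add_comm]

theorem low_add (a b : F) : low a * low b = low (a + b) := by
  apply Subtype.ext; simp [SL2Pres.low_val, Matrix.mul_fin_two]

theorem up_inv (a : F) : (up a)⁻¹ = up (-a) :=
  inv_eq_of_mul_eq_one_right (by rw [up_add, add_neg_cancel, up_zero])

theorem low_inv (a : F) : (low a)⁻¹ = low (-a) :=
  inv_eq_of_mul_eq_one_right (by rw [low_add, add_neg_cancel, low_zero])

/-- Factorisation of a matrix with non-zero corner. -/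
theorem exists_ldu (m : SpecialLinearGroup (Fin 2) F) (c : Fˣ) (h : m.1 0 0 = c) :
    ∃ b a : F, m = low b * dg c * up a := by
  refine ⟨m.1 1 0 * ((c⁻¹ : Fˣ) : F), ((c⁻¹ : Fˣ) : F) * m.1 0 1, ?_⟩
  have hd := m.2
  rw [det_fin_two, h] at hd
  apply Subtype.ext
  simp only [val_mul', SL2Pres.up_val, SL2Pres.low_val, dg_val, Matrix.mul_fin_two]
  conv_lhs => rw [Matrix.eta_fin_two m.1, h]
  ext i j
  fin_cases i <;> fin_cases j <;> simp <;> field_simp
  linear_combination hd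

/-- Rewriting `x_+ x_-`. -/
theorem up_mul_low (s d : F) (h : 1 + s * d ≠ 0) :
    ∃ b a : F, ∃ c : Fˣ, up s * low d = low b * dg c * up a := by
  obtain ⟨b, a, e⟩ := exists_ldu (up s * low d) (Units.mk0 _ h) (by
    simp [SL2Pres.up_val, SL2Pres.low_val, Matrix.mul_fin_two])
  exact ⟨b, a, _, e⟩

theorem conj_corner (m : SpecialLinearGroup (Fin 2) F) (M : Matrix (Fin 2) (Fin 2) F) :
    ((m.1 * M * (m⁻¹).1 : Matrix (Fin 2) (Fin 2) F)) 0 0 =
      (m.1 0 0 * M 0 0 + m.1 0 1 * M 1 0) * m.1 1 1 -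
        (m.1 0 0 * M 0 1 + m.1 0 1 * M 1 1) * m.1 1 0 := by
  rw [val_inv', adjugate_fin_two]
  simp [Matrix.mul_apply, Fin.sum_univ_two]
  ring

/-- A non-scalar `2 × 2` matrix is conjugate under `SL₂` to one with a prescribed corner. -/
theorem exists_conj_corner (M : Matrix (Fin 2) (Fin 2) F)
    (hM : ¬ (M 0 1 = 0 ∧ M 1 0 = 0 ∧ M 0 0 = M 1 1)) (a : F) :
    ∃ m : SpecialLinearGroup (Fin 2) F, (m.1 * M * (m⁻¹).1 : Matrix (Fin 2) (Fin 2) F) 0 0 = a := by
  by_cases h10 : M 1 0 = 0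
  swap
  · refine ⟨up ((a - M 0 0) / M 1 0), ?_⟩
    rw [conj_corner, SL2Pres.up_val]
    simp
    field_simp
    ring
  by_cases h01 : M 0 1 = 0
  swap
  · refine ⟨low ((M 0 0 - a) / M 0 1), ?_⟩
    rw [conj_corner, SL2Pres.low_val]
    simp
    field_simp
    ring
  · have hne : M 0 0 - M 1 1 ≠ 0 := fun h => hM ⟨h01, h10, sub_eq_zero.1 h⟩
    refine ⟨up ((a - M 0 0) / (M 0 0 - M 1 1)) * low 1, ?_⟩
    rw [conj_corner, val_mul', SL2Pres.up_val, SL2Pres.low_val, Matrix.mul_fin_two]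
    simp [h01, h10]
    field_simp
    ring

end TwoByTwo

universe u v w

/-- A split group given by rank one subgroups. -/
structure Datum (G : Type u) [Group G] (F : Type v) [Field F] (ι : Type w) [Fintype ι] where
  φ : ι → SpecialLinearGroup (Fin 2) F →* G
  U : Subgroup G
  V : Subgroup G
  T : Subgroup G
  Uc : ι → Subgroup G
  Vc : ι → Subgroup G
  α : ι → G → Fˣ
  A : ι → ι → ℤ
  up_mem : ∀ i a, φ i (up a) ∈ U
  low_mem : ∀ i a, φ i (low a) ∈ V
  Uc_le : ∀ i, Uc i ≤ U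
  Vc_le : ∀ i, Vc i ≤ V
  split_U : ∀ i, ∀ u ∈ U, ∃ a : F, ∃ u' ∈ Uc i, u = φ i (up a) * u'
  split_V : ∀ i, ∀ v ∈ V, ∃ b : F, ∃ v' ∈ Vc i, v = φ i (low b) * v'
  conj_Uc : ∀ i x, ∀ u ∈ Uc i, φ i x * u * (φ i x)⁻¹ ∈ Uc i
  conj_Vc : ∀ i x, ∀ u ∈ Vc i, φ i x * u * (φ i x)⁻¹ ∈ Vc i
  T_Uc : ∀ i, ∀ t ∈ T, ∀ u ∈ Uc i, t * u * t⁻¹ ∈ Uc i
  T_Vc : ∀ i, ∀ t ∈ T, ∀ u ∈ Vc i, t * u * t⁻¹ ∈ Vc i
  T_comm : ∀ s ∈ T, ∀ t ∈ T, s * t = t * s
  T_eq : T = Subgroup.closure (Set.range fun p : ι × Fˣ => φ p.1 (dg p.2))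
  conj_up : ∀ i, ∀ t ∈ T, ∀ a : F, t * φ i (up a) * t⁻¹ = φ i (up ((α i t : F) * a))
  conj_low : ∀ i, ∀ t ∈ T, ∀ a : F,
    t * φ i (low a) * t⁻¹ = φ i (low ((((α i t)⁻¹ : Fˣ) : F) * a))
  α_mul : ∀ i, ∀ s ∈ T, ∀ t ∈ T, α i (s * t) = α i s * α i t
  α_dg : ∀ i j (c : Fˣ), α j (φ i (dg c)) = c ^ A j i
  A_self : ∀ i, A i i = 2
  A_sum : ∀ i, (∑ j, (A j i).natAbs) ≤ 6
  connected : ∀ S : Set ι, S.Nonempty → S ≠ Set.univ → ∃ i ∈ S, ∃ j ∉ S, A j i ≠ 0
  gen : Subgroup.closure (⋃ i, (φ i).range : Set G) = ⊤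
  coreU : ∀ u ∈ U, (∀ x ∈ Submonoid.closure
    (Set.range fun i => φ i (up 1 * low (-1) * up 1)), x * u * x⁻¹ ∈ U) → u = 1
  coreV : ∀ u ∈ V, (∀ x ∈ Submonoid.closure
    (Set.range fun i => φ i (up 1 * low (-1) * up 1)), x * u * x⁻¹ ∈ V) → u = 1

namespace Datum

variable {G : Type u} [Group G] {F : Type v} [Field F] {ι : Type w} [Fintype ι] (D : Datum G F ι)

theorem dg_mem (i : ι) (c : Fˣ) : D.φ i (dg c) ∈ D.T := by
  rw [D.T_eq]; exact Subgroup.subset_closure ⟨(i, c), rfl⟩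

theorem α_one (i : ι) : D.α i 1 = 1 := by
  have h := D.α_mul i 1 (one_mem _) 1 (one_mem _)
  rwa [one_mul, left_eq_mul] at h

theorem α_inv (i : ι) {t : G} (ht : t ∈ D.T) : D.α i t⁻¹ = (D.α i t)⁻¹ := by
  refine eq_inv_of_mul_eq_one_left ?_
  rw [← D.α_mul i _ (inv_mem ht) _ ht, inv_mul_cancel, D.α_one]

theorem T_U {t u : G} (ht : t ∈ D.T) (hu : u ∈ D.U) [Nonempty ι] : t * u * t⁻¹ ∈ D.U := by
  obtain ⟨a, u', hu', rfl⟩ := D.split_U (Classical.arbitrary ι) u hu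
  rw [show ∀ x : G, t * (x * u') * t⁻¹ = (t * x * t⁻¹) * (t * u' * t⁻¹) from fun x => by group,
    D.conj_up _ t ht]
  exact mul_mem (D.up_mem _ _) (D.Uc_le _ (D.T_Uc _ t ht u' hu'))

theorem T_V {t u : G} (ht : t ∈ D.T) (hu : u ∈ D.V) [Nonempty ι] : t * u * t⁻¹ ∈ D.V := by
  obtain ⟨a, u', hu', rfl⟩ := D.split_V (Classical.arbitrary ι) u hu
  rw [show ∀ x : G, t * (x * u') * t⁻¹ = (t * x * t⁻¹) * (t * u' * t⁻¹) from fun x => by group,
    D.conj_low _ t ht]
  exact mul_mem (D.low_mem _ _) (D.Vc_le _ (D.T_Vc _ t ht u' hu'))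

theorem twist (i : ι) {t : G} (ht : t ∈ D.T) (x : SpecialLinearGroup (Fin 2) F) :
    t⁻¹ * D.φ i x * t = D.φ i (tw (D.α i t) x) := by
  have h : (MulAut.conj t⁻¹).toMonoidHom.comp (D.φ i) = (D.φ i).comp (tw (D.α i t)) := by
    refine hom_ext (fun r => ?_) fun r => ?_
    · have e := D.conj_up i t⁻¹ (inv_mem ht) r
      rw [inv_inv, D.α_inv i ht] at e
      simpa [tw_up] using e
    · have e := D.conj_low i t⁻¹ (inv_mem ht) r
      rw [inv_inv, D.α_inv i ht, inv_inv] at e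
      simpa [tw_low] using e
  simpa using DFunLike.congr_fun h x

/-- `g` lies in `V t U`. -/
def St (g t : G) : Prop := t ∈ D.T ∧ ∃ v ∈ D.V, ∃ u ∈ D.U, g = v * t * u

/-- `g` lies in `V t U` with non-central component at `i`. -/
def Ready (g t : G) (i : ι) : Prop := t ∈ D.T ∧ ∃ v ∈ D.Vc i, ∃ u ∈ D.Uc i, ∃ b a : F,
  (a ≠ 0 ∨ b ≠ 0 ∨ D.α i t ≠ 1) ∧ g = v * D.φ i (low b) * t * D.φ i (up a) * u

theorem St.decomp {g t : G} (h : D.St g t) (i : ι) :
    t ∈ D.T ∧ ∃ v ∈ D.Vc i, ∃ u ∈ D.Uc i, ∃ b a : F,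
      g = v * D.φ i (low b) * t * D.φ i (up a) * u := by
  obtain ⟨ht, v, hv, u, hu, rfl⟩ := h
  obtain ⟨b, v', hv', rfl⟩ := D.split_V i v hv
  obtain ⟨a, u', hu', rfl⟩ := D.split_U i u hu
  exact ⟨ht, _, D.conj_Vc i (low b) v' hv', u', hu', b, a, by group⟩

theorem St.ready {g t : G} (h : D.St g t) {i : ι} (hα : D.α i t ≠ 1) : D.Ready g t i := by
  obtain ⟨ht, v, hv, u, hu, b, a, e⟩ := St.decomp D h i
  exact ⟨ht, v, hv, u, hu, b, a, Or.inr (Or.inr hα), e⟩

/-- The rank one step. -/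
theorem step {g t : G} {i : ι} (h : D.Ready g t i) (c : Fˣ) :
    ∃ x : G, D.St (x * g * x⁻¹) (t * D.φ i (dg c)) := by
  obtain ⟨ht, v, hv, u, hu, b, a, hne, rfl⟩ := h
  set s := D.α i t with hs
  let M : Matrix (Fin 2) (Fin 2) F :=
    !![(s : F), 0; 0, 1] * ((low ((s : F) * b) * up a : SpecialLinearGroup (Fin 2) F)).1
  have hM : M = !![(s : F), (s : F) * a; (s : F) * b, (s : F) * b * a + 1] := by
    simp [M, SL2Pres.up_val, SL2Pres.low_val, Matrix.mul_fin_two]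
  obtain ⟨m, hm⟩ := exists_conj_corner M (by
    rintro ⟨h1, h2, h3⟩
    rw [hM] at h1 h2 h3
    simp at h1 h2 h3
    subst h1; subst h2
    simp at h3
    simp [h3] at hne) ((s : F) * (c : F))
  -- the twisted conjugate of `m`
  have hσ : ∀ x, D.φ i x * t = t * D.φ i (tw s x) := fun x => by
    rw [← D.twist i ht x]; group
  set σ := tw s m with hσdef
  obtain ⟨b', a', e⟩ := exists_ldu (σ * (low ((s : F) * b) * up a) * m⁻¹) c (by
    have hs0 : (s : F) ≠ 0 := s.ne_zero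
    simp only [val_mul']
    have e1 : (!![(s : F), 0; 0, 1] : Matrix (Fin 2) (Fin 2) F) * σ.1 = m.1 * !![(s : F), 0; 0, 1] := by
      ext k l
      fin_cases k <;> fin_cases l <;> simp [hσdef, tw_val, Matrix.mul_apply, Fin.sum_univ_two, mul_comm] <;>
        field_simp
    have e2 : (s : F) * (σ.1 * ((low ((s : F) * b) * up a : SpecialLinearGroup (Fin 2) F)).1 * (m⁻¹).1) 0 0 =
        (s : F) * (c : F) := by
      rw [← hm]
      have e3 : m.1 * M * (m⁻¹).1 = !![(s : F), 0; 0, 1] *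
          (σ.1 * ((low ((s : F) * b) * up a : SpecialLinearGroup (Fin 2) F)).1 * (m⁻¹).1) := by
        simp only [M]
        rw [← Matrix.mul_assoc m.1, ← e1]
        simp only [Matrix.mul_assoc]
      rw [e3]
      generalize σ.1 * ((low ((s : F) * b) * up a : SpecialLinearGroup (Fin 2) F)).1 * (m⁻¹).1 = Q
      simp [Matrix.mul_apply, Fin.sum_univ_two]
    exact mul_left_cancel₀ hs0 e2)
  refine ⟨D.φ i m, mul_mem ht (D.dg_mem i c), ?_⟩
  have hb : t⁻¹ * D.φ i (low b) * t = D.φ i (low ((s : F) * b)) := by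
    have e := D.conj_low i t⁻¹ (inv_mem ht) b
    rwa [inv_inv, D.α_inv i ht, inv_inv] at e
  have hmid : D.φ i m * (D.φ i (low b) * t * D.φ i (up a)) * (D.φ i m)⁻¹ =
      t * D.φ i (low b') * D.φ i (dg c) * D.φ i (up a') := by
    calc _ = (D.φ i m * t) * ((t⁻¹ * D.φ i (low b) * t) * D.φ i (up a)) * (D.φ i m)⁻¹ := by group
      _ = t * (D.φ i σ * (D.φ i (low ((s : F) * b)) * D.φ i (up a)) * (D.φ i m)⁻¹) := by
        rw [hσ m, hb]; simp only [mul_assoc]; rw [hσdef]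
      _ = t * D.φ i (low b' * dg c * up a') := by rw [← e]; simp only [map_mul, map_inv]
      _ = _ := by simp only [map_mul, mul_assoc]
  haveI : Nonempty ι := ⟨i⟩
  refine ⟨(D.φ i m * v * (D.φ i m)⁻¹) * (t * D.φ i (low b') * t⁻¹),
    mul_mem (D.Vc_le i (D.conj_Vc i m v hv)) (D.T_V ht (D.low_mem i b')),
    D.φ i (up a') * (D.φ i m * u * (D.φ i m)⁻¹),
    mul_mem (D.up_mem i a') (D.Uc_le i (D.conj_Uc i m u hu)), ?_⟩
  calc _ = (D.φ i m * v * (D.φ i m)⁻¹) * (D.φ i m * (D.φ i (low b) * t * D.φ i (up a)) * (D.φ i m)⁻¹) *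
        (D.φ i m * u * (D.φ i m)⁻¹) := by group
    _ = _ := by rw [hmid]; group

/-- Every element is conjugate into `V T U`. -/
theorem exists_conj_big [Finite G] [Fintype F] [Nonempty ι] (hF : 3 ≤ Fintype.card F) (g : G) :
    ∃ x t : G, D.St (x * g * x⁻¹) t := by
  suffices h : ∀ g : G, ∃ u ∈ D.U, ∃ t, D.St (u * g) t by
    obtain ⟨u, hu, t, ht, v, hv, u', hu', e⟩ := h g
    refine ⟨u, t, ht, v, hv, u' * u⁻¹, mul_mem hu' (inv_mem hu), ?_⟩
    rw [e]; group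
  intro g
  -- left multiplication by a lower root element
  have hlow : ∀ (i : ι) (a : F) (x : G), (∃ u ∈ D.U, ∃ t, D.St (u * x) t) →
      ∃ u ∈ D.U, ∃ t, D.St (u * (D.φ i (low a) * x)) t := by
    intro i a x hx
    -- the good first coordinates cover all but one value
    obtain ⟨r, u', hu', t, hgood, hra⟩ : ∃ r : F, ∃ u' ∈ D.Uc i, ∃ t,
        D.St (D.φ i (up r) * u' * x) t ∧ 1 + r * -a ≠ 0 := by
      obtain ⟨u, hu, t, ht, v, hv, w, hw, e⟩ := hx
      obtain ⟨r, u', hu', rfl⟩ := D.split_U i u hu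
      obtain ⟨d, v', hv', rfl⟩ := D.split_V i v hv
      by_cases hr : 1 + r * -a ≠ 0
      · exact ⟨r, u', hu', t, ⟨ht, _, hv, w, hw, e⟩, hr⟩
      push Not at hr
      -- shift by a suitable `s`
      classical
      obtain ⟨s, hs⟩ : ∃ s : F, s ∉ ({0, -d⁻¹} : Finset F) := by
        obtain ⟨s, -, hs⟩ := Finset.exists_mem_notMem_of_card_lt_card
          (s := ({0, -d⁻¹} : Finset F)) (t := Finset.univ) (lt_of_le_of_lt Finset.card_le_two hF)
        exact ⟨s, hs⟩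
      simp only [Finset.mem_insert, Finset.mem_singleton, not_or] at hs
      have hsd : 1 + s * d ≠ 0 := by
        intro h
        rcases eq_or_ne d 0 with rfl | hd
        · simp at h
        · exact hs.2 (by field_simp; linear_combination h)
      obtain ⟨b', a', c', e'⟩ := up_mul_low s d hsd
      refine ⟨s + r, u', hu', D.φ i (dg c') * t, ⟨mul_mem (D.dg_mem i c') ht,
        D.φ i (low b') * ((D.φ i (dg c') * D.φ i (up a')) * v' * (D.φ i (dg c') * D.φ i (up a'))⁻¹),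
        mul_mem (D.low_mem i b') (D.Vc_le i ?_),
        (t⁻¹ * D.φ i (up a') * t) * w, mul_mem ?_ hw, ?_⟩, ?_⟩
      · rw [← map_mul]; exact D.conj_Vc i _ v' hv'
      · have := D.T_U (inv_mem ht) (D.up_mem i a')
        rwa [inv_inv] at this
      · rw [← up_add, map_mul, mul_assoc (D.φ i (up s)), mul_assoc (D.φ i (up s)), e,
          show D.φ i (up s) * (D.φ i (low d) * v' * t * w) =
            (D.φ i (up s) * D.φ i (low d)) * v' * t * w by group, ← map_mul, e', map_mul, map_mul]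
        group
      · intro h
        have ha : a ≠ 0 := by rintro rfl; simp at hr
        exact hs.1 (mul_right_cancel₀ (neg_ne_zero.2 ha) (by linear_combination h - hr))
    -- `u' low a = up ... low`
    obtain ⟨ht, v, hv, w, hw, e⟩ := hgood
    obtain ⟨b', a', c', e'⟩ : ∃ b' a' : F, ∃ c' : Fˣ,
        up r * low (-a) = low b' * dg c' * up a' := up_mul_low r (-a) hra
    refine ⟨D.φ i (up a') * (D.φ i (low a) * u' * (D.φ i (low a))⁻¹),
      mul_mem (D.up_mem i _) (D.Uc_le i (D.conj_Uc i _ u' hu')),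
      (D.φ i (dg c'))⁻¹ * t, mul_mem (inv_mem (D.dg_mem i c')) ht,
      (D.φ i (dg c'))⁻¹ * (D.φ i (low (-b')) * v) * D.φ i (dg c'), ?_, w, hw, ?_⟩
    · have := D.T_V (inv_mem (D.dg_mem i c')) (mul_mem (D.low_mem i (-b')) hv)
      rwa [inv_inv] at this
    have e2 : up a' * low a = (dg c')⁻¹ * low (-b') * up r := by
      have h2 : up a' = (dg c')⁻¹ * (low b')⁻¹ * (up r * low (-a)) := by rw [e']; group
      rw [h2, low_inv, mul_assoc, mul_assoc (up r), low_add, neg_add_cancel, low_zero, mul_one]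
    calc _ = D.φ i (up a') * D.φ i (low a) * (u' * x) := by group
      _ = (D.φ i (dg c'))⁻¹ * D.φ i (low (-b')) * (D.φ i (up r) * u' * x) := by
        rw [← map_mul, e2]; simp only [map_mul, map_inv, mul_assoc]
      _ = _ := by rw [e]; group
  have hup : ∀ (i : ι) (a : F) (x : G), (∃ u ∈ D.U, ∃ t, D.St (u * x) t) →
      ∃ u ∈ D.U, ∃ t, D.St (u * (D.φ i (up a) * x)) t := by
    rintro i a x ⟨u, hu, t, h⟩
    exact ⟨u * (D.φ i (up a))⁻¹, mul_mem hu (inv_mem (D.up_mem i a)), t,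
      by rwa [mul_assoc, inv_mul_cancel_left]⟩
  have hgen : Subgroup.closure (⋃ i, Set.range (fun a => D.φ i (up a)) ∪
      Set.range (fun a => D.φ i (low a))) = ⊤ := by
    rw [eq_top_iff, ← D.gen, Subgroup.closure_le]
    simp only [Set.iUnion_subset_iff]
    rintro i _ ⟨y, rfl⟩
    rw [SetLike.mem_coe, ← Subgroup.mem_comap]
    refine (show (⊤ : Subgroup (SpecialLinearGroup (Fin 2) F)) ≤ _ from ?_) (Subgroup.mem_top y)
    rw [← Cfsg.Agent.ClassicalSL.closure_elemTransvections, Subgroup.closure_le]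
    rintro _ ⟨p, q, hpq, r, rfl⟩
    rcases transvection_cases hpq r with e | e <;>
      refine Subgroup.subset_closure (Set.mem_iUnion.2 ⟨i, ?_⟩)
    exacts [Or.inl ⟨r, congrArg (D.φ i) e.symm⟩, Or.inr ⟨r, congrArg (D.φ i) e.symm⟩]
  induction (show g ∈ Subgroup.closure _ by rw [hgen]; trivial) using
    Subgroup.closure_induction_left with
  | one => exact ⟨1, one_mem _, 1, one_mem _, 1, one_mem _, 1, one_mem _, by simp⟩
  | mul_left x hx y _ hy =>
    obtain ⟨i, ⟨a, rfl⟩ | ⟨a, rfl⟩⟩ := Set.mem_iUnion.1 hx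
    · exact hup i a y hy
    · exact hlow i a y hy
  | inv_mul_cancel x hx y _ hy =>
    obtain ⟨i, ⟨a, rfl⟩ | ⟨a, rfl⟩⟩ := Set.mem_iUnion.1 hx
    · rw [← map_inv, up_inv]; exact hup i _ y hy
    · rw [← map_inv, low_inv]; exact hlow i _ y hy

end Datum

end Cfsg.Agent.ClassSquare
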