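/-
The rank one data of a Chevalley group given by a tabulated datum.
-/
import Cfsg.Agent.Lib.ClassSquare.Rank
import Cfsg.Agent.Lib.Lie.GoodW
import Cfsg.Agent.Lib.Lie.GoodS
import Cfsg.Agent.Lib.SL2Pres.Torus
import Cfsg.Agent.Lib.Lie.ChevLong
import Cfsg.Agent.Lib.Lie.CovMain

set_option autoImplicit false

namespace Cfsg.Agent.ClassSquare.Chev

open Cfsg.Lie Cfsg.Agent.Chev Cfsg.Agent.Chev.Tab
open Cfsg.Agent.SL2Pres (up low)
open Matrix (SpecialLinearGroup)

universe v

variable {T : Tab} {K : List (List ℕ)} {W : List (ℕ × ℕ × ℕ)} {F : Type v} [Field F]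

/-- All commutator terms of `r` with a set of roots stay in the set. -/
def normOK (T : Tab) (r : ℕ) (S : ℕ → Bool) : Bool :=
  allBelow (fun s => !S s || (!Nat.beq s (T.neg r) &&
    (Nat.beq s r || (T.cTerms r s).all fun c => S c.1))) T.n

/-- the set of roots picked by a test -/
def bset (T : Tab) (S : ℕ → Bool) : Set ℕ := {s | s < T.n ∧ S s = true}

/-- positive roots but one -/
def posEx (T : Tab) (i s : ℕ) : Bool := Nat.ble T.N s && !Nat.beq s (T.smp i)

/-- negative roots but one -/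
def negEx (T : Tab) (i s : ℕ) : Bool := Nat.blt s T.N && !Nat.beq s (T.neg (T.smp i))

/-- the checks for the rank one data -/
def checkDatum (T : Tab) : Bool :=
  allBelow (fun i => normOK T (T.smp i) (posEx T i) && normOK T (T.neg (T.smp i)) (posEx T i) &&
    normOK T (T.smp i) (negEx T i) && normOK T (T.neg (T.smp i)) (negEx T i) &&
    decide (sumBelow (fun j => ((T.A i (T.smp j)).natAbs : ℤ)) T.l ≤ 6)) T.l

theorem normOK_spec (g : T.GoodA) {r : ℕ} (hr : r < T.n) {S : ℕ → Bool} (h : normOK T r S = true) (t : F) :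
    xg g.toGood r t ∈ Subgroup.normalizer (genS g.toGood F (bset T S) : Set (GL T.D.Idx F)) := by
  refine xg_normalizes g hr (fun s hs => ⟨hs.1, ?_, fun h1 c hc => ?_⟩) t
  all_goals have h' := allBelow_eq_true.1 h s hs.1
  all_goals simp only [hs.2, Bool.not_true, Bool.false_or, Bool.and_eq_true, Bool.not_eq_true',
    Bool.or_eq_true, nat_beq, nat_beq_false, List.all_eq_true] at h'
  · exact h'.1
  · exact ⟨(cTerms_mem g.toGood hr hs.1 hc).1, h'.2.resolve_left h1 c hc⟩

/-- Splitting off one root group. -/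
theorem split_one (g : T.Good) {r : ℕ} {S S' : Set ℕ} (hS : S' ⊆ insert r S)
    (hn : ∀ t : F, xg g r t ∈ Subgroup.normalizer (genS g F S : Set (GL T.D.Idx F)))
    {u : GL T.D.Idx F} (hu : u ∈ genS g F S') :
    ∃ a : F, ∃ y ∈ genS g F S, u = xg g r a * y := by
  refine genS_induction g (p := fun u => ∃ a : F, ∃ y ∈ genS g F S, u = xg g r a * y)
    ⟨0, 1, one_mem _, by simp⟩ ?_ hu
  rintro s hs t _ ⟨a, y, hy, rfl⟩
  rcases Set.mem_insert_iff.1 (hS hs) with rfl | hs'
  · exact ⟨t + a, y, hy, by rw [← mul_assoc, xg_add]⟩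
  · refine ⟨a, (xg g r a)⁻¹ * xg g s t * xg g r a * y, mul_mem ?_ hy, by group⟩
    have := (Subgroup.mem_normalizer_iff.1 (inv_mem (hn a)) _).1 (xg_mem_genS g hs' t)
    rwa [inv_inv] at this

theorem dg_eq (c : Fˣ) : (dg c : SpecialLinearGroup (Fin 2) F) =
    (up (c : F) * low (-(c : F)⁻¹) * up (c : F)) * (up (-1) * low 1 * up (-1)) := by
  apply Subtype.ext
  simp only [val_mul', dg_val, SL2Pres.up_val, SL2Pres.low_val, Matrix.mul_fin_two]
  simp

/-- The group. -/
abbrev Grp (T : Tab) (F : Type v) [Field F] : Subgroup (GL T.D.Idx F) := T.D.group F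

/-- `x_r(t)` in the group. -/
noncomputable def xG (g : T.Good) (r : ℕ) (t : F) : Grp T F := ⟨xg g r t, xg_mem_group g r t⟩

theorem exists_phi (g : T.GoodW K W) [Fintype F] {i : ℕ} (hi : i < T.l) :
    ∃ φ : SpecialLinearGroup (Fin 2) F →* Grp T F,
      (∀ t, φ (up t) = xG g.toGood (T.smp i) t) ∧ ∀ t, φ (low t) = xG g.toGood (T.neg (T.smp i)) t := by
  have hg := g.toGood
  have hr := hg.smp_lt hi
  have hrel : ∀ s < T.n, ∀ t u : F, t ≠ 0 →
      (xg hg s t * xg hg (T.neg s) (-t⁻¹) * xg hg s t) * xg hg s u *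
        (xg hg s t * xg hg (T.neg s) (-t⁻¹) * xg hg s t)⁻¹ = xg hg (T.neg s) (-(t⁻¹ ^ 2 * u)) :=
    fun s hs t u ht => by
      have h := congrArg (Tab.Cov.θ0 g.toGoodA F) (Tab.Cov.sn_conj_self g s hs t u ht)
      simpa [Tab.Cov.sn, Tab.Cov.θ0_sx] using h
  let D : SL2Pres.SData F (GL T.D.Idx F) :=
    { X := xg hg (T.smp i)
      Y := xg hg (T.neg (T.smp i))
      addX := xg_add hg _
      addY := xg_add hg _
      relX := hrel _ hr
      relY := fun t u ht => by
        have h := hrel _ (neg_lt hr) t u ht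
        rwa [Tab.neg_neg hr] at h }
  obtain ⟨f, hX, hY⟩ := SL2Pres.exists_hom D
  have hG : ∀ γ, f γ ∈ T.D.group F := fun γ => by
    have hle : Subgroup.closure (Set.range (up (K := F)) ∪ Set.range (low (K := F))) ≤
        (T.D.group F).comap f := by
      rw [Subgroup.closure_le]
      rintro z (⟨b, rfl⟩ | ⟨b, rfl⟩) <;> simp only [SetLike.mem_coe, Subgroup.mem_comap, hX, hY]
      · exact xg_mem_group hg _ b
      · exact xg_mem_group hg _ b
    exact hle (SL2Pres.closure_up_low (K := F) ▸ Subgroup.mem_top γ)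
  exact ⟨f.codRestrict _ hG, fun t => Subtype.ext (hX t), fun t => Subtype.ext (hY t)⟩

variable [Fintype F] (g : T.GoodW K W)

/-- The rank one homomorphism of a node. -/
noncomputable def phi (i : Fin T.l) : SpecialLinearGroup (Fin 2) F →* Grp T F :=
  Classical.choose (exists_phi g i.2)

theorem phi_up (i : Fin T.l) (t : F) : phi g i (up t) = xG g.toGood (T.smp i) t :=
  (Classical.choose_spec (exists_phi g i.2)).1 t

theorem phi_low (i : Fin T.l) (t : F) : phi g i (low t) = xG g.toGood (T.neg (T.smp i)) t :=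
  (Classical.choose_spec (exists_phi g i.2)).2 t

theorem phi_dg (i : Fin T.l) (c : Fˣ) :
    ((phi g i (dg c) : Grp T F) : GL T.D.Idx F) = hS T F i c := by
  rw [dg_eq, ← hE_smp g.toGood i.2 c]
  simp only [map_mul, phi_up, phi_low, Subgroup.coe_mul, xG, hE, nE]
  simp

theorem phi_n (i : Fin T.l) :
    ((phi g i (up (1 : F) * low (-1) * up 1) : Grp T F) : GL T.D.Idx F) = nG g.toGood F i := by
  simp only [map_mul, phi_up, phi_low, Subgroup.coe_mul, xG, nG]

omit [Fintype F] in
/-- A homomorphism of `SL₂` normalises what its root elements normalise. -/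
theorem hom_normalizes {G : Type*} [Group G] (f : SpecialLinearGroup (Fin 2) F →* G) (H : Subgroup G)
    (h1 : ∀ t, f (up t) ∈ Subgroup.normalizer (H : Set G))
    (h2 : ∀ t, f (low t) ∈ Subgroup.normalizer (H : Set G)) (x : SpecialLinearGroup (Fin 2) F) :
    f x ∈ Subgroup.normalizer (H : Set G) := by
  have hle : Subgroup.closure (Set.range (up (K := F)) ∪ Set.range (low (K := F))) ≤
      (Subgroup.normalizer (H : Set G)).comap f := by
    rw [Subgroup.closure_le]
    rintro z (⟨b, rfl⟩ | ⟨b, rfl⟩) <;> simp only [SetLike.mem_coe, Subgroup.mem_comap]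
    exacts [h1 b, h2 b]
  exact hle (SL2Pres.closure_up_low (K := F) ▸ Subgroup.mem_top x)

omit [Fintype F] in
theorem mem_normalizer_sub {G : Subgroup (GL T.D.Idx F)} {H : Subgroup (GL T.D.Idx F)} {x : G}
    (h : (x : GL T.D.Idx F) ∈ Subgroup.normalizer (H : Set (GL T.D.Idx F))) {u : G}
    (hu : u ∈ H.subgroupOf G) : x * u * x⁻¹ ∈ H.subgroupOf G := by
  rw [Subgroup.mem_subgroupOf] at hu ⊢
  simpa using (Subgroup.mem_normalizer_iff.1 h _).1 hu

theorem phi_normalizes {S : ℕ → Bool} (i : Fin T.l) (h1 : normOK T (T.smp i) S = true)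
    (h2 : normOK T (T.neg (T.smp i)) S = true) (x : SpecialLinearGroup (Fin 2) F) :
    ((phi g i x : Grp T F) : GL T.D.Idx F) ∈
      Subgroup.normalizer (genS g.toGood F (bset T S) : Set (GL T.D.Idx F)) := by
  refine hom_normalizes ((Subgroup.subtype _).comp (phi g i)) _ (fun t => ?_) (fun t => ?_) x
  · rw [MonoidHom.comp_apply, phi_up]
    exact normOK_spec g.toGoodA (g.toGood.smp_lt i.2) h1 t
  · rw [MonoidHom.comp_apply, phi_low]
    exact normOK_spec g.toGoodA (neg_lt (g.toGood.smp_lt i.2)) h2 t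

omit [Fintype F] in
/-- the diagonal entry at a simple root -/
noncomputable def wtI (g : T.Good) (i : Fin T.l) (x : GL T.D.Idx F) : Fˣ := by
  classical
  exact if h : (x : Matrix T.D.Idx T.D.Idx F) (Sum.inr ⟨T.smp i, by rw [g.nroots_eq]; exact g.smp_lt i.2⟩)
      (Sum.inr ⟨T.smp i, by rw [g.nroots_eq]; exact g.smp_lt i.2⟩) ≠ 0 then Units.mk0 _ h else 1

omit [Fintype F] in
theorem wtI_tor (g : T.Good) (i : Fin T.l) (c : ℕ → Fˣ) : wtI g i (tor T F c) = wt T F c (T.smp i) := by
  have e : (tor T F c : Matrix T.D.Idx T.D.Idx F) (Sum.inr ⟨T.smp i, by rw [g.nroots_eq]; exact g.smp_lt i.2⟩)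
      (Sum.inr ⟨T.smp i, by rw [g.nroots_eq]; exact g.smp_lt i.2⟩) = (wt T F c (T.smp i) : F) := by
    simp [tor_apply, Tab.dg_val, dgv]
  apply Units.ext
  rw [wtI, dif_pos (by rw [e]; exact Units.ne_zero _), Units.val_mk0, e]

omit [Fintype F] in
theorem tor_conj_xG (g : T.Good) (c : ℕ → Fˣ) {s : ℕ} (hs : s < T.n) (t : F) {x : Grp T F}
    (hx : (x : GL T.D.Idx F) = tor T F c) :
    x * xG g s t * x⁻¹ = xG g s ((wt T F c s : F) * t) := by
  apply Subtype.ext
  simp only [Subgroup.coe_mul, Subgroup.coe_inv, xG, hx]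
  exact tor_xg g c hs t

omit [Fintype F] in
theorem tor_norm_sub (g : T.Good) {S : ℕ → Bool} {x : Grp T F}
    (hx : x ∈ ((tor T F).range).subgroupOf (Grp T F)) {u : Grp T F}
    (hu : u ∈ (genS g F (bset T S)).subgroupOf (Grp T F)) :
    x * u * x⁻¹ ∈ (genS g F (bset T S)).subgroupOf (Grp T F) := by
  obtain ⟨c, hc⟩ := hx
  refine mem_normalizer_sub ?_ hu
  rw [show ((x : GL T.D.Idx F)) = tor T F c from hc.symm]
  exact tor_normalizes g (fun r hr => hr.1) c

omit [Fintype F] in
/-- the group generated by the elements `φ_i(n)` contains the long word -/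
theorem nWd_mem (g : T.GoodW K W) [Fintype F] : ∀ {L : List ℕ}, T.Wd L →
    ∃ x ∈ Submonoid.closure (Set.range fun i : Fin T.l => phi g i (up (1 : F) * low (-1) * up 1)),
      ((x : Grp T F) : GL T.D.Idx F) = nWd g.toGood F L
  | [], _ => ⟨1, one_mem _, by simp⟩
  | i :: L, h => by
    obtain ⟨hi, hL⟩ := Wd.cons_iff.1 h
    obtain ⟨x, hx, e⟩ := nWd_mem g hL
    refine ⟨phi g ⟨i, hi⟩ (up 1 * low (-1) * up 1) * x, mul_mem (Submonoid.subset_closure ⟨_, rfl⟩) hx, ?_⟩
    rw [Subgroup.coe_mul, e, phi_n, nWd_cons]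

omit [Fintype F] in
theorem conn_spec (hconn : T.checkConn = true) (S : Set (Fin T.l)) (h1 : S.Nonempty) (h2 : S ≠ Set.univ) :
    ∃ i ∈ S, ∃ j ∉ S, T.A i (T.smp j) ≠ 0 := by
  classical
  obtain ⟨a, ha⟩ := h1
  obtain ⟨b, hb⟩ := (Set.ne_univ_iff_exists_notMem S).1 h2
  let f : Fin T.l → Bool := fun k => decide (k ∈ S)
  have hbit : ∀ k (hk : k < T.l), Nat.testBit (Nat.ofBits f) k = decide ((⟨k, hk⟩ : Fin T.l) ∈ S) :=
    fun k hk => Nat.testBit_ofBits_lt f k hk
  have h := allBelow_eq_true.1 hconn (Nat.ofBits f) (Nat.ofBits_lt_two_pow f)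
  simp only [Bool.or_eq_true, Bool.not_eq_true'] at h
  rcases h with (h | h) | h
  · have : anyBelow (fun i => Nat.testBit (Nat.ofBits f) i) T.l = true :=
      anyBelow_eq_true.2 ⟨a, a.2, by rw [hbit a a.2]; simpa using ha⟩
    rw [this] at h; cases h
  · have : anyBelow (fun i => !Nat.testBit (Nat.ofBits f) i) T.l = true :=
      anyBelow_eq_true.2 ⟨b, b.2, by rw [hbit b b.2]; simpa using hb⟩
    rw [this] at h; cases h
  · obtain ⟨i, hi, h⟩ := anyBelow_eq_true.1 h
    obtain ⟨j, hj, h⟩ := anyBelow_eq_true.1 h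
    simp only [Bool.and_eq_true, Bool.not_eq_true', beq_eq_false_iff_ne, hbit i hi, hbit j hj,
      decide_eq_true_eq, decide_eq_false_iff_not] at h
    exact ⟨_, h.1.1, _, h.1.2, h.2⟩

/-- **The rank one data of a Chevalley group.** -/
noncomputable def datum (hconn : T.checkConn = true) (hc : checkDatum T = true) :
    Datum (Grp T F) F (Fin T.l) where
  φ := phi g
  U := (genS g.toGood F (Set.Ico T.N T.n)).subgroupOf _
  V := (genS g.toGood F (Set.Iio T.N)).subgroupOf _
  T := ((tor T F).range).subgroupOf _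
  Uc i := (genS g.toGood F (bset T (posEx T i))).subgroupOf _
  Vc i := (genS g.toGood F (bset T (negEx T i))).subgroupOf _
  α i x := wtI g.toGood i x.1
  A j i := T.A i (T.smp j)
  up_mem i a := by
    rw [phi_up, Subgroup.mem_subgroupOf]
    exact xg_mem_genS (F := F) (S := Set.Ico T.N T.n) g.toGood ⟨g.toGood.smp_ge i.2, g.toGood.smp_lt i.2⟩ a
  low_mem i a := by
    rw [phi_low, Subgroup.mem_subgroupOf]
    exact xg_mem_genS (F := F) (S := Set.Iio T.N) g.toGood
      ((neg_lt_N_iff (g.toGood.smp_lt i.2)).2 (g.toGood.smp_ge i.2)) a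
  Uc_le i := Subgroup.comap_mono (genS_mono g.toGood fun s hs => by
    obtain ⟨h1, h2⟩ := hs
    simp only [posEx, Bool.and_eq_true, nat_ble] at h2
    exact ⟨h2.1, h1⟩)
  Vc_le i := Subgroup.comap_mono (genS_mono g.toGood fun s hs => by
    obtain ⟨h1, h2⟩ := hs
    simp only [negEx, Bool.and_eq_true, nat_blt] at h2
    exact h2.1)
  split_U i u hu := by
    have h := allBelow_eq_true.1 hc i i.2
    simp only [Bool.and_eq_true] at h
    obtain ⟨a, y, hy, e⟩ := split_one g.toGood (r := T.smp i) (S := bset T (posEx T i)) (fun s hs => by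
      by_cases e : s = T.smp i
      · exact Or.inl e
      · refine Or.inr ⟨hs.2, ?_⟩
        simp [posEx, nat_ble.2 hs.1, nat_beq_false.2 e])
      (fun t => normOK_spec g.toGoodA (g.toGood.smp_lt i.2) h.1.1.1.1 t) hu
    have hyG : y ∈ T.D.group F := by
      have : y = (xg g.toGood (T.smp i) a)⁻¹ * u.1 := by rw [show u.1 = _ from e, inv_mul_cancel_left]
      rw [this]; exact mul_mem (inv_mem (xg_mem_group _ _ _)) u.2
    exact ⟨a, ⟨y, hyG⟩, hy, Subtype.ext (by rw [phi_up]; exact e)⟩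
  split_V i u hu := by
    have h := allBelow_eq_true.1 hc i i.2
    simp only [Bool.and_eq_true] at h
    obtain ⟨a, y, hy, e⟩ := split_one g.toGood (r := T.neg (T.smp i)) (S := bset T (negEx T i)) (fun s hs => by
      by_cases e : s = T.neg (T.smp i)
      · exact Or.inl e
      · refine Or.inr ⟨lt_of_lt_of_le (show s < T.N from hs) (by rw [n_def]; omega), ?_⟩
        simp [negEx, nat_blt.2 (show s < T.N from hs), nat_beq_false.2 e])
      (fun t => normOK_spec g.toGoodA (neg_lt (g.toGood.smp_lt i.2)) h.1.2 t) hu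
    have hyG : y ∈ T.D.group F := by
      have : y = (xg g.toGood (T.neg (T.smp i)) a)⁻¹ * u.1 := by rw [show u.1 = _ from e, inv_mul_cancel_left]
      rw [this]; exact mul_mem (inv_mem (xg_mem_group _ _ _)) u.2
    exact ⟨a, ⟨y, hyG⟩, hy, Subtype.ext (by rw [phi_low]; exact e)⟩
  conj_Uc i x u hu := by
    have h := allBelow_eq_true.1 hc i i.2
    simp only [Bool.and_eq_true] at h
    exact mem_normalizer_sub (phi_normalizes g i h.1.1.1.1 h.1.1.1.2 x) hu
  conj_Vc i x u hu := by
    have h := allBelow_eq_true.1 hc i i.2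
    simp only [Bool.and_eq_true] at h
    exact mem_normalizer_sub (phi_normalizes g i h.1.1.2 h.1.2 x) hu
  T_Uc i t ht u hu := tor_norm_sub g.toGood ht hu
  T_Vc i t ht u hu := tor_norm_sub g.toGood ht hu
  T_comm s hs t ht := by
    obtain ⟨c, hc⟩ := hs
    obtain ⟨d, hd⟩ := ht
    apply Subtype.ext
    simp only [Subgroup.coe_mul, show s.1 = tor T F c from hc.symm, show t.1 = tor T F d from hd.symm,
      ← map_mul, mul_comm]
  T_eq := by
    apply le_antisymm
    · rintro x ⟨c, hx⟩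
      let f : ℕ → Grp T F := fun i => if h : i < T.l then phi g ⟨i, h⟩ (dg (c i)) else 1
      have e : x = ((List.range T.l).map f).prod := by
        apply Subtype.ext
        rw [show x.1 = tor T F c from hx.symm, tor_eq_prod g.toGood, Subgroup.val_list_prod, List.map_map]
        congr 1
        refine List.map_congr_left fun i hi => ?_
        have hi' := List.mem_range.1 hi
        simp only [f, Function.comp_apply, dif_pos hi', phi_dg]
      rw [e]
      refine Subgroup.list_prod_mem _ fun y hy => ?_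
      obtain ⟨i, hi, rfl⟩ := List.mem_map.1 hy
      simp only [f, dif_pos (List.mem_range.1 hi)]
      exact Subgroup.subset_closure ⟨(⟨i, _⟩, c i), rfl⟩
    · rw [Subgroup.closure_le]
      rintro _ ⟨⟨i, c⟩, rfl⟩
      exact ⟨_, (phi_dg g i c).symm⟩
  conj_up i t ht a := by
    obtain ⟨c, hc⟩ := ht
    rw [phi_up, phi_up, show t.1 = tor T F c from hc.symm, wtI_tor]
    exact tor_conj_xG g.toGood c (g.toGood.smp_lt i.2) a hc.symm
  conj_low i t ht a := by
    obtain ⟨c, hc⟩ := ht
    rw [phi_low, phi_low, show t.1 = tor T F c from hc.symm, wtI_tor]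
    have := tor_conj_xG g.toGood c (neg_lt (g.toGood.smp_lt i.2)) a hc.symm
    rwa [wt_neg g.toGood (g.toGood.smp_lt i.2)] at this
  α_mul i s hs t ht := by
    obtain ⟨c, hc⟩ := hs
    obtain ⟨d, hd⟩ := ht
    rw [Subgroup.coe_mul, show s.1 = tor T F c from hc.symm, show t.1 = tor T F d from hd.symm, ← map_mul,
      wtI_tor, wtI_tor, wtI_tor, wt_mul]
  α_dg i j c := by
    rw [phi_dg, hS, wtI_tor, wt_single g.toGood i.2]
  A_self i := A_smp_self g.toGood i.2
  A_sum i := by
    have h := allBelow_eq_true.1 hc i i.2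
    simp only [Bool.and_eq_true, decide_eq_true_eq, sumBelow_eq_sum] at h
    have := h.2
    rw [← Fin.sum_univ_eq_sum_range (fun j => ((T.A i (T.smp j)).natAbs : ℤ))] at this
    exact_mod_cast this
  connected S h1 h2 := conn_spec hconn S h1 h2
  gen := by
    rw [eq_top_iff]
    intro x _
    have hle : T.D.group F ≤ (Subgroup.closure (⋃ i, ((phi (F := F) g i).range : Set (Grp T F)))).map (Subgroup.subtype _) := by
      refine group_le_of_simple g.toGood (fun i hi t => ?_) (fun i hi => ?_)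
      · exact ⟨phi g ⟨i, hi⟩ (up t), Subgroup.subset_closure (Set.mem_iUnion.2 ⟨⟨i, hi⟩, _, rfl⟩),
          by rw [phi_up]; rfl⟩
      · exact ⟨phi g ⟨i, hi⟩ (up 1 * low (-1) * up 1),
          Subgroup.subset_closure (Set.mem_iUnion.2 ⟨⟨i, hi⟩, _, rfl⟩), phi_n g ⟨i, hi⟩⟩
    obtain ⟨y, hy, e⟩ := hle x.2
    rwa [show x = y from Subtype.ext e.symm]
  coreU u hu h := by
    obtain ⟨L, hL, hneg, -⟩ := exists_longest g.toGood
    obtain ⟨x, hx, e⟩ := nWd_mem (F := F) g hL
    have h1 : nWd g.toGood F L * u.1 * (nWd g.toGood F L)⁻¹ ∈ genS g.toGood F (Set.Ico T.N T.n) := by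
      rw [← e]; exact h x hx
    have h2 : nWd g.toGood F L * u.1 * (nWd g.toGood F L)⁻¹ ∈ genS g.toGood F (Set.Iio T.N) := by
      refine genS_mono g.toGood ?_ ((genS_map_nWd g.toGood hL (fun r hr => hr.2)).le
        (Subgroup.mem_map_of_mem _ hu))
      rintro _ ⟨s, hs, rfl⟩
      exact hneg s hs.1 hs.2
    have h3 := borel_inf_neg g.toGood (genS_pos_le_borel g.toGood (fun r hr => hr) h1) h2
    exact Subtype.ext (conj_eq_one_iff.1 h3)
  coreV u hu h := by
    obtain ⟨L, hL, hneg, -⟩ := exists_longest g.toGood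
    obtain ⟨x, hx, e⟩ := nWd_mem (F := F) g hL
    have h1 : nWd g.toGood F L * u.1 * (nWd g.toGood F L)⁻¹ ∈ genS g.toGood F (Set.Iio T.N) := by
      rw [← e]; exact h x hx
    have hn : ∀ r ∈ Set.Iio T.N, r < T.n := fun r hr => lt_of_lt_of_le (show r < T.N from hr) (by rw [n_def]; omega)
    have h2 : nWd g.toGood F L * u.1 * (nWd g.toGood F L)⁻¹ ∈ genS g.toGood F (Set.Ico T.N T.n) := by
      refine genS_mono g.toGood ?_ ((genS_map_nWd g.toGood hL hn).le (Subgroup.mem_map_of_mem _ hu))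
      rintro _ ⟨s, hs, rfl⟩
      have hs' := hn s hs
      refine ⟨?_, rw'_lt g.toGood hL hs'⟩
      have := hneg (T.neg s) ((N_le_neg_iff hs').2 hs) (neg_lt hs')
      rw [rw'_neg g.toGood hL hs', neg_lt_N_iff (rw'_lt g.toGood hL hs')] at this
      exact this
    have h3 := borel_inf_neg g.toGood (genS_pos_le_borel g.toGood (fun r hr => hr) h2) h1
    exact Subtype.ext (conj_eq_one_iff.1 h3)

end Cfsg.Agent.ClassSquare.Chev
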