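/-
Certificates for a parabolic subgroup with Levi part of type A in a tabulated Chevalley group.
-/
import Cfsg.Agent.Lib.ClassSquare.ChevDatum
import Cfsg.Agent.Lib.Lie.ChevTwoGen
import Cfsg.Agent.Lib.Lie.ChevParabolic
import Cfsg.Agent.Lib.SLPres.Main

set_option autoImplicit false

namespace Cfsg.Agent.ClassSquare.Chev

open Cfsg.Lie Cfsg.Agent.Chev Cfsg.Agent.Chev.Tab
open Cfsg.Agent.SL2Pres (up low)
open Matrix (SpecialLinearGroup)

universe v

/-- A certificate: the exponents of the torus element, the chains of nodes of the Levi part,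
cocharacters, and a word for the longest Weyl element. -/
structure Cfg where
  lam : List ℤ
  chains : List (List ℕ)
  vs : List (List ℤ)
  L : List ℕ

/-- the root of a bracket, with its sign -/
def combine (T : Tab) (a b : ℕ × ℤ) : ℕ × ℤ :=
  ((((T.cTerms b.1 a.1).headD (0, 0, 0, 0))).1, -((T.cTerms b.1 a.1).headD (0, 0, 0, 0)).2.1 * a.2 * b.2)

/-- the positive root of the positions `i`, `i + d + 1` of a chain -/
def rsUp (T : Tab) (c : List ℕ) (i : ℕ) : ℕ → ℕ × ℤ
  | 0 => (T.smp (c.getD i 0), 1)
  | d + 1 => combine T (rsUp T c i d) (T.smp (c.getD (i + d + 1) 0), 1)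

/-- the negative root of the positions `i`, `i - d - 1` of a chain -/
def rsDn (T : Tab) (c : List ℕ) (i : ℕ) : ℕ → ℕ × ℤ
  | 0 => (T.neg (T.smp (c.getD (i - 1) 0)), 1)
  | d + 1 => combine T (rsDn T c i d) (T.neg (T.smp (c.getD (i - d - 2) 0)), 1)

/-- the root and sign at a position -/
def rs (T : Tab) (c : List ℕ) (i j : ℕ) : ℕ × ℤ :=
  bif Nat.blt i j then rsUp T c i (j - i - 1) else rsDn T c i (i - j - 1)

/-- two root groups commute -/
def comP (T : Tab) (r s : ℕ) : Bool :=
  Nat.beq r s || (!Nat.beq s (T.neg r) && (T.cTerms r s).isEmpty)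

/-- one commutator term -/
def one1 (L : List (ℕ × ℤ × ℕ × ℕ)) (k : ℕ) (σ τ : ℤ) : Bool :=
  match L with
  | [(k', C, p, q)] => Nat.beq k' k && Nat.beq p 1 && Nat.beq q 1 && (-C * σ == τ)
  | _ => false

/-- the Steinberg relations of a chain -/
def checkSL (T : Tab) (c : List ℕ) : Bool :=
  allBelow (fun i => allBelow (fun j => Nat.beq i j ||
    (Nat.blt (rs T c i j).1 T.n &&
     allBelow (fun k => allBelow (fun l => Nat.beq k l || Nat.beq i l || Nat.beq j k ||
       comP T (rs T c i j).1 (rs T c k l).1) (c.length + 1)) (c.length + 1) &&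
     allBelow (fun l => Nat.beq j l || Nat.beq i l ||
       (!Nat.beq (rs T c i j).1 (rs T c j l).1 &&
        !Nat.beq (rs T c i j).1 (T.neg (rs T c j l).1) &&
        one1 (T.cTerms (rs T c j l).1 (rs T c i j).1) (rs T c i l).1
          ((rs T c i j).2 * (rs T c j l).2) (rs T c i l).2)) (c.length + 1))) (c.length + 1)) (c.length + 1)

/-- a test on all positions of all chains -/
def allRoots (C : Cfg) (p : ℕ → ℕ → ℕ → Bool) : Bool :=
  allBelow (fun b => allBelow (fun i => allBelow (fun j => Nat.beq i j || p b i j)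
    ((C.chains.getD b []).length + 1)) ((C.chains.getD b []).length + 1)) C.chains.length

/-- some position of some chain -/
def anyRoots (C : Cfg) (p : ℕ → ℕ → ℕ → Bool) : Bool :=
  anyBelow (fun b => anyBelow (fun i => anyBelow (fun j => !Nat.beq i j && p b i j)
    ((C.chains.getD b []).length + 1)) ((C.chains.getD b []).length + 1)) C.chains.length

/-- root at a position -/
def Cfg.rt (C : Cfg) (T : Tab) (b i j : ℕ) : ℕ × ℤ := rs T (C.chains.getD b []) i j

/-- the nodes of the Levi part -/
def Cfg.inNodes (C : Cfg) (k : ℕ) : Bool := C.chains.flatten.any (Nat.beq k)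

/-- the set of nodes of the Levi part -/
def Cfg.J (C : Cfg) : Set ℕ := {k | C.inNodes k = true}

/-- roots outside the Levi part -/
def Cfg.out (C : Cfg) (T : Tab) (s : ℕ) : Bool :=
  anyBelow (fun k => !C.inNodes k && !(T.c s k == 0)) T.l

/-- positive roots of the radical -/
def Cfg.outP (C : Cfg) (T : Tab) (s : ℕ) : Bool := Nat.ble T.N s && C.out T s

/-- negative roots of the opposite radical -/
def Cfg.outN (C : Cfg) (T : Tab) (s : ℕ) : Bool := Nat.blt s T.N && C.out T s

/-- roots and root data of the Levi part -/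
def checkLevi (T : Tab) (C : Cfg) : Bool :=
  allBelow (fun b => checkSL T (C.chains.getD b []) &&
    (C.chains.getD b []).all (fun p => Nat.blt p T.l)) C.chains.length &&
  allRoots C (fun b i j =>
    Nat.blt (C.rt T b i j).1 T.n && !C.out T (C.rt T b i j).1 &&
    ((C.rt T b i j).2 == 1 || (C.rt T b i j).2 == -1) &&
    (bif Nat.blt i j then Nat.ble T.N (C.rt T b i j).1 else Nat.blt (C.rt T b i j).1 T.N) &&
    normOK T (C.rt T b i j).1 (C.outP T) && normOK T (C.rt T b i j).1 (C.outN T) &&
    allRoots C (fun b' i' j' => Nat.beq b b' || comP T (C.rt T b i j).1 (C.rt T b' i' j').1)) &&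
  allBelow (fun s => C.out T s || anyRoots C (fun b i j =>
    Nat.beq (C.rt T b i j).1 s && (bif Nat.ble T.N s then Nat.blt i j else Nat.blt j i))) T.n

/-- the torus element -/
def checkTorus (T : Tab) (C : Cfg) : Bool :=
  allBelow (fun s => bif C.out T s then
      (bif Nat.ble T.N s then decide (0 < T.eVal C.lam s ∧ T.eVal C.lam s < 8)
        else decide (-8 < T.eVal C.lam s ∧ T.eVal C.lam s < 0))
    else T.eVal C.lam s == 0) T.n

/-- exponent along a chain -/
def Cfg.ev (C : Cfg) (T : Tab) (v : List ℤ) (b i : ℕ) : ℤ :=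
  bif Nat.beq i (C.chains.getD b []).length then 0
  else T.eVal v (C.rt T b i (C.chains.getD b []).length).1

/-- the cocharacters -/
def checkVs (T : Tab) (C : Cfg) : Bool :=
  allBelow (fun b => allRoots C (fun b' i j =>
      T.eVal (C.vs.getD b []) (C.rt T b' i j).1 == C.ev T (C.vs.getD b []) b' i - C.ev T (C.vs.getD b []) b' j) &&
    allBelow (fun b' => (sumBelow (fun i => C.ev T (C.vs.getD b []) b' i) ((C.chains.getD b' []).length + 1) -
      (if b = b' then 1 else 0)) % (((C.chains.getD b' []).length + 1 : ℕ) : ℤ) == 0) C.chains.length)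
    C.chains.length

/-- the Weyl element -/
def checkWeyl (T : Tab) (C : Cfg) : Bool :=
  C.L.all (fun i => Nat.blt i T.l) &&
  allBelow (fun s => (T.eVal C.lam (T.rw' C.L s) == -T.eVal C.lam s) &&
    (bif Nat.ble T.N s then Nat.blt (T.rw' C.L s) T.N else Nat.ble T.N (T.rw' C.L s)) &&
    (C.out T (T.rw' C.L s) == C.out T s)) T.n &&
  allBelow (fun b => allBelow (fun i => anyRoots C (fun b' i' j' => Nat.beq i' (j' + 1) &&
    Nat.beq (T.rw' C.L (C.rt T b i (i + 1)).1) (C.rt T b' i' j').1))
      (C.chains.getD b []).length) C.chains.length &&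
  allBelow (fun b' => allBelow (fun j' => anyBelow (fun b => anyBelow (fun i =>
    Nat.beq (T.rw' C.L (C.rt T b i (i + 1)).1) (C.rt T b' (j' + 1) j').1)
      (C.chains.getD b []).length) C.chains.length) (C.chains.getD b' []).length) C.chains.length

/-- different positions have different roots -/
def checkInj (T : Tab) (C : Cfg) : Bool :=
  allRoots C (fun b i j => allRoots C (fun b' i' j' => !Nat.beq (C.rt T b i j).1 (C.rt T b' i' j').1 ||
    (Nat.beq b b' && Nat.beq i i' && Nat.beq j j')))

/-- all checks -/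
structure Cfg.Ok (C : Cfg) (T : Tab) : Prop where
  datum : checkDatum T = true
  conn : T.checkConn = true
  levi : checkLevi T C = true
  torus : checkTorus T C = true
  cochar : checkVs T C = true
  weyl : checkWeyl T C = true
  inj : checkInj T C = true

end Cfsg.Agent.ClassSquare.Chev
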