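/-
Choice of a vector and a functional for the factorisation of a matrix into two regular unipotents.
-/
import Mathlib

set_option autoImplicit false

namespace Cfsg.Agent.ClassSquare

open Matrix

variable {F : Type*} [Field F] [Fintype F] {n : ℕ}

/-- Not scalar, and `x - 1` has rank at least two. -/
def Gen (x : Matrix (Fin n) (Fin n) F) : Prop :=
  (∀ a : F, x ≠ a • 1) ∧ ∀ u : Fin n → F, ∃ y, ∀ a : F, (x - 1) *ᵥ y ≠ a • u

theorem card_mul_le_of_dir {S A : Finset (Fin n → F)} {d : Fin n → F} (φ : (Fin n → F) → F)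
    (hφ : ∀ (y : Fin n → F) (a : F), φ (y + a • d) = φ y + a) (c : F) (hS : ∀ y ∈ S, φ y = c)
    (hA : ∀ y ∈ S, ∀ a : F, y + a • d ∈ A) : S.card * Fintype.card F ≤ A.card := by
  rw [← Finset.card_univ, ← Finset.card_product]
  refine Finset.card_le_card_of_injOn (fun p => p.1 + p.2 • d) (fun p hp => ?_) ?_
  · simp only [Finset.coe_product, Set.mem_prod, Finset.mem_coe] at hp
    exact hA p.1 hp.1 p.2
  · intro p hp q hq e
    simp only [Finset.coe_product, Set.mem_prod, Finset.mem_coe] at hp hq
    have e1 := congrArg φ e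
    simp only [hφ, hS p.1 hp.1, hS q.1 hq.1, add_right_inj] at e1
    simp only [e1, add_left_inj] at e
    exact Prod.ext e e1

/-- A proper subspace is small. -/
theorem card_sub_le [DecidableEq F] (P : Submodule F (Fin n → F)) (hP : P ≠ ⊤)
    (S : Finset (Fin n → F)) (hS : ∀ y ∈ S, y ∈ P) :
    S.card * Fintype.card F ≤ Fintype.card (Fin n → F) := by
  classical
  obtain ⟨d, hd⟩ : ∃ d, d ∉ P := by
    by_contra hno
    push Not at hno
    exact hP ((Submodule.eq_top_iff').2 hno)
  rw [← Finset.card_univ, ← Finset.card_univ, ← Finset.card_product]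
  refine Finset.card_le_card_of_injOn (fun p => p.1 + p.2 • d) (fun p _ => Finset.mem_univ _) ?_
  intro p hp q hq e
  simp only [Finset.coe_product, Set.mem_prod, Finset.mem_coe] at hp hq
  by_contra hne
  have h2 : p.2 ≠ q.2 := fun h => hne (Prod.ext (by simpa [h] using e) h)
  refine hd ?_
  have h3 : (p.2 - q.2) • d = q.1 - p.1 := by
    rw [sub_smul]
    linear_combination (norm := module) e
  have h4 : (p.2 - q.2) • d ∈ P := h3 ▸ P.sub_mem (hS _ hq.1) (hS _ hp.1)
  exact (P.smul_mem_iff (sub_ne_zero.2 h2)).1 h4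

/-- The eigenvectors of a non-scalar matrix are few. -/
theorem card_eigen_le [DecidableEq F] (M : Matrix (Fin n) (Fin n) F) (hM : ∀ a : F, M ≠ a • 1)
    (S : Finset (Fin n → F)) (hS : ∀ y ∈ S, ∃ a : F, M *ᵥ y = a • y) :
    S.card * Fintype.card F ≤ 2 * Fintype.card (Fin n → F) := by
  classical
  obtain ⟨u, hu⟩ : ∃ u, ∀ a : F, M *ᵥ u ≠ a • u := by
    by_contra hno
    push Not at hno
    obtain ⟨a, ha⟩ := (LinearMap.exists_eq_smul_id_of_forall_notLinearIndependent (f := M.mulVecLin)
      (fun v => by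
        rw [LinearIndependent.pair_iff]
        push Not
        obtain ⟨a, ha⟩ := hno v
        exact ⟨a, -1, by simp [ha], fun _ => by norm_num⟩))
    exact hM a (Matrix.ext_of_mulVec_single fun i => by
      have := DFunLike.congr_fun ha (Pi.single i 1)
      rw [Matrix.smul_mulVec, Matrix.one_mulVec]
      simpa using this)
  -- each coset of the line of `u` contains at most two eigenvectors
  have hfib : ∀ z, ((S ×ˢ (Finset.univ : Finset F)).filter fun p => p.1 + p.2 • u = z).card ≤ 2 := by
    intro z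
    by_contra hlt
    push Not at hlt
    obtain ⟨p, hp, q, hq, o, ho, hpq, hpo, hqo⟩ := Finset.two_lt_card.1 hlt
    simp only [Finset.mem_filter, Finset.mem_product, Finset.mem_univ, and_true] at hp hq ho
    have hinj : ∀ a b : (Fin n → F) × F, a.1 + a.2 • u = z → b.1 + b.2 • u = z → a.2 = b.2 → a = b :=
      fun a b ha hb h => Prod.ext (by rw [← hb, h] at ha; exact add_right_cancel ha) h
    have ea : p.2 ≠ q.2 := fun h => hpq (hinj p q hp.2 hq.2 h)
    have eb : p.2 ≠ o.2 := fun h => hpo (hinj p o hp.2 ho.2 h)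
    have ec : q.2 ≠ o.2 := fun h => hqo (hinj q o hq.2 ho.2 h)
    have key : ∀ a : (Fin n → F) × F, a.1 ∈ S → a.1 + a.2 • u = z →
        ∃ l : F, M *ᵥ z - a.2 • (M *ᵥ u) = l • z - (l * a.2) • u := fun a ha e => by
      obtain ⟨l, hl⟩ := hS _ ha
      refine ⟨l, ?_⟩
      rw [← e, Matrix.mulVec_add, Matrix.mulVec_smul, hl]
      module
    obtain ⟨l1, h1⟩ := key p hp.1 hp.2
    obtain ⟨l2, h2⟩ := key q hq.1 hq.2
    obtain ⟨l3, h3⟩ := key o ho.1 ho.2
    -- eliminate `M z`
    have e12 : (q.2 - p.2) • (M *ᵥ u) = (l1 - l2) • z + (l2 * q.2 - l1 * p.2) • u := by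
      linear_combination (norm := module) h1 - h2
    have e13 : (o.2 - p.2) • (M *ᵥ u) = (l1 - l3) • z + (l3 * o.2 - l1 * p.2) • u := by
      linear_combination (norm := module) h1 - h3
    set A := (o.2 - p.2) * (l1 - l2) - (q.2 - p.2) * (l1 - l3) with hA
    set B := (q.2 - p.2) * (l3 * o.2 - l1 * p.2) - (o.2 - p.2) * (l2 * q.2 - l1 * p.2) with hB
    have e : A • z = B • u := by
      rw [hA, hB]
      linear_combination (norm := module) (q.2 - p.2) • e13 - (o.2 - p.2) • e12
    by_cases hA0 : A = 0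
    · by_cases hu0 : u = 0
      · exact hu 0 (by simp [hu0])
      have hB0 : B = 0 := by
        rw [hA0, zero_smul] at e
        exact (smul_eq_zero.1 e.symm).resolve_right hu0
      rw [hA] at hA0
      rw [hB] at hB0
      have h12 : l1 = l2 := by
        have : (l1 - l2) * ((o.2 - p.2) * (o.2 - q.2)) = 0 := by linear_combination o.2 * hA0 - hB0
        simpa [sub_eq_zero, eb.symm, ec.symm] using this
      rw [h12, sub_self, zero_smul, zero_add, show l2 * q.2 - l2 * p.2 = (q.2 - p.2) * l2 by ring,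
        mul_smul] at e12
      exact hu l2 (smul_right_injective _ (sub_ne_zero.2 ea.symm) e12)
    · have hz : z = (A⁻¹ * B) • u := by rw [mul_smul, ← e, smul_smul, inv_mul_cancel₀ hA0, one_smul]
      refine hu ((q.2 - p.2)⁻¹ * ((l1 - l2) * (A⁻¹ * B) + (l2 * q.2 - l1 * p.2))) ?_
      have := congrArg ((q.2 - p.2)⁻¹ • ·) e12
      simp only [smul_smul, inv_mul_cancel₀ (sub_ne_zero.2 ea.symm), one_smul] at this
      rw [this, hz]
      module
  calc S.card * Fintype.card F = (S ×ˢ (Finset.univ : Finset F)).card := by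
        rw [Finset.card_product, Finset.card_univ]
    _ ≤ 2 * (Finset.univ : Finset (Fin n → F)).card :=
        Finset.card_le_mul_card_image_of_maps_to (f := fun p => p.1 + p.2 • u)
          (fun _ _ => Finset.mem_univ _) 2 fun z _ => hfib z
    _ = _ := by rw [Finset.card_univ]

/-- A `3 × 3` determinant-one matrix with `(x - 1)^2` a multiple of `x` has eigenvalue one. -/
theorem cubic_rel (x : Matrix (Fin 3) (Fin 3) F) (hdet : x.det = 1) (hns : ∀ a : F, x ≠ a • 1)
    (l : F) (h : (x - 1) * (x - 1) = l • x) : (x - 1).det = 0 := by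
  have hdeg : x.charpoly.natDegree = 3 := by
    rw [Matrix.charpoly_natDegree_eq_dim, Fintype.card_fin]
  have h3 : x.charpoly.coeff 3 = 1 := by
    have := (Matrix.charpoly_monic x).coeff_natDegree
    rwa [hdeg] at this
  have h0 : x.charpoly.coeff 0 = -1 := by
    have := Matrix.det_eq_sign_charpoly_coeff x
    rw [hdet, Fintype.card_fin] at this
    linear_combination this
  set s := x.charpoly.coeff 1 with hs
  set t := x.charpoly.coeff 2 with ht
  have hCH := Matrix.aeval_self_charpoly x
  rw [Polynomial.aeval_eq_sum_range, hdeg, Finset.sum_range_succ, Finset.sum_range_succ,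
    Finset.sum_range_succ, Finset.sum_range_one, h0, h3, ← hs, ← ht, pow_zero, pow_one, one_smul] at hCH
  have hev := congrArg (Polynomial.eval 1) (Matrix.charpoly.eq_def x)
  have h1 : Polynomial.eval 1 x.charpoly = (1 - x).det := by
    rw [Matrix.eval_charpoly]
    simp
  rw [Polynomial.eval_eq_sum_range, hdeg, Finset.sum_range_succ, Finset.sum_range_succ,
    Finset.sum_range_succ, Finset.sum_range_one, h0, h3, ← hs, ← ht] at h1
  simp only [one_pow, mul_one] at h1
  have hx2 : x * x = (l + 2) • x - 1 := by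
    have e : (x - 1) * (x - 1) = x * x - (2 : F) • x + 1 := by
      rw [two_smul]; noncomm_ring
    rw [h] at e
    rw [add_smul]
    linear_combination (norm := abel) -e
  have hx3 : x ^ 3 = ((l + 2) * (l + 2) - 1) • x - (l + 2) • 1 := by
    rw [pow_succ, pow_two, hx2, sub_mul, smul_mul_assoc, hx2, one_mul]
    module
  rw [hx3, pow_two, hx2] at hCH
  have hlin : ((l + 2) * (l + 2) - 1 + t * (l + 2) + s) • x =
      ((l + 2) + t + 1) • (1 : Matrix (Fin 3) (Fin 3) F) := by
    linear_combination (norm := module) hCH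
  have hA : (l + 2) * (l + 2) - 1 + t * (l + 2) + s = 0 := by
    by_contra hA
    refine hns (((l + 2) * (l + 2) - 1 + t * (l + 2) + s)⁻¹ * ((l + 2) + t + 1)) ?_
    rw [mul_smul, ← hlin, smul_smul, inv_mul_cancel₀ hA, one_smul]
  have hB : (l + 2) + t + 1 = 0 := by
    rw [hA, zero_smul] at hlin
    exact (smul_eq_zero.1 hlin.symm).resolve_right one_ne_zero
  have : (1 - x).det = 0 := by
    rw [← h1]
    linear_combination hA + (1 - (l + 2)) * hB
  rw [← neg_sub x 1, Matrix.det_neg] at this
  simpa using this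

/-- A functional separating a vector from a submodule, as a vector. -/
theorem exists_dual_vec (P : Submodule F (Fin n → F)) {y : Fin n → F} (hy : y ∉ P) :
    ∃ d : Fin n → F, (∀ z ∈ P, d ⬝ᵥ z = 0) ∧ d ⬝ᵥ y = 1 := by
  obtain ⟨f, hf, hP⟩ := Submodule.exists_dual_map_eq_bot_of_notMem hy inferInstance
  have hrep : ∀ z, (fun i => (f y)⁻¹ * f (Pi.single i 1)) ⬝ᵥ z = (f y)⁻¹ * f z := fun z => by
    conv_rhs => rw [← Finset.univ_sum_single z, map_sum, Finset.mul_sum]
    refine Finset.sum_congr rfl fun i _ => ?_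
    rw [show Pi.single i (z i) = z i • (Pi.single i (1 : F) : Fin n → F) by
      ext j; simp [Pi.single_apply], map_smul, smul_eq_mul]
    ring
  refine ⟨fun i => (f y)⁻¹ * f (Pi.single i 1), fun z hz => ?_, ?_⟩
  · have : f z ∈ P.map f := Submodule.mem_map_of_mem hz
    rw [hP, Submodule.mem_bot] at this
    rw [hrep, this, mul_zero]
  · rw [hrep, inv_mul_cancel₀ hf]

/-- An affine functional condition excludes few functionals. -/
theorem card_bad_le [DecidableEq F] (e e' : Fin n → F) (A : Finset (Fin n → F))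
    (hA : ∀ w, w ∈ A ↔ w ⬝ᵥ e = 1 ∧ w ⬝ᵥ e' = 1) (y : Fin n → F) (a : F)
    (hy : ∀ α β : F, y = α • e + β • e' → α + β ≠ a) :
    (A.filter fun w => w ⬝ᵥ y = a).card * Fintype.card F ≤ A.card := by
  by_cases h : y ∈ Submodule.span F {e, e'}
  · obtain ⟨α, β, hαβ⟩ := Submodule.mem_span_pair.1 h
    rw [Finset.card_eq_zero.2 (Finset.filter_eq_empty_iff.2 fun w hw => ?_), zero_mul]
    · exact Nat.zero_le _
    obtain ⟨h1, h2⟩ := (hA w).1 hw
    rw [← hαβ, dotProduct_add, dotProduct_smul, dotProduct_smul, h1, h2, smul_eq_mul, smul_eq_mul,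
      mul_one, mul_one]
    exact hy α β hαβ.symm
  · obtain ⟨d, hd, hd1⟩ := exists_dual_vec _ h
    refine card_mul_le_of_dir (d := d) (fun w => w ⬝ᵥ y)
      (fun w t => by rw [add_dotProduct, smul_dotProduct, hd1, smul_eq_mul, mul_one]) a
      (fun w hw => (Finset.mem_filter.1 hw).2) fun w hw t => ?_
    obtain ⟨h1, h2⟩ := (hA w).1 (Finset.mem_filter.1 hw).1
    rw [hA, add_dotProduct, add_dotProduct, smul_dotProduct, smul_dotProduct,
      hd e (Submodule.subset_span (by simp)), hd e' (Submodule.subset_span (by simp)), h1, h2]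
    simp

end Cfsg.Agent.ClassSquare
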