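/-
A vector and a functional for the factorisation step.
-/
import Mathlib
import Cfsg.Agent.Lib.ClassSquare.Choice

set_option autoImplicit false

namespace Cfsg.Agent.ClassSquare

open Matrix

variable {F : Type*} [Field F] [Fintype F] {k : ℕ}

/-- A set of at most `m / q` of all vectors. -/
theorem exists_not_mem_of_card [DecidableEq F] {ι : Type*} (s : Finset ι)
    (B : ι → Finset (Fin (k + 1) → F)) (m : ι → ℕ) (hm : ∑ i ∈ s, m i < Fintype.card F)
    (hB : ∀ i ∈ s, (B i).card * Fintype.card F ≤ m i * Fintype.card (Fin (k + 1) → F)) :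
    ∃ e, ∀ i ∈ s, e ∉ B i := by
  classical
  by_contra hno
  push Not at hno
  have h : (Finset.univ : Finset (Fin (k + 1) → F)) ⊆ s.biUnion B := fun e _ =>
    Finset.mem_biUnion.2 (hno e)
  have h1 := Nat.mul_le_mul_right (Fintype.card F) ((Finset.card_le_card h).trans Finset.card_biUnion_le)
  rw [Finset.sum_mul, Finset.card_univ] at h1
  have h2 := h1.trans ((Finset.sum_le_sum hB).trans_eq (Finset.sum_mul _ _ _).symm)
  have hpos : 0 < Fintype.card (Fin (k + 1) → F) := Fintype.card_pos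
  have := Nat.mul_lt_mul_of_pos_right hm hpos
  rw [mul_comm (Fintype.card _) (Fintype.card F)] at h2
  omega

theorem not_eigen_M (x : Matrix (Fin (k + 1)) (Fin (k + 1)) F) (hdet : x.det = 1) {e : Fin (k + 1) → F}
    (h : ∀ a : F, (x⁻¹ * (x - 1) * (x - 1)) *ᵥ e ≠ a • e) (a : F) :
    ((x - 1) * (x - 1)) *ᵥ e ≠ a • (x *ᵥ e) := by
  intro h'
  refine h a ?_
  rw [mul_assoc, ← Matrix.mulVec_mulVec, h', Matrix.mulVec_smul, Matrix.mulVec_mulVec,
    Matrix.nonsing_inv_mul _ (by rw [hdet]; exact isUnit_one), Matrix.one_mulVec]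

theorem mulVec_ne_top {M : Matrix (Fin (k + 1)) (Fin (k + 1)) F} (hM : M ≠ 0) :
    LinearMap.ker M.mulVecLin ≠ ⊤ := fun h => hM (Matrix.ext_of_mulVec_single fun i => by
  have := LinearMap.mem_ker.1 (h ▸ Submodule.mem_top : Pi.single i (1 : F) ∈ LinearMap.ker M.mulVecLin)
  rw [Matrix.zero_mulVec]
  simpa using this)

/-- The choice of the vector. -/
theorem exists_vec (hF : 9 ≤ Fintype.card F) (x : Matrix (Fin (k + 1)) (Fin (k + 1)) F)
    (hdet : x.det = 1) (hg : Gen x) {c r : Fin (k + 1) → F} (hr : r ≠ 0) :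
    ∃ e, (∀ a : F, x *ᵥ e ≠ a • e) ∧ r ⬝ᵥ e ≠ 0 ∧ (∀ a : F, (x - 1) *ᵥ e ≠ a • c) ∧
      (2 ≤ k → ∀ s : F, ∃ y, ∀ a : F, (x - s • 1) *ᵥ y ≠ a • (x *ᵥ e)) ∧
      (((x - 1) * (x - 1) ≠ 0) → ((x - 1) * (x - 1)) *ᵥ e ≠ 0) ∧
      ((x - 1).det = 0 → ∀ y, (x - 1) *ᵥ y ≠ e) ∧
      (k = 2 → (x - 1).det ≠ 0 → ∀ a : F, ((x - 1) * (x - 1)) *ᵥ e ≠ a • (x *ᵥ e)) := by
  classical
  obtain ⟨hns, hrk⟩ := hg
  have hxu : IsUnit x.det := by rw [hdet]; exact isUnit_one
  -- the exceptional line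
  obtain ⟨u₀, hu₀⟩ : ∃ u₀ : Fin (k + 1) → F, 2 ≤ k → ∀ (s : F) (v : Fin (k + 1) → F),
      (∀ y, ∃ a : F, (x - s • 1) *ᵥ y = a • v) → v ≠ 0 → ∃ a : F, v = a • u₀ := by
    by_cases h : ∃ s : F, ∃ v : Fin (k + 1) → F, ∀ y, ∃ a : F, (x - s • 1) *ᵥ y = a • v
    · obtain ⟨s₀, u₀, h0⟩ := h
      refine ⟨u₀, fun hk s v hv hv0 => ?_⟩
      by_cases hs : s = s₀
      · subst hs
        obtain ⟨y, hy⟩ : ∃ y, (x - s • 1) *ᵥ y ≠ 0 := by
          by_contra hno
          push Not at hno
          exact hns s (sub_eq_zero.1 (Matrix.ext_of_mulVec_single fun i => by rw [hno, Matrix.zero_mulVec]))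
        obtain ⟨a, ha⟩ := hv y
        obtain ⟨b, hb⟩ := h0 y
        have ha0 : a ≠ 0 := fun e => hy (by rw [ha, e, zero_smul])
        exact ⟨a⁻¹ * b, by rw [mul_smul, ← hb, ha, smul_smul, inv_mul_cancel₀ ha0, one_smul]⟩
      · exfalso
        have hle : (⊤ : Submodule F (Fin (k + 1) → F)) ≤
            Submodule.span F (Set.range ![v, u₀]) := by
          intro y _
          obtain ⟨a, ha⟩ := hv y
          obtain ⟨b, hb⟩ := h0 y
          have e : y = (s₀ - s)⁻¹ • (a • v - b • u₀) := by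
            rw [← ha, ← hb, ← Matrix.sub_mulVec,
              show x - s • 1 - (x - s₀ • 1) = (s₀ - s) • (1 : Matrix (Fin (k + 1)) (Fin (k + 1)) F) by
                rw [sub_smul]; abel,
              Matrix.smul_mulVec, Matrix.one_mulVec, smul_smul,
              inv_mul_cancel₀ (sub_ne_zero.2 (Ne.symm hs)), one_smul]
          rw [e]
          refine Submodule.smul_mem _ _ (Submodule.sub_mem _ (Submodule.smul_mem _ _ ?_)
            (Submodule.smul_mem _ _ ?_))
          · exact Submodule.subset_span ⟨0, rfl⟩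
          · exact Submodule.subset_span ⟨1, rfl⟩
        have h1 := (Submodule.finrank_mono hle).trans (finrank_range_le_card _)
        rw [finrank_top, Module.finrank_fin_fun, Fintype.card_fin] at h1
        omega
    · exact ⟨0, fun _ s v hv _ => absurd ⟨s, v, hv⟩ h⟩
  let B : Fin 6 → Finset (Fin (k + 1) → F) := ![
    Finset.univ.filter fun e => ∃ a : F, x *ᵥ e = a • e,
    Finset.univ.filter fun e => r ⬝ᵥ e = 0,
    Finset.univ.filter fun e => ∃ a : F, (x - 1) *ᵥ e = a • c,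
    if 2 ≤ k then Finset.univ.filter fun e => ∃ a : F, x *ᵥ e = a • u₀ else ∅,
    if (x - 1) * (x - 1) ≠ 0 then Finset.univ.filter fun e => ((x - 1) * (x - 1)) *ᵥ e = 0 else ∅,
    if (x - 1).det = 0 then Finset.univ.filter fun e => ∃ y, (x - 1) *ᵥ y = e
    else if k = 2 then Finset.univ.filter fun e => ∃ a : F, (x⁻¹ * (x - 1) * (x - 1)) *ᵥ e = a • e
    else ∅]
  have key : ∀ (P : Submodule F (Fin (k + 1) → F)), P ≠ ⊤ → ∀ S : Finset (Fin (k + 1) → F),
      (∀ y ∈ S, y ∈ P) → S.card * Fintype.card F ≤ 1 * Fintype.card (Fin (k + 1) → F) := by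
    intro P hP S hS
    rw [one_mul]
    exact card_sub_le P hP S hS
  have hline : ∀ M : Matrix (Fin (k + 1)) (Fin (k + 1)) F, ∀ v : Fin (k + 1) → F,
      (∃ y, ∀ a : F, M *ᵥ y ≠ a • v) → ∀ S : Finset (Fin (k + 1) → F),
      (∀ y ∈ S, ∃ a : F, M *ᵥ y = a • v) → S.card * Fintype.card F ≤ 1 * Fintype.card (Fin (k + 1) → F) := by
    intro M v hMv S hS
    obtain ⟨y, hy⟩ := hMv
    refine key ((Submodule.span F {v}).comap M.mulVecLin) (fun h => ?_) S fun z hz => ?_
    · have : y ∈ (Submodule.span F {v}).comap M.mulVecLin := h ▸ Submodule.mem_top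
      obtain ⟨a, ha⟩ := Submodule.mem_span_singleton.1 this
      exact hy a ha.symm
    · obtain ⟨a, ha⟩ := hS z hz
      exact Submodule.mem_span_singleton.2 ⟨a, ha.symm⟩
  have hB : ∀ i ∈ (Finset.univ : Finset (Fin 6)),
      (B i).card * Fintype.card F ≤ ![2, 1, 1, 1, 1, 2] i * Fintype.card (Fin (k + 1) → F) := by
    intro i _
    fin_cases i
    · refine card_eigen_le x hns _ fun y hy => ?_
      simpa [B] using hy
    · refine key (LinearMap.ker (dotProductBilin F F r)) (fun h => hr ?_) _ fun y hy => by simpa [B] using hy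
      funext j
      have := LinearMap.mem_ker.1 (h ▸ Submodule.mem_top : Pi.single j (1 : F) ∈ LinearMap.ker (dotProductBilin F F r))
      simpa using this
    · exact hline (x - 1) c (hrk c) _ fun y hy => by simpa [B] using hy
    · by_cases hk : 2 ≤ k
      · refine hline x u₀ ?_ _ fun y hy => by simpa [B, hk] using hy
        by_contra hno
        push Not at hno
        have hle : (⊤ : Submodule F (Fin (k + 1) → F)) ≤ Submodule.span F (Set.range ![x⁻¹ *ᵥ u₀]) := by
          intro y _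
          obtain ⟨a, ha⟩ := hno y
          have : y = a • (x⁻¹ *ᵥ u₀) := by
            rw [← Matrix.mulVec_smul, ← ha, Matrix.mulVec_mulVec, Matrix.nonsing_inv_mul _ hxu,
              Matrix.one_mulVec]
          rw [this]
          exact Submodule.smul_mem _ _ (Submodule.subset_span ⟨0, rfl⟩)
        have h1 := (Submodule.finrank_mono hle).trans (finrank_range_le_card _)
        rw [finrank_top, Module.finrank_fin_fun, Fintype.card_fin] at h1
        omega
      · simp [B, hk]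
    · by_cases hq : (x - 1) * (x - 1) ≠ 0
      · refine key _ (mulVec_ne_top hq) _ fun y hy => LinearMap.mem_ker.2 ?_
        rw [Matrix.mulVecLin_apply]
        have hy' : y ∈ Finset.univ.filter fun e => ((x - 1) * (x - 1)) *ᵥ e = 0 := by
          simpa [B, hq] using hy
        exact (Finset.mem_filter.1 hy').2
      · simp [B, hq]
    · by_cases hd : (x - 1).det = 0
      · refine le_trans (key (LinearMap.range (x - 1).mulVecLin) (fun h => ?_) _
          fun y hy => by simpa [B, hd, Matrix.sub_mulVec] using hy) (Nat.mul_le_mul_right _ (by norm_num))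
        obtain ⟨v, hv0, hv⟩ := Matrix.exists_mulVec_eq_zero_iff.2 hd
        have hinj := LinearMap.injective_iff_surjective.2 (LinearMap.range_eq_top.1 h)
        exact hv0 (hinj (show (x - 1).mulVecLin v = (x - 1).mulVecLin 0 by rw [Matrix.mulVecLin_apply, hv, map_zero]))
      · by_cases hk : k = 2
        · refine card_eigen_le (x⁻¹ * (x - 1) * (x - 1)) (fun l hl => ?_) _ fun y hy => ?_
          · subst hk
            refine hd (cubic_rel x hdet hns l ?_)
            have := congrArg (x * ·) hl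
            simpa [← mul_assoc, Matrix.mul_nonsing_inv _ hxu] using this
          · simpa [B, hd, hk] using hy
        · simp [B, hd, hk]
  obtain ⟨e, he⟩ := exists_not_mem_of_card Finset.univ B ![2, 1, 1, 1, 1, 2]
    (by simp [Fin.sum_univ_succ]; omega) hB
  have h0 := he 0 (Finset.mem_univ _)
  have h1 := he 1 (Finset.mem_univ _)
  have h2 := he 2 (Finset.mem_univ _)
  have h3 := he 3 (Finset.mem_univ _)
  have h4 := he 4 (Finset.mem_univ _)
  have h5 := he 5 (Finset.mem_univ _)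
  simp only [B, Matrix.cons_val_zero, Matrix.cons_val_one, Matrix.cons_val, Finset.mem_filter,
    Finset.mem_univ, true_and, not_exists] at h0 h1 h2 h3 h4 h5
  refine ⟨e, h0, h1, h2, fun hk s => ?_, fun hq => ?_, fun hd => ?_, fun hk hd a => ?_⟩
  · rw [if_pos hk] at h3
    simp only [Finset.mem_filter, Finset.mem_univ, true_and, not_exists] at h3
    by_contra hno
    push Not at hno
    have hne : x *ᵥ e ≠ 0 := fun h => h0 0 (by rw [h, zero_smul])
    obtain ⟨a, ha⟩ := hu₀ hk s _ hno hne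
    exact h3 a ha
  · rw [if_pos hq] at h4
    simpa using h4
  · rw [if_pos hd] at h5
    simpa using h5
  · rw [if_neg hd, if_pos hk] at h5
    simp only [Finset.mem_filter, Finset.mem_univ, true_and, not_exists] at h5
    exact not_eigen_M x hdet h5 a

/-- The choice of the vector and the functional. -/
theorem exists_pair (hF : 9 ≤ Fintype.card F) (hk : 1 ≤ k) (x : Matrix (Fin (k + 1)) (Fin (k + 1)) F)
    (hdet : x.det = 1) (hg : Gen x) {c r : Fin (k + 1) → F} (hc : c ≠ 0) (hr : r ≠ 0) :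
    ∃ e w : Fin (k + 1) → F, w ⬝ᵥ e = 1 ∧ w ⬝ᵥ (x *ᵥ e) = 1 ∧ r ⬝ᵥ e ≠ 0 ∧ w ⬝ᵥ c ≠ 0 ∧
      x *ᵥ e ≠ e ∧ w ᵥ* x ≠ w ∧
      (2 ≤ k → (∀ s : F, ∃ y, w ⬝ᵥ y = 0 ∧ x *ᵥ y - (w ⬝ᵥ (x *ᵥ y)) • (x *ᵥ e) ≠ s • y) ∧
        ∀ u, ∃ y, w ⬝ᵥ y = 0 ∧ ∀ a : F, x *ᵥ y - (w ⬝ᵥ (x *ᵥ y)) • (x *ᵥ e) - y ≠ a • u) := by
  classical
  obtain ⟨e, h1, h2, h3, h4, h5, h6, h7⟩ := exists_vec hF x hdet hg (c := c) hr
  have hns := hg.1
  set x' := x *ᵥ e with hx'
  have hsub : (x - 1) *ᵥ e = x' - e := by rw [Matrix.sub_mulVec, Matrix.one_mulVec]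
  have hne : x' - e ≠ 0 := fun h => h1 1 (by rw [one_smul]; exact sub_eq_zero.1 h)
  have hx0 : x' ≠ 0 := fun h => h1 0 (by rw [h, zero_smul])
  let A : Finset (Fin (k + 1) → F) := Finset.univ.filter fun w => w ⬝ᵥ e = 1 ∧ w ⬝ᵥ x' = 1
  have hA : ∀ w, w ∈ A ↔ w ⬝ᵥ e = 1 ∧ w ⬝ᵥ x' = 1 := fun w => by simp [A]
  -- `A` is not empty and not too small
  have he0 : e ≠ 0 := fun h => h1 0 (by simp [hx', h])
  obtain ⟨f, hf, hf1⟩ := exists_dual_vec (Submodule.span F {x'}) (y := e) (fun h => by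
    obtain ⟨a, ha⟩ := Submodule.mem_span_singleton.1 h
    have ha0 : a ≠ 0 := fun h0 => he0 (by rw [← ha, h0, zero_smul])
    refine h1 a⁻¹ ?_
    conv_rhs => rw [← ha]
    rw [smul_smul, inv_mul_cancel₀ ha0, one_smul])
  obtain ⟨g, hg', hg1⟩ := exists_dual_vec (Submodule.span F {e}) (y := x') (fun h => by
    obtain ⟨a, ha⟩ := Submodule.mem_span_singleton.1 h
    exact h1 a ha.symm)
  have hfx : f ⬝ᵥ x' = 0 := hf _ (Submodule.mem_span_singleton_self _)
  have hge : g ⬝ᵥ e = 0 := hg' _ (Submodule.mem_span_singleton_self _)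
  have hcardA : Fintype.card F ^ (k + 1) ≤ A.card * (Fintype.card F * Fintype.card F) := by
    rw [← Finset.card_univ (α := F), ← Finset.card_product, ← Finset.card_product, Finset.card_univ,
      show Fintype.card F ^ (k + 1) = (Finset.univ : Finset (Fin (k + 1) → F)).card by simp]
    refine Finset.card_le_card_of_injOn (fun w =>
      (w - (w ⬝ᵥ e - 1) • f - (w ⬝ᵥ x' - 1) • g, w ⬝ᵥ e, w ⬝ᵥ x')) (fun w _ => ?_) fun v _ w _ h => ?_
    · simp only [Finset.coe_product, Set.mem_prod, Finset.mem_coe, Finset.mem_univ, and_true, hA,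
        sub_dotProduct, smul_dotProduct, hf1, hge, hfx, hg1]
      simp
    · simp only [Prod.mk.injEq] at h
      rw [h.2.1, h.2.2] at h
      simpa using h.1
  have hApos : 0 < A.card := Nat.pos_of_ne_zero fun h => by
    rw [h, zero_mul] at hcardA
    exact absurd (pow_pos (Fintype.card_pos (α := F)) (k + 1)) (by omega)
  -- the bad functionals
  have hbad1 : (A.filter fun w => w ⬝ᵥ c = 0).card * Fintype.card F ≤ A.card := by
    refine card_bad_le e x' A hA c 0 fun α β h h0 => ?_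
    rw [eq_neg_of_add_eq_zero_left h0] at h
    have hc' : c = β • (x' - e) := by rw [h]; module
    have hβ : β ≠ 0 := fun h' => hc (by rw [hc', h', zero_smul])
    exact h3 β⁻¹ (by rw [hsub, hc', smul_smul, inv_mul_cancel₀ hβ, one_smul])
  obtain ⟨y₁, hy₁⟩ := hg.2 ((x - 1) *ᵥ e)
  have hbad2 : (A.filter fun w => w ⬝ᵥ ((x - 1) *ᵥ y₁) = 0).card * Fintype.card F ≤ A.card := by
    refine card_bad_le e x' A hA _ 0 fun α β h h0 => hy₁ β ?_
    rw [eq_neg_of_add_eq_zero_left h0] at h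
    rw [h, hsub]; module
  obtain ⟨z, hz, hz0, hz2⟩ : ∃ z : Fin (k + 1) → F, (∀ α β : F, z = α • e + β • x' → α + β ≠ 0) ∧
      ((x - 1).det = 0 → (x - 1) *ᵥ z = 0) ∧
      (k = 2 → (x - 1).det ≠ 0 → (x - 1) *ᵥ z = x') := by
    by_cases hd : (x - 1).det = 0
    · by_cases hq : (x - 1) * (x - 1) = 0
      · refine ⟨(x - 1) *ᵥ y₁, fun α β h h0 => hy₁ β ?_, fun _ => ?_, fun _ h => absurd hd h⟩
        · rw [eq_neg_of_add_eq_zero_left h0] at h
          rw [h, hsub]; module
        · rw [Matrix.mulVec_mulVec, hq, Matrix.zero_mulVec]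
      · obtain ⟨v, hv0, hv⟩ := Matrix.exists_mulVec_eq_zero_iff.2 hd
        refine ⟨v, fun α β h h0 => ?_, fun _ => hv, fun _ h => absurd hd h⟩
        rw [eq_neg_of_add_eq_zero_left h0] at h
        have hv' : v = β • ((x - 1) *ᵥ e) := by rw [h, hsub]; module
        have hβ : β ≠ 0 := fun h' => hv0 (by rw [hv', h', zero_smul])
        rw [hv', Matrix.mulVec_smul, Matrix.mulVec_mulVec] at hv
        exact h5 hq ((smul_eq_zero.1 hv).resolve_left hβ)
    · by_cases hk2 : k = 2
      · obtain ⟨v, hv⟩ := (Matrix.mulVec_surjective_iff_isUnit (A := x - 1)).2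
          ((Matrix.isUnit_iff_isUnit_det _).2 (isUnit_iff_ne_zero.2 hd)) x'
        refine ⟨v, fun α β h h0 => ?_, fun h' => absurd h' hd, fun _ _ => hv⟩
        rw [eq_neg_of_add_eq_zero_left h0] at h
        have hv' : v = β • ((x - 1) *ᵥ e) := by rw [h, hsub]; module
        rw [hv', Matrix.mulVec_smul, Matrix.mulVec_mulVec] at hv
        have hβ : β ≠ 0 := fun h' => hx0 (by rw [← hv, h', zero_smul])
        refine h7 hk2 hd β⁻¹ ?_
        rw [← hv, smul_smul, inv_mul_cancel₀ hβ, one_smul]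
      · refine ⟨e, fun α β h h0 => ?_, fun h' => absurd h' hd, fun h' => absurd h' hk2⟩
        have hb : β • x' = (1 - α) • e := by linear_combination (norm := module) -h
        by_cases hβ : β = 0
        · rw [hβ, zero_smul, eq_comm] at hb
          have := (smul_eq_zero.1 hb).resolve_right he0
          rw [hβ, add_zero] at h0
          rw [h0, sub_zero] at this
          exact one_ne_zero this
        · refine h1 (β⁻¹ * (1 - α)) ?_
          rw [mul_smul, ← hb, smul_smul, inv_mul_cancel₀ hβ, one_smul]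
  have hbad3 : (A.filter fun w => w ⬝ᵥ z = 0).card * Fintype.card F ≤ A.card :=
    card_bad_le e x' A hA z 0 hz
  -- the functionals with scalar induced map
  let Sc : Finset (Fin (k + 1) → F) := A.filter fun w => 2 ≤ k ∧
    ∃ s : F, ∀ y, w ⬝ᵥ y = 0 → x *ᵥ y - (w ⬝ᵥ (x *ᵥ y)) • x' = s • y
  have hbad4 : Sc.card * Fintype.card F ≤ 4 * A.card := by
    by_cases hk2 : 2 ≤ k
    swap
    · simp [Sc, hk2]
    let sc : (Fin (k + 1) → F) → F := fun w =>
      if h : ∃ s : F, ∀ y, w ⬝ᵥ y = 0 → x *ᵥ y - (w ⬝ᵥ (x *ᵥ y)) • x' = s • y then h.choose else 0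
    have hsc : ∀ w ∈ Sc, ∀ y, w ⬝ᵥ y = 0 → (x - sc w • 1) *ᵥ y = (w ⬝ᵥ (x *ᵥ y)) • x' := by
      intro w hw y hy
      obtain ⟨-, -, hs⟩ := Finset.mem_filter.1 hw
      have := hs.choose_spec y hy
      simp only [sc, dif_pos hs]
      rw [Matrix.sub_mulVec, Matrix.smul_mulVec, Matrix.one_mulVec, ← this]
      abel
    have hinj : Set.InjOn sc Sc := by
      intro v hv w hw e'
      by_contra hvw
      obtain ⟨hve, hvx⟩ := (hA v).1 (Finset.mem_filter.1 hv).1
      obtain ⟨hwe, hwx⟩ := (hA w).1 (Finset.mem_filter.1 hw).1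
      obtain ⟨i, hi⟩ := Function.ne_iff.1 hvw
      obtain ⟨y', hy'⟩ := h4 hk2 (sc v)
      -- a vector killed by `v` and not by `w`
      let d := Pi.single i (1 : F) - v i • e
      have hdv : v ⬝ᵥ d = 0 := by simp [d, hve]
      have hdw : w ⬝ᵥ d = w i - v i := by simp [d, hwe]
      have hdw0 : w ⬝ᵥ d ≠ 0 := by rw [hdw]; exact sub_ne_zero.2 (Ne.symm hi)
      -- split `y'`
      let y₀ := y' - (v ⬝ᵥ y') • e
      have hy₀ : v ⬝ᵥ y₀ = 0 := by simp [y₀, hve]
      obtain ⟨a, ha⟩ : ∃ a : F, (x - sc v • 1) *ᵥ e = a • x' := by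
        -- `e` is a combination of vectors killed by `v` and by `w`
        let b := (w ⬝ᵥ e) / (w ⬝ᵥ d)
        have hb : w ⬝ᵥ (e - b • d) = 0 := by simp [b, hdw0]
        refine ⟨w ⬝ᵥ (x *ᵥ (e - b • d)) + b * v ⬝ᵥ (x *ᵥ d), ?_⟩
        have ee : e = (e - b • d) + b • d := by abel
        conv_lhs => rw [ee, Matrix.mulVec_add, Matrix.mulVec_smul, hsc v hv d hdv, e', hsc w hw _ hb]
        module
      refine hy' ((v ⬝ᵥ (x *ᵥ y₀)) + (v ⬝ᵥ y') * a) ?_
      have ey : y' = y₀ + (v ⬝ᵥ y') • e := by simp [y₀]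
      conv_lhs => rw [ey, Matrix.mulVec_add, Matrix.mulVec_smul, hsc v hv _ hy₀, ha]
      module
    rw [← Finset.card_image_of_injOn hinj]
    by_cases hk3 : 3 ≤ k
    · refine le_trans ?_ (Nat.le_mul_of_pos_left _ (by norm_num))
      refine le_trans (Nat.mul_le_mul_right _ (Finset.card_le_univ _)) ?_
      refine Nat.le_of_mul_le_mul_right (le_trans ?_ hcardA) (by positivity)
      rw [← pow_two, ← pow_two, ← pow_mul]
      exact Nat.pow_le_pow_right Fintype.card_pos (by omega)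
    · have hk2' : k = 2 := by omega
      have hroots : (Sc.image sc).card ≤ x.charpoly.natDegree := by
        refine Polynomial.card_le_degree_of_subset_roots fun s hs => ?_
        obtain ⟨w, hw, rfl⟩ := Finset.mem_image.1 hs
        rw [Polynomial.mem_roots (Matrix.charpoly_monic x).ne_zero, Polynomial.IsRoot, Matrix.eval_charpoly]
        by_contra hu
        have hsurj : Function.Injective (x - sc w • 1).mulVecLin := fun p q hpq => by
          have hunit : IsUnit (x - sc w • 1) := by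
            rw [Matrix.isUnit_iff_isUnit_det, isUnit_iff_ne_zero]
            intro h0
            refine hu ?_
            rw [show Matrix.scalar (Fin (k + 1)) (sc w) - x = -(x - sc w • 1) by
              rw [neg_sub, Matrix.smul_one_eq_diagonal, Matrix.scalar_apply], Matrix.det_neg, h0, mul_zero]
          exact Matrix.mulVec_injective_iff_isUnit.2 hunit hpq
        -- the kernel of `w` is a plane mapped into a line
        let W : Submodule F (Fin (k + 1) → F) := LinearMap.ker (dotProductBilin F F w)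
        have hle : W.map (x - sc w • 1).mulVecLin ≤ Submodule.span F (Set.range ![x']) := by
          rintro _ ⟨y, hy, rfl⟩
          rw [Matrix.mulVecLin_apply, hsc w hw y (by simpa [W] using hy)]
          exact Submodule.smul_mem _ _ (Submodule.subset_span ⟨0, rfl⟩)
        have h1 := (Submodule.finrank_mono hle).trans (finrank_range_le_card _)
        have h2 : Module.finrank F (W.map (x - sc w • 1).mulVecLin) = Module.finrank F W :=
          (Submodule.equivMapOfInjective _ hsurj W).finrank_eq.symm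
        have h3' := LinearMap.finrank_range_add_finrank_ker (dotProductBilin F F w)
        have h4' : Module.finrank F (LinearMap.range (dotProductBilin F F w)) ≤ 1 :=
          (Submodule.finrank_le _).trans (by simp)
        rw [h2, Fintype.card_fin] at h1
        rw [Module.finrank_fin_fun] at h3'
        change Module.finrank F W ≤ 1 at h1
        change _ + Module.finrank F W = _ at h3'
        omega
      rw [Matrix.charpoly_natDegree_eq_dim, Fintype.card_fin] at hroots
      have hqA : Fintype.card F ≤ A.card := by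
        refine Nat.le_of_mul_le_mul_right (le_trans (le_of_eq ?_) hcardA) (by positivity)
        rw [hk2']; ring
      exact Nat.mul_le_mul (hroots.trans (by omega)) hqA
  -- a good functional
  obtain ⟨w, hwA, hw1, hw2, hw3, hw4⟩ : ∃ w ∈ A, w ⬝ᵥ c ≠ 0 ∧ w ⬝ᵥ ((x - 1) *ᵥ y₁) ≠ 0 ∧
      w ⬝ᵥ z ≠ 0 ∧ w ∉ Sc := by
    by_contra hno
    push Not at hno
    have hsub' : A ⊆ (A.filter fun w => w ⬝ᵥ c = 0) ∪ (A.filter fun w => w ⬝ᵥ ((x - 1) *ᵥ y₁) = 0) ∪
        (A.filter fun w => w ⬝ᵥ z = 0) ∪ Sc := fun w hw => by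
      simp only [Finset.mem_union, Finset.mem_filter]
      by_cases a1 : w ⬝ᵥ c = 0
      · exact Or.inl (Or.inl (Or.inl ⟨hw, a1⟩))
      by_cases a2 : w ⬝ᵥ ((x - 1) *ᵥ y₁) = 0
      · exact Or.inl (Or.inl (Or.inr ⟨hw, a2⟩))
      by_cases a3 : w ⬝ᵥ z = 0
      · exact Or.inl (Or.inr ⟨hw, a3⟩)
      · exact Or.inr (hno w hw a1 a2 a3)
    have hc' := Nat.mul_le_mul_right (Fintype.card F) ((Finset.card_le_card hsub').trans
      ((Finset.card_union_le _ _).trans (Nat.add_le_add_right ((Finset.card_union_le _ _).trans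
        (Nat.add_le_add_right (Finset.card_union_le _ _) _)) _)))
    rw [add_mul, add_mul, add_mul] at hc'
    have : A.card * 9 ≤ A.card * Fintype.card F := Nat.mul_le_mul_left _ hF
    omega
  obtain ⟨hwe, hwx⟩ := (hA w).1 hwA
  refine ⟨e, w, hwe, hwx, h2, hw1, fun h => h1 1 (by rw [one_smul]; exact h), fun h => hw2 ?_, fun hk2 => ⟨?_, ?_⟩⟩
  · rw [Matrix.sub_mulVec, Matrix.one_mulVec, dotProduct_sub, Matrix.dotProduct_mulVec, h, sub_self]
  · intro s
    by_contra hno
    push Not at hno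
    exact hw4 (Finset.mem_filter.2 ⟨hwA, hk2, s, hno⟩)
  intro u
  by_contra hno
  push Not at hno
  have hW : ∀ y, w ⬝ᵥ y = 0 → ∃ a : F, (x - 1) *ᵥ y = (w ⬝ᵥ (x *ᵥ y)) • x' + a • u := fun y hy => by
    obtain ⟨a, ha⟩ := hno y hy
    exact ⟨a, by rw [Matrix.sub_mulVec, Matrix.one_mulVec, ← ha]; abel⟩
  have hsplit : ∀ v : Fin (k + 1) → F, v = (v - ((w ⬝ᵥ v) / (w ⬝ᵥ z)) • z) + ((w ⬝ᵥ v) / (w ⬝ᵥ z)) • z :=
    fun v => by abel
  have hker : ∀ v : Fin (k + 1) → F, w ⬝ᵥ (v - ((w ⬝ᵥ v) / (w ⬝ᵥ z)) • z) = 0 := fun v => by simp [hw3]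
  by_cases hd : (x - 1).det = 0
  · -- the image avoids `x'`
    have hxI : ∀ v, (x - 1) *ᵥ v ≠ x' := fun v hv => h6 hd (v - e) (by
      rw [Matrix.mulVec_sub, hv, hsub]; abel)
    have hline : ∃ u' : Fin (k + 1) → F, ∀ y, w ⬝ᵥ y = 0 → ∃ a : F, (x - 1) *ᵥ y = a • u' := by
      by_cases h0 : ∃ y, w ⬝ᵥ y = 0 ∧ (x - 1) *ᵥ y ≠ 0
      · obtain ⟨y, hy, hy0⟩ := h0
        refine ⟨(x - 1) *ᵥ y, fun y' hy' => ?_⟩
        obtain ⟨a, ha⟩ := hW y hy
        obtain ⟨b, hb⟩ := hW y' hy'
        by_cases hw0 : b * w ⬝ᵥ (x *ᵥ y) - a * w ⬝ᵥ (x *ᵥ y') = 0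
        · have ha0 : a ≠ 0 := by
            intro ha0
            rw [ha0, zero_smul, add_zero] at ha
            rcases eq_or_ne (w ⬝ᵥ (x *ᵥ y)) 0 with hq | hq
            · exact hy0 (by rw [ha, hq, zero_smul])
            · exact hxI ((w ⬝ᵥ (x *ᵥ y))⁻¹ • y) (by
                rw [Matrix.mulVec_smul, ha, smul_smul, inv_mul_cancel₀ hq, one_smul])
          have hval : w ⬝ᵥ (x *ᵥ y') = b / a * w ⬝ᵥ (x *ᵥ y) := by
            field_simp
            linear_combination -hw0
          refine ⟨b / a, ?_⟩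
          rw [hb, ha, hval, smul_add, smul_smul, smul_smul, div_mul_cancel₀ b ha0]
        · exact absurd (by
            rw [Matrix.mulVec_smul, Matrix.mulVec_sub, Matrix.mulVec_smul, Matrix.mulVec_smul, ha, hb,
              show b • ((w ⬝ᵥ (x *ᵥ y)) • x' + a • u) - a • ((w ⬝ᵥ (x *ᵥ y')) • x' + b • u) =
                (b * w ⬝ᵥ (x *ᵥ y) - a * w ⬝ᵥ (x *ᵥ y')) • x' by module,
              smul_smul, inv_mul_cancel₀ hw0, one_smul])
            (hxI ((b * w ⬝ᵥ (x *ᵥ y) - a * w ⬝ᵥ (x *ᵥ y'))⁻¹ • (b • y - a • y')))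
      · push Not at h0
        exact ⟨0, fun y hy => ⟨0, by rw [h0 y hy, zero_smul]⟩⟩
    obtain ⟨u', hu'⟩ := hline
    obtain ⟨v, hv⟩ := hg.2 u'
    obtain ⟨a, ha⟩ := hu' _ (hker v)
    refine hv a ?_
    rw [hsplit v, Matrix.mulVec_add, Matrix.mulVec_smul, hz0 hd, smul_zero, add_zero, ha]
  · -- the image is everything
    have hle : (⊤ : Submodule F (Fin (k + 1) → F)) ≤ Submodule.span F (Set.range ![x', u, (x - 1) *ᵥ z]) := by
      intro v _
      obtain ⟨p, hp⟩ := (Matrix.mulVec_surjective_iff_isUnit (A := x - 1)).2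
        ((Matrix.isUnit_iff_isUnit_det _).2 (isUnit_iff_ne_zero.2 hd)) v
      obtain ⟨a, ha⟩ := hW _ (hker p)
      rw [← hp, hsplit p, Matrix.mulVec_add, Matrix.mulVec_smul, ha]
      exact Submodule.add_mem _ (Submodule.add_mem _
        (Submodule.smul_mem _ _ (Submodule.subset_span ⟨0, rfl⟩))
        (Submodule.smul_mem _ _ (Submodule.subset_span ⟨1, rfl⟩)))
        (Submodule.smul_mem _ _ (Submodule.subset_span ⟨2, rfl⟩))
    by_cases hk2' : k = 2
    · rw [hz2 hk2' hd] at hle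
      have hle' : (⊤ : Submodule F (Fin (k + 1) → F)) ≤ Submodule.span F (Set.range ![x', u]) := by
        refine hle.trans (Submodule.span_mono ?_)
        rintro _ ⟨i, rfl⟩
        fin_cases i
        exacts [⟨0, rfl⟩, ⟨1, rfl⟩, ⟨0, rfl⟩]
      have h1' := (Submodule.finrank_mono hle').trans (finrank_range_le_card _)
      rw [finrank_top, Module.finrank_fin_fun, Fintype.card_fin] at h1'
      omega
    · have h1' := (Submodule.finrank_mono hle).trans (finrank_range_le_card _)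
      rw [finrank_top, Module.finrank_fin_fun, Fintype.card_fin] at h1'
      omega

end Cfsg.Agent.ClassSquare
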