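/-
Regular unipotent matrices: they form one class of the general linear group, and triangular criteria.
-/
import Mathlib

set_option autoImplicit false

namespace Cfsg.Agent.ClassSquare

open Matrix

variable {F : Type*} [Field F] {k : ℕ}

/-- A regular unipotent matrix. -/
def IsReg (m : Matrix (Fin k) (Fin k) F) : Prop :=
  (m - 1) ^ k = 0 ∧ (k = 0 ∨ (m - 1) ^ (k - 1) ≠ 0)

/-- The shift. -/
def shift (k : ℕ) (F : Type*) [Field F] : Matrix (Fin k) (Fin k) F :=
  Matrix.of fun i j => if (i : ℕ) + 1 = j then 1 else 0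

/-- The Jordan block with eigenvalue one. -/
def jordan (k : ℕ) (F : Type*) [Field F] : Matrix (Fin k) (Fin k) F := 1 + shift k F

/-- Strictly upper triangular. -/
def StrictUpper (N : Matrix (Fin k) (Fin k) F) : Prop := ∀ i j : Fin k, (j : ℕ) ≤ i → N i j = 0

theorem StrictUpper.pow_zero_below {N : Matrix (Fin k) (Fin k) F} (h : StrictUpper N) :
    ∀ (r : ℕ) (i j : Fin k), (j : ℕ) < i + r → (N ^ r) i j = 0
  | 0, i, j, hij => by
    rw [pow_zero, Matrix.one_apply_ne]
    intro e; subst e; omega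
  | r + 1, i, j, hij => by
    rw [pow_succ, Matrix.mul_apply]
    refine Finset.sum_eq_zero fun l _ => ?_
    by_cases hl : (l : ℕ) < i + r
    · rw [StrictUpper.pow_zero_below h r i l hl, zero_mul]
    · rw [h l j (by omega), mul_zero]

theorem StrictUpper.pow_diag {N : Matrix (Fin k) (Fin k) F} (h : StrictUpper N)
    (hs : ∀ i j : Fin k, (i : ℕ) + 1 = j → N i j ≠ 0) :
    ∀ (r : ℕ) (i j : Fin k), (j : ℕ) = i + r → (N ^ r) i j ≠ 0
  | 0, i, j, hij => by
    rw [pow_zero, show i = j from Fin.ext (by omega), Matrix.one_apply_eq]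
    exact one_ne_zero
  | r + 1, i, j, hij => by
    have hl : (i : ℕ) + r < k := by omega
    rw [pow_succ, Matrix.mul_apply, Finset.sum_eq_single (⟨i + r, hl⟩ : Fin k)]
    · exact mul_ne_zero (StrictUpper.pow_diag h hs r i _ rfl) (hs _ _ (by show (i : ℕ) + r + 1 = j; omega))
    · intro l _ hne
      by_cases hlt : (l : ℕ) < i + r
      · rw [h.pow_zero_below r i l hlt, zero_mul]
      · rw [h l j (by
          have : (l : ℕ) ≠ i + r := fun e => hne (Fin.ext e)
          omega), mul_zero]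
    · exact fun hn => absurd (Finset.mem_univ _) hn

theorem StrictUpper.nilp {N : Matrix (Fin k) (Fin k) F} (h : StrictUpper N) : N ^ k = 0 := by
  ext i j
  exact h.pow_zero_below k i j (by omega)

theorem isReg_of_upper {m : Matrix (Fin k) (Fin k) F} (h : StrictUpper (m - 1))
    (hs : ∀ i j : Fin k, (i : ℕ) + 1 = j → m i j ≠ 0) : IsReg m := by
  refine ⟨h.nilp, (Nat.eq_zero_or_pos k).imp_right fun hk e => ?_⟩
  have := h.pow_diag (fun i j hij => by
    rw [Matrix.sub_apply, Matrix.one_apply_ne (fun e => by subst e; omega), sub_zero]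
    exact hs i j hij) (k - 1) ⟨0, hk⟩ ⟨k - 1, by omega⟩ (by simp)
  exact this (by rw [e]; rfl)

theorem isReg_transpose {m : Matrix (Fin k) (Fin k) F} (h : IsReg m) : IsReg mᵀ := by
  have e : ∀ r, (mᵀ - 1) ^ r = ((m - 1) ^ r)ᵀ := fun r => by
    rw [Matrix.transpose_pow, Matrix.transpose_sub, Matrix.transpose_one]
  refine ⟨by rw [e, h.1, Matrix.transpose_zero], h.2.imp_right fun h2 e2 => h2 ?_⟩
  rw [e] at e2
  simpa using congrArg Matrix.transpose e2

theorem isReg_of_lower {m : Matrix (Fin k) (Fin k) F}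
    (h : ∀ i j : Fin k, (i : ℕ) ≤ j → (m - 1) i j = 0)
    (hs : ∀ i j : Fin k, (j : ℕ) + 1 = i → m i j ≠ 0) : IsReg m := by
  have := isReg_transpose (isReg_of_upper (m := mᵀ) (fun i j hij => by
    have := h j i hij
    simpa [Matrix.one_apply, eq_comm] using this) fun i j hij => hs j i hij)
  rwa [Matrix.transpose_transpose] at this

theorem isReg_jordan (k : ℕ) : IsReg (jordan k F) := by
  refine isReg_of_upper (fun i j hij => ?_) fun i j hij => ?_
  · simp [jordan, shift, show ¬((i : ℕ) + 1 = j) by omega]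
  · simp [jordan, shift, hij, Matrix.one_apply, show i ≠ j from fun e => by subst e; omega]

theorem isReg_conj {m : Matrix (Fin k) (Fin k) F} (h : IsReg m) (P : GL (Fin k) F) :
    IsReg (P.1 * m * P⁻¹.1) := by
  have e : ∀ r, (P.1 * m * P⁻¹.1 - 1) ^ r = P.1 * (m - 1) ^ r * P⁻¹.1 := fun r => by
    rw [show P.1 * m * P⁻¹.1 - 1 = P.1 * (m - 1) * P⁻¹.1 by simp [mul_sub, sub_mul]]
    exact Units.conj_pow P (m - 1) r
  refine ⟨by rw [e, h.1, mul_zero, zero_mul], h.2.imp_right fun h2 e2 => h2 ?_⟩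
  rw [e] at e2
  simpa [mul_assoc] using congrArg (fun z => P⁻¹.1 * z * P.1) e2

/-- A regular unipotent is conjugate to the Jordan block under `GL`. -/
theorem exists_conj_jordan {m : Matrix (Fin k) (Fin k) F} (h : IsReg m) :
    ∃ P : GL (Fin k) F, P.1 * jordan k F * P⁻¹.1 = m := by
  rcases Nat.eq_zero_or_pos k with rfl | hk
  · exact ⟨1, by ext i; exact i.elim0⟩
  set N := m - 1 with hN
  obtain ⟨v, hv⟩ : ∃ v, (N ^ (k - 1)) *ᵥ v ≠ 0 := by
    by_contra hno
    push Not at hno
    exact (h.2.resolve_left (by omega)) (Matrix.ext_of_mulVec_single fun i => by rw [hno, Matrix.zero_mulVec])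
  let b : Fin k → Fin k → F := fun j => (N ^ (k - 1 - (j : ℕ))) *ᵥ v
  have hkill : ∀ r, k ≤ r → N ^ r = 0 := fun r hr => by
    rw [show r = k + (r - k) by omega, pow_add, h.1, zero_mul]
  have hli : LinearIndependent F b := by
    rw [Fintype.linearIndependent_iff]
    intro g hg
    suffices H : ∀ i : ℕ, ∀ j : Fin k, (j : ℕ) + i = k - 1 → g j = 0 from
      fun j => H (k - 1 - j) j (by omega)
    intro i
    induction i using Nat.strong_induction_on with
    | _ i ih =>
      intro j hj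
      have h1 : (N ^ (k - 1 - i)) *ᵥ (∑ l, g l • b l) = 0 := by rw [hg, Matrix.mulVec_zero]
      rw [Matrix.mulVec_sum, Finset.sum_eq_single j] at h1
      · simp only [b, Matrix.mulVec_smul, Matrix.mulVec_mulVec, ← pow_add,
          show k - 1 - i + (k - 1 - (j : ℕ)) = k - 1 by omega] at h1
        exact (smul_eq_zero.1 h1).resolve_right hv
      · intro l _ hl
        have hlj : (l : ℕ) ≠ j := fun e => hl (Fin.ext e)
        rcases Nat.lt_or_gt_of_ne hlj with hlt | hgt
        · simp only [b, Matrix.mulVec_smul, Matrix.mulVec_mulVec, ← pow_add]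
          rw [hkill _ (by omega), Matrix.zero_mulVec, smul_zero]
        · rw [ih (k - 1 - l) (by omega) l (by omega), zero_smul, Matrix.mulVec_zero]
      · exact fun hn => absurd (Finset.mem_univ _) hn
  let P : Matrix (Fin k) (Fin k) F := (Matrix.of b)ᵀ
  have hP : IsUnit P := Matrix.linearIndependent_cols_iff_isUnit.1 hli
  refine ⟨hP.unit, ?_⟩
  have e : P * shift k F = N * P := by
    ext i j
    have e2 : (N * P) i j = (N *ᵥ b j) i := rfl
    rw [e2, Matrix.mul_apply]
    simp only [b, Matrix.mulVec_mulVec, ← pow_succ']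
    by_cases hj : (j : ℕ) = 0
    · rw [hkill _ (by omega), Matrix.zero_mulVec]
      refine Finset.sum_eq_zero fun l _ => ?_
      simp [shift, show ¬((l : ℕ) + 1 = j) by omega]
    · rw [Finset.sum_eq_single (⟨(j : ℕ) - 1, by omega⟩ : Fin k)]
      · simp [shift, P, b, show (j : ℕ) - 1 + 1 = j by omega,
          show k - 1 - ((j : ℕ) - 1) = k - 1 - (j : ℕ) + 1 by omega]
      · intro l _ hl
        simp [shift, show ¬((l : ℕ) + 1 = j) from fun e => hl (Fin.ext (by simp; omega))]
      · exact fun hn => absurd (Finset.mem_univ _) hn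
  have e2 : P * jordan k F = m * P := by
    rw [jordan, mul_add, mul_one, e, show m = 1 + N by simp [hN], add_mul, one_mul]
  calc hP.unit.1 * jordan k F * hP.unit⁻¹.1 = m * (hP.unit.1 * hP.unit⁻¹.1) := by
        rw [IsUnit.unit_spec, e2, mul_assoc]
    _ = m := by rw [Units.mul_inv, mul_one]

theorem IsReg.det_eq_one {m : Matrix (Fin k) (Fin k) F} (h : IsReg m) : m.det = 1 := by
  obtain ⟨P, rfl⟩ := exists_conj_jordan h
  rw [Matrix.det_units_conj, Matrix.det_of_upperTriangular]
  · simp [jordan, shift]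
  · intro i j hij
    have : (j : ℕ) < i := hij
    simp [jordan, shift, show ¬((i : ℕ) + 1 = j) by omega, Matrix.one_apply,
      show i ≠ j from fun e => by subst e; omega]

theorem IsReg.inv {k : ℕ} (m : Matrix (Fin k) (Fin k) F) (h : IsReg m) (P : GL (Fin k) F)
    (hP : P.1 = m) : IsReg P⁻¹.1 := by
  have hc : P⁻¹.1 * (m - 1) = (m - 1) * P⁻¹.1 := by rw [← hP]; simp [mul_sub, sub_mul]
  have e1 : P⁻¹.1 - 1 = -((m - 1) * P⁻¹.1) := by rw [← hP]; simp [sub_mul]
  have e : ∀ r, (P⁻¹.1 - 1) ^ r = (-1) ^ r * ((m - 1) ^ r * P⁻¹.1 ^ r) := fun r => by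
    rw [e1, neg_pow, (Commute.mul_pow (show Commute (m - 1) P⁻¹.1 from hc.symm) r)]
  refine ⟨by rw [e, h.1, zero_mul, mul_zero], h.2.imp_right fun h2 e2 => h2 ?_⟩
  rw [e] at e2
  have e3 : (m - 1) ^ (k - 1) * P⁻¹.1 ^ (k - 1) = 0 := by
    have := congrArg ((-1 : Matrix (Fin k) (Fin k) F) ^ (k - 1) * ·) e2
    simp only [mul_zero, ← mul_assoc] at this
    rwa [← (Commute.refl (-1 : Matrix (Fin k) (Fin k) F)).mul_pow, neg_mul_neg, one_mul, one_pow, one_mul] at this
  have := congrArg (· * (P ^ (k - 1)).1) e3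
  simpa [mul_assoc, ← Units.val_pow_eq_pow_val, ← Units.val_mul] using this

end Cfsg.Agent.ClassSquare
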