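/-
Every non-scalar matrix of determinant one is a product of two regular unipotent matrices.
-/
import Mathlib
import Cfsg.Agent.Lib.ClassSquare.Regular
import Cfsg.Agent.Lib.ClassSquare.ChoiceMain

set_option autoImplicit false

namespace Cfsg.Agent.ClassSquare

open Matrix

variable {F : Type*} [Field F] {k : ℕ}

/-- A block matrix with a one by one corner. -/
def bl (a : F) (r c : Fin k → F) (D : Matrix (Fin k) (Fin k) F) : Matrix (Fin (k + 1)) (Fin (k + 1)) F :=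
  Matrix.of (Fin.cons (Fin.cons a r) fun i => Fin.cons (c i) (D i))

theorem bl_zero_zero (a : F) (r c : Fin k → F) (D) : bl a r c D 0 0 = a := rfl

theorem bl_zero_succ (a : F) (r c : Fin k → F) (D) (j : Fin k) : bl a r c D 0 j.succ = r j := by simp [bl]

theorem bl_succ_zero (a : F) (r c : Fin k → F) (D) (i : Fin k) : bl a r c D i.succ 0 = c i := by simp [bl]

theorem bl_succ_succ (a : F) (r c : Fin k → F) (D) (i j : Fin k) : bl a r c D i.succ j.succ = D i j := by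
  simp [bl]

theorem bl_mul (a a' : F) (r c r' c' : Fin k → F) (D D' : Matrix (Fin k) (Fin k) F) :
    bl a r c D * bl a' r' c' D' =
      bl (a * a' + r ⬝ᵥ c') (a • r' + r ᵥ* D') (a' • c + D *ᵥ c') (Matrix.vecMulVec c r' + D * D') := by
  ext i j
  rw [Matrix.mul_apply, Fin.sum_univ_succ]
  cases i using Fin.cases <;> cases j using Fin.cases <;>
    simp [bl_zero_zero, bl_zero_succ, bl_succ_zero, bl_succ_succ, dotProduct, Matrix.vecMul, Matrix.mulVec,
      Matrix.mul_apply, Matrix.vecMulVec_apply, mul_comm]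

theorem bl_one : (1 : Matrix (Fin (k + 1)) (Fin (k + 1)) F) = bl 1 0 0 1 := by
  ext i j
  cases i using Fin.cases <;> cases j using Fin.cases <;>
    simp [bl_zero_zero, bl_zero_succ, bl_succ_zero, bl_succ_succ, Matrix.one_apply, Fin.succ_inj,
      Fin.succ_ne_zero, (Fin.succ_ne_zero _).symm]

theorem bl_sub (a a' : F) (r c r' c' : Fin k → F) (D D' : Matrix (Fin k) (Fin k) F) :
    bl a r c D - bl a' r' c' D' = bl (a - a') (r - r') (c - c') (D - D') := by
  ext i j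
  cases i using Fin.cases <;> cases j using Fin.cases <;>
    simp [bl_zero_zero, bl_zero_succ, bl_succ_zero, bl_succ_succ]

theorem bl_pow_col (c : Fin k → F) (N : Matrix (Fin k) (Fin k) F) :
    ∀ r, (bl 0 0 c N) ^ (r + 1) = bl 0 0 ((N ^ r) *ᵥ c) (N ^ (r + 1))
  | 0 => by simp
  | r + 1 => by
    rw [pow_succ' (bl 0 0 c N), bl_pow_col c N r, bl_mul]
    simp [Matrix.mulVec_mulVec, ← pow_succ', Matrix.vecMulVec_zero]

theorem bl_pow_row (w : Fin k → F) (N : Matrix (Fin k) (Fin k) F) :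
    ∀ r, (bl 0 w 0 N) ^ (r + 1) = bl 0 (w ᵥ* N ^ r) 0 (N ^ (r + 1))
  | 0 => by simp
  | r + 1 => by
    rw [pow_succ (bl 0 w 0 N), bl_pow_row w N r, bl_mul]
    simp [Matrix.vecMul_vecMul, ← pow_succ, Matrix.zero_vecMulVec]

theorem bl_eq_zero_iff {a : F} {r c : Fin k → F} {D : Matrix (Fin k) (Fin k) F} :
    bl a r c D = 0 ↔ a = 0 ∧ r = 0 ∧ c = 0 ∧ D = 0 := by
  constructor
  · intro h
    refine ⟨congrFun (congrFun h 0) 0, ?_, ?_, ?_⟩
    · funext j; simpa [bl_zero_succ] using congrFun (congrFun h 0) j.succ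
    · funext i; simpa [bl_succ_zero] using congrFun (congrFun h i.succ) 0
    · ext i j; simpa [bl_succ_succ] using congrFun (congrFun h i.succ) j.succ
  · rintro ⟨rfl, rfl, rfl, rfl⟩
    ext i j
    cases i using Fin.cases <;> cases j using Fin.cases <;>
      simp [bl_zero_zero, bl_zero_succ, bl_succ_zero, bl_succ_succ]

theorem bl_mulVec (a : F) (r c : Fin k → F) (D : Matrix (Fin k) (Fin k) F) (t : F) (η : Fin k → F) :
    bl a r c D *ᵥ Fin.cons t η = Fin.cons (a * t + r ⬝ᵥ η) (t • c + D *ᵥ η) := by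
  funext i
  cases i using Fin.cases <;>
    simp [Matrix.mulVec, dotProduct, Fin.sum_univ_succ, bl_zero_zero, bl_zero_succ, bl_succ_zero,
      bl_succ_succ, mul_comm]

theorem vecMul_bl (a : F) (r c : Fin k → F) (D : Matrix (Fin k) (Fin k) F) (t : F) (η : Fin k → F) :
    Fin.cons t η ᵥ* bl a r c D = Fin.cons (t * a + η ⬝ᵥ c) (t • r + η ᵥ* D) := by
  funext i
  cases i using Fin.cases <;>
    simp [Matrix.vecMul, dotProduct, Fin.sum_univ_succ, bl_zero_zero, bl_zero_succ, bl_succ_zero,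
      bl_succ_succ, mul_comm]

/-- Regularity of a lower extension. -/
theorem isReg_col (hk : 1 ≤ k) (c : Fin k → F) {D : Matrix (Fin k) (Fin k) F} (hD : IsReg D)
    (hc : ((D - 1) ^ (k - 1)) *ᵥ c ≠ 0) :
    IsReg (bl 1 0 c D) ∧ (bl 1 0 c D - 1) ^ (k + 1 - 1) = bl 0 0 (((D - 1) ^ (k - 1)) *ᵥ c) 0 := by
  have e : bl 1 0 c D - 1 = bl 0 0 c (D - 1) := by rw [bl_one, bl_sub]; simp
  obtain ⟨k, rfl⟩ : ∃ l, k = l + 1 := ⟨k - 1, by omega⟩
  rw [Nat.add_sub_cancel] at hc ⊢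
  have e1 : (bl 0 0 c (D - 1)) ^ (k + 1) = bl 0 0 (((D - 1) ^ k) *ᵥ c) 0 := by
    rw [bl_pow_col, hD.1]
  have hz : (bl 0 0 c (D - 1)) ^ (k + 1 + 1) = 0 := by
    rw [bl_pow_col, bl_eq_zero_iff, pow_succ (D - 1) (k + 1), hD.1]
    simp
  rw [Nat.add_sub_cancel]
  refine ⟨⟨by rw [e, hz], Or.inr ?_⟩, by rw [e, e1]⟩
  rw [Nat.add_sub_cancel, e, e1, Ne, bl_eq_zero_iff]
  exact fun h => hc h.2.2.1

/-- Regularity of an upper extension. -/
theorem isReg_row (hk : 1 ≤ k) (w : Fin k → F) {D : Matrix (Fin k) (Fin k) F} (hD : IsReg D)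
    (hw : w ᵥ* ((D - 1) ^ (k - 1)) ≠ 0) :
    IsReg (bl 1 w 0 D) ∧ (bl 1 w 0 D - 1) ^ (k + 1 - 1) = bl 0 (w ᵥ* ((D - 1) ^ (k - 1))) 0 0 := by
  have e : bl 1 w 0 D - 1 = bl 0 w 0 (D - 1) := by rw [bl_one, bl_sub]; simp
  obtain ⟨k, rfl⟩ : ∃ l, k = l + 1 := ⟨k - 1, by omega⟩
  rw [Nat.add_sub_cancel] at hw ⊢
  have e1 : (bl 0 w 0 (D - 1)) ^ (k + 1) = bl 0 (w ᵥ* ((D - 1) ^ k)) 0 0 := by
    rw [bl_pow_row, hD.1]
  have hz : (bl 0 w 0 (D - 1)) ^ (k + 1 + 1) = 0 := by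
    rw [bl_pow_row, bl_eq_zero_iff, pow_succ (D - 1) (k + 1), hD.1]
    simp
  rw [Nat.add_sub_cancel]
  refine ⟨⟨by rw [e, hz], Or.inr ?_⟩, by rw [e, e1]⟩
  rw [Nat.add_sub_cancel, e, e1, Ne, bl_eq_zero_iff]
  exact fun h => hw h.2.1

/-- A basis adapted to a vector and a functional. -/
theorem exists_adapted {e w : Fin (k + 1) → F} (h : w ⬝ᵥ e = 1) :
    ∃ B : GL (Fin (k + 1)) F, B.1 *ᵥ Pi.single 0 1 = e ∧ w ᵥ* B.1 = Pi.single 0 1 := by
  classical
  obtain ⟨i₀, hi₀⟩ : ∃ i, e i ≠ 0 := by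
    by_contra hno
    push Not at hno
    rw [show e = 0 from funext hno, dotProduct_zero] at h
    exact zero_ne_one h
  let b : Fin (k + 1) → Fin (k + 1) → F :=
    Fin.cons e fun j => Pi.single (i₀.succAbove j) 1 - w (i₀.succAbove j) • e
  let B : Matrix (Fin (k + 1)) (Fin (k + 1)) F := (Matrix.of b)ᵀ
  have hcol : ∀ j, B *ᵥ Pi.single j 1 = b j := fun j => by
    funext i; simp [B, Matrix.mulVec_single]
  have hsurj : Function.Surjective B.mulVec := by
    have hs : ∀ i, ∃ v, B *ᵥ v = (Pi.single i 1 : Fin (k + 1) → F) := by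
      have hne : ∀ j, ∃ v, B *ᵥ v = (Pi.single (i₀.succAbove j) 1 : Fin (k + 1) → F) := fun j =>
        ⟨Pi.single j.succ 1 + w (i₀.succAbove j) • Pi.single 0 1, by
          rw [Matrix.mulVec_add, Matrix.mulVec_smul, hcol, hcol]; simp [b]⟩
      choose v hv using hne
      intro i
      rcases Fin.eq_self_or_eq_succAbove i₀ i with rfl | ⟨j, rfl⟩
      · refine ⟨(e i)⁻¹ • (Pi.single 0 1 - ∑ j, e (i.succAbove j) • v j), ?_⟩
        have hb0 : b 0 = e := rfl
        rw [Matrix.mulVec_smul, Matrix.mulVec_sub, Matrix.mulVec_sum, hcol, hb0]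
        simp only [Matrix.mulVec_smul, hv]
        funext l
        rw [Pi.smul_apply, Pi.sub_apply, Finset.sum_apply, smul_eq_mul]
        rcases Fin.eq_self_or_eq_succAbove i l with rfl | ⟨m, rfl⟩
        · rw [Finset.sum_eq_zero fun j _ => by simp, sub_zero, inv_mul_cancel₀ hi₀, Pi.single_eq_same]
        · rw [Finset.sum_eq_single m (fun j _ hj => by simp [(Fin.succAbove_right_injective).ne hj.symm])
            (fun hn => absurd (Finset.mem_univ _) hn)]
          simp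
      · exact ⟨v j, hv j⟩
    choose v hv using hs
    intro z
    refine ⟨∑ i, z i • v i, ?_⟩
    rw [Matrix.mulVec_sum]
    simp only [Matrix.mulVec_smul, hv]
    funext l
    simp [Finset.sum_apply, Pi.single_apply]
  have hB : IsUnit B := Matrix.mulVec_surjective_iff_isUnit.1 hsurj
  refine ⟨hB.unit, ?_, ?_⟩
  · rw [IsUnit.unit_spec, hcol]; rfl
  · rw [IsUnit.unit_spec]
    funext j
    have : (w ᵥ* B) j = w ⬝ᵥ b j := by simp [Matrix.vecMul, dotProduct, B]
    rw [this]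
    cases j using Fin.cases with
    | zero => simpa [b] using h
    | succ j => simp [b, h]

theorem det_bl (r c : Fin k → F) (D : Matrix (Fin k) (Fin k) F) :
    (bl 1 r c D).det = (D - Matrix.vecMulVec c r).det := by
  have e : bl 1 r c D = bl 1 0 c 1 * bl 1 r 0 (D - Matrix.vecMulVec c r) := by
    rw [bl_mul]
    simp
  rw [e, Matrix.det_mul, Matrix.det_succ_row_zero (bl 1 0 c 1), Matrix.det_succ_column_zero (bl 1 r 0 _),
    Fin.sum_univ_succ, Fin.sum_univ_succ]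
  simp only [bl_zero_zero, bl_zero_succ, bl_succ_zero, Pi.zero_apply, mul_zero, zero_mul,
    Finset.sum_const_zero, add_zero, Fin.val_zero, pow_zero, one_mul]
  rw [show Fin.succAbove (0 : Fin (k + 1)) = Fin.succ from funext fun i => Fin.zero_succAbove i]
  rw [show (bl 1 0 c 1).submatrix Fin.succ Fin.succ = (1 : Matrix (Fin k) (Fin k) F) by
      ext i j; simp [bl_succ_succ],
    show (bl 1 r 0 (D - Matrix.vecMulVec c r)).submatrix Fin.succ Fin.succ = D - Matrix.vecMulVec c r by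
      ext i j; simp [bl_succ_succ],
    Matrix.det_one, one_mul]

theorem eq_bl (M : Matrix (Fin (k + 1)) (Fin (k + 1)) F) :
    M = bl (M 0 0) (fun j => M 0 j.succ) (fun i => M i.succ 0) (Matrix.of fun i j => M i.succ j.succ) := by
  ext i j
  cases i using Fin.cases <;> cases j using Fin.cases <;>
    simp [bl_zero_zero, bl_zero_succ, bl_succ_zero, bl_succ_succ]

variable [Fintype F]

/-- The factorisation with transversality conditions. -/
theorem exists_factor (hF : 9 ≤ Fintype.card F) : ∀ (k : ℕ) (x : Matrix (Fin k) (Fin k) F), 1 ≤ k →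
    x.det = 1 → (k = 1 ∨ Gen x) → ∀ c r : Fin k → F, c ≠ 0 → r ≠ 0 →
    ∃ m₂ m₁, IsReg m₂ ∧ IsReg m₁ ∧ x = m₂ * m₁ ∧ ((m₂ - 1) ^ (k - 1)) *ᵥ c ≠ 0 ∧
      r ᵥ* ((m₁ - 1) ^ (k - 1)) ≠ 0
  | 0, _, h, _, _, _, _, _, _ => absurd h (by omega)
  | 1, x, _, hdet, _, c, r, hc, hr => by
    have hx : x = 1 := by
      ext i j
      rw [Matrix.det_fin_one] at hdet
      rw [Fin.fin_one_eq_zero i, Fin.fin_one_eq_zero j, hdet, Matrix.one_apply_eq]
    refine ⟨1, 1, ⟨by simp, Or.inr (by simp)⟩, ⟨by simp, Or.inr (by simp)⟩, by rw [hx, one_mul],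
      by simpa using hc, by simpa using hr⟩
  | k + 2, x, _, hdet, hx, c, r, hc, hr => by
    have hg : Gen x := hx.resolve_left (by omega)
    obtain ⟨e, w, hwe, hwx, hre, hwc, hne, hwne, hS⟩ :=
      exists_pair hF (by omega : 1 ≤ k + 1) x hdet hg hc hr
    obtain ⟨B, hBe, hBw⟩ := exists_adapted hwe
    set x' := B⁻¹.1 * x * B.1 with hx'
    have hxB : B.1 * x' = x * B.1 := by rw [hx', ← mul_assoc, Units.mul_inv_cancel_left]
    have hwz : ∀ z, (B⁻¹.1 *ᵥ z) 0 = w ⬝ᵥ z := fun z => by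
      rw [← single_one_dotProduct 0 (B⁻¹.1 *ᵥ z), ← hBw, Matrix.dotProduct_mulVec, Matrix.vecMul_vecMul,
        Units.mul_inv, Matrix.vecMul_one]
    have h00 : x' 0 0 = 1 := by
      rw [show x' 0 0 = (x' *ᵥ Pi.single 0 1) 0 by simp, hx', ← Matrix.mulVec_mulVec, hBe,
        ← Matrix.mulVec_mulVec, hwz, hwx]
    set row : Fin (k + 1) → F := fun j => x' 0 j.succ with hrow
    set col : Fin (k + 1) → F := fun i => x' i.succ 0 with hcol
    set D : Matrix (Fin (k + 1)) (Fin (k + 1)) F := Matrix.of fun i j => x' i.succ j.succ with hD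
    have hxb : x' = bl 1 row col D := by
      conv_lhs => rw [eq_bl x', h00]
    set S := D - Matrix.vecMulVec col row with hSdef
    have hSdet : S.det = 1 := by
      rw [hSdef, ← det_bl, ← hxb, hx', Matrix.det_mul, Matrix.det_mul, mul_right_comm, ← Matrix.det_mul,
        Units.inv_mul, Matrix.det_one, one_mul, hdet]
    have hs0 : (Pi.single 0 1 : Fin (k + 2) → F) = Fin.cons 1 0 := by
      funext i; cases i using Fin.cases <;> simp
    -- the action on the kernel of `w`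
    have hSmap : ∀ η, x *ᵥ (B.1 *ᵥ Fin.cons 0 η) - (w ⬝ᵥ (x *ᵥ (B.1 *ᵥ Fin.cons 0 η))) • (x *ᵥ e) =
        B.1 *ᵥ Fin.cons 0 (S *ᵥ η) := fun η => by
      have e1 : x *ᵥ (B.1 *ᵥ Fin.cons 0 η) = B.1 *ᵥ (x' *ᵥ Fin.cons 0 η) := by
        rw [Matrix.mulVec_mulVec, Matrix.mulVec_mulVec, hxB]
      have e2 : x *ᵥ e = B.1 *ᵥ (x' *ᵥ Fin.cons 1 0) := by
        rw [← hs0, Matrix.mulVec_mulVec, hxB, ← Matrix.mulVec_mulVec, hBe]
      rw [e1, e2, hxb, bl_mulVec, bl_mulVec, Matrix.dotProduct_mulVec, hBw, single_one_dotProduct,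
        Fin.cons_zero, ← Matrix.mulVec_smul, ← Matrix.mulVec_sub]
      congr 1
      funext i
      cases i using Fin.cases <;>
        simp [hSdef, Matrix.sub_mulVec, Matrix.vecMulVec_mulVec, mul_comm]
    have hker : ∀ η, w ⬝ᵥ (B.1 *ᵥ Fin.cons 0 η) = 0 := fun η => by
      rw [Matrix.dotProduct_mulVec, hBw, single_one_dotProduct, Fin.cons_zero]
    have hker' : ∀ y, w ⬝ᵥ y = 0 → ∃ η, y = B.1 *ᵥ Fin.cons 0 η := fun y hy => by
      refine ⟨Fin.tail (B⁻¹.1 *ᵥ y), ?_⟩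
      have : B⁻¹.1 *ᵥ y = Fin.cons 0 (Fin.tail (B⁻¹.1 *ᵥ y)) := by
        conv_lhs => rw [← Fin.cons_self_tail (B⁻¹.1 *ᵥ y), hwz, hy]
      rw [← this, Matrix.mulVec_mulVec, Units.mul_inv, Matrix.one_mulVec]
    have hgS : k + 1 = 1 ∨ Gen S := by
      rcases Nat.eq_zero_or_pos k with hk0 | hk0
      · exact Or.inl (by omega)
      obtain ⟨h1, h2⟩ := hS (by omega)
      refine Or.inr ⟨fun a ha => ?_, fun u => ?_⟩
      · obtain ⟨y, hy, hne'⟩ := h1 a
        obtain ⟨η, rfl⟩ := hker' y hy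
        refine hne' ?_
        rw [hSmap, ha, Matrix.smul_mulVec, Matrix.one_mulVec, ← Matrix.mulVec_smul]
        congr 1
        funext i; cases i using Fin.cases <;> simp
      · obtain ⟨y, hy, hne'⟩ := h2 (B.1 *ᵥ Fin.cons 0 u)
        obtain ⟨η, rfl⟩ := hker' y hy
        refine ⟨η, fun a ha => hne' a ?_⟩
        rw [hSmap, ← Matrix.mulVec_sub, ← Matrix.mulVec_smul]
        congr 1
        rw [Matrix.sub_mulVec, Matrix.one_mulVec] at ha
        funext i
        cases i using Fin.cases with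
        | zero => simp
        | succ i => simpa using congrFun ha i
    have hcol0 : col ≠ 0 := fun h => by
      refine hne ?_
      rw [← hBe, Matrix.mulVec_mulVec, ← hxB, ← Matrix.mulVec_mulVec, hxb, hs0, bl_mulVec, h]
      simp
    have hrow0 : row ≠ 0 := fun h => by
      refine hwne ?_
      have e1 : (w ᵥ* x) ᵥ* B.1 = w ᵥ* B.1 := by
        rw [Matrix.vecMul_vecMul, ← hxB, ← Matrix.vecMul_vecMul, hBw, hxb, hs0, vecMul_bl, h]
        simp
      have := congrArg (fun z => z ᵥ* B⁻¹.1) e1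
      simpa [Matrix.vecMul_vecMul, mul_assoc] using this
    obtain ⟨v, u, hv, hu, hvu, hvc, hur⟩ := exists_factor hF (k + 1) S (by omega) hSdet hgS col row hcol0 hrow0
    obtain ⟨hm2, hm2'⟩ := isReg_col (by omega) col hv hvc
    obtain ⟨hm1, hm1'⟩ := isReg_row (by omega) row hu hur
    have hprod : x' = bl 1 0 col v * bl 1 row 0 u := by
      rw [hxb, bl_mul, ← hvu, hSdef]
      simp
    refine ⟨B.1 * bl 1 0 col v * B⁻¹.1, B.1 * bl 1 row 0 u * B⁻¹.1, isReg_conj hm2 B, isReg_conj hm1 B,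
      ?_, ?_, ?_⟩
    · rw [show B.1 * bl 1 0 col v * B⁻¹.1 * (B.1 * bl 1 row 0 u * B⁻¹.1) =
        B.1 * (bl 1 0 col v * bl 1 row 0 u) * B⁻¹.1 by simp [mul_assoc], ← hprod, hxB, mul_assoc,
        Units.mul_inv, mul_one]
    · rw [show B.1 * bl 1 0 col v * B⁻¹.1 - 1 = B.1 * (bl 1 0 col v - 1) * B⁻¹.1 by
        simp [mul_sub, sub_mul], Units.conj_pow, show k + 2 - 1 = k + 1 + 1 - 1 from rfl, hm2',
        ← Matrix.mulVec_mulVec, ← Matrix.mulVec_mulVec,
        show B⁻¹.1 *ᵥ c = Fin.cons (w ⬝ᵥ c) (Fin.tail (B⁻¹.1 *ᵥ c)) by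
          conv_lhs => rw [← Fin.cons_self_tail (B⁻¹.1 *ᵥ c), hwz], bl_mulVec]
      intro h
      have h' := congrArg (fun z => B⁻¹.1 *ᵥ z) h
      simp only [Matrix.mulVec_mulVec, Units.inv_mul, Matrix.one_mulVec, Matrix.mulVec_zero] at h'
      refine hvc (funext fun i => ?_)
      have := congrFun h' i.succ
      simpa [hwc] using this
    · rw [show B.1 * bl 1 row 0 u * B⁻¹.1 - 1 = B.1 * (bl 1 row 0 u - 1) * B⁻¹.1 by
        simp [mul_sub, sub_mul], Units.conj_pow, show k + 2 - 1 = k + 1 + 1 - 1 from rfl, hm1',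
        ← Matrix.vecMul_vecMul, ← Matrix.vecMul_vecMul,
        show r ᵥ* B.1 = Fin.cons (r ⬝ᵥ e) (Fin.tail (r ᵥ* B.1)) by
          conv_lhs => rw [← Fin.cons_self_tail (r ᵥ* B.1)]
          rw [← hBe, Matrix.dotProduct_mulVec, dotProduct_single, mul_one], vecMul_bl]
      intro h
      have h' := congrArg (fun z => z ᵥ* B.1) h
      simp only [Matrix.vecMul_vecMul, Units.inv_mul, Matrix.vecMul_one, Matrix.zero_vecMul] at h'
      refine hur (funext fun i => ?_)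
      have := congrFun h' i.succ
      simpa [hre] using this

/-- Every non-scalar matrix of determinant one, and the identity, is a product of two regular unipotents. -/
theorem exists_two_reg (hF : 9 ≤ Fintype.card F) (x : Matrix (Fin k) (Fin k) F) (hdet : x.det = 1)
    (hx : x = 1 ∨ ∀ a : F, x ≠ a • 1) : ∃ m₂ m₁, IsReg m₂ ∧ IsReg m₁ ∧ x = m₂ * m₁ := by
  rcases Nat.eq_zero_or_pos k with rfl | hk
  · exact ⟨1, 1, ⟨by ext i; exact i.elim0, Or.inl rfl⟩, ⟨by ext i; exact i.elim0, Or.inl rfl⟩,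
      by ext i; exact i.elim0⟩
  by_cases h1 : x = 1
  · have hJ : IsUnit (jordan k F) :=
      (Matrix.isUnit_iff_isUnit_det _).2 (by rw [(isReg_jordan k).det_eq_one]; exact isUnit_one)
    exact ⟨jordan k F, hJ.unit⁻¹.1, isReg_jordan k, (isReg_jordan k).inv _ hJ.unit rfl,
      by rw [h1]; exact (hJ.mul_val_inv).symm⟩
  have hns := hx.resolve_left h1
  by_cases hg : Gen x
  · obtain ⟨m₂, m₁, a, b, c, -⟩ := exists_factor hF k x hk hdet (Or.inr hg)
      (fun _ => 1) (fun _ => 1) (fun h => one_ne_zero (congrFun h ⟨0, hk⟩))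
      (fun h => one_ne_zero (congrFun h ⟨0, hk⟩))
    exact ⟨m₂, m₁, a, b, c⟩
  -- a transvection
  obtain ⟨k, rfl⟩ : ∃ k', k = k' + 1 := ⟨k - 1, by omega⟩
  rcases Nat.eq_zero_or_pos k with rfl | hk1
  · exact absurd (by
      ext i j
      rw [Matrix.det_fin_one] at hdet
      rw [Fin.fin_one_eq_zero i, Fin.fin_one_eq_zero j, hdet, Matrix.one_apply_eq]) h1
  have hu : ∃ u, ∀ y, ∃ a : F, (x - 1) *ᵥ y = a • u := by
    by_contra hno
    push Not at hno
    exact hg ⟨hns, hno⟩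
  obtain ⟨u, hu⟩ := hu
  choose f hf using fun i => hu (Pi.single i 1)
  have hxu : x = 1 + Matrix.vecMulVec u f := by
    ext i j
    have := congrFun (hf j) i
    simp [Matrix.sub_mulVec, Matrix.one_apply, Pi.single_apply] at this
    rw [Matrix.add_apply, Matrix.vecMulVec_apply, Matrix.one_apply, mul_comm]
    linear_combination this
  obtain ⟨i, hi⟩ : ∃ i, f i ≠ 0 := by
    by_contra hno
    push Not at hno
    exact h1 (by rw [hxu, show f = 0 from funext hno, Matrix.vecMulVec_zero, add_zero])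
  have hu0 : u ≠ 0 := fun h => h1 (by rw [hxu, h, Matrix.zero_vecMulVec, add_zero])
  obtain ⟨B, hBe, hBw⟩ := exists_adapted (e := (f i)⁻¹ • Pi.single i 1) (w := f)
    (by rw [dotProduct_smul, dotProduct_single, mul_one, smul_eq_mul, inv_mul_cancel₀ hi])
  have hfu : f ⬝ᵥ u = 0 := by
    rw [hxu, Matrix.vecMulVec_eq Unit,
      Matrix.det_one_add_replicateCol_mul_replicateRow] at hdet
    linear_combination hdet
  set c := Fin.tail (B⁻¹.1 *ᵥ u) with hc
  have hBu : B⁻¹.1 *ᵥ u = Fin.cons 0 c := by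
    have : (B⁻¹.1 *ᵥ u) 0 = 0 := by
      rw [← single_one_dotProduct 0 (B⁻¹.1 *ᵥ u), ← hBw, Matrix.dotProduct_mulVec, Matrix.vecMul_vecMul,
        Units.mul_inv, Matrix.vecMul_one, hfu]
    conv_lhs => rw [← Fin.cons_self_tail (B⁻¹.1 *ᵥ u), this]
  have hxB : B⁻¹.1 * x * B.1 = bl 1 0 c 1 := by
    rw [hxu, mul_add, add_mul, mul_one, Units.inv_mul, Matrix.mul_vecMulVec, Matrix.vecMulVec_mul, hBu,
      hBw, bl_one]
    ext a b
    cases a using Fin.cases <;> cases b using Fin.cases <;>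
      simp [bl_zero_zero, bl_zero_succ, bl_succ_zero, bl_succ_succ, Matrix.vecMulVec_apply]
  -- lower Jordan blocks
  have hD : IsReg (jordan k F)ᵀ := isReg_transpose (isReg_jordan k)
  set D := (jordan k F)ᵀ with hDdef
  have hDu : IsUnit D := (Matrix.isUnit_iff_isUnit_det _).2 (by rw [hD.det_eq_one]; exact isUnit_one)
  obtain ⟨v₀, hv₀⟩ : ∃ v, ((D - 1) ^ (k - 1)) *ᵥ v ≠ 0 := by
    by_contra hno
    push Not at hno
    exact hD.2.resolve_left (by omega) (Matrix.ext_of_mulVec_single fun i => by rw [hno, Matrix.zero_mulVec])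
  classical
  obtain ⟨a, ha0, ha⟩ : ∃ a : F, a ≠ 0 ∧ ((D - 1) ^ (k - 1)) *ᵥ (a • v₀) ≠ ((D - 1) ^ (k - 1)) *ᵥ c := by
    by_contra hno
    push Not at hno
    obtain ⟨b, hb⟩ : ∃ b : F, b ∉ ({0, 1} : Finset F) := by
      obtain ⟨b, -, hb⟩ := Finset.exists_mem_notMem_of_card_lt_card (s := ({0, 1} : Finset F))
        (t := Finset.univ) (lt_of_le_of_lt Finset.card_le_two (by rw [Finset.card_univ]; omega))
      exact ⟨b, hb⟩
    simp only [Finset.mem_insert, Finset.mem_singleton, not_or] at hb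
    have e1 := hno 1 one_ne_zero
    have e2 := hno b hb.1
    rw [← e1, Matrix.mulVec_smul, Matrix.mulVec_smul, ← sub_eq_zero, ← sub_smul, smul_eq_zero, sub_eq_zero] at e2
    exact hb.2 (e2.resolve_right hv₀)
  have hfix : ((D - 1) ^ (k - 1)) * D = (D - 1) ^ (k - 1) := by
    have e : (D - 1) ^ (k - 1) * (D - 1) = 0 := by rw [← pow_succ, show k - 1 + 1 = k by omega, hD.1]
    rwa [mul_sub, mul_one, sub_eq_zero] at e
  have hfix' : ((D - 1) ^ (k - 1)) * hDu.unit⁻¹.1 = (D - 1) ^ (k - 1) := by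
    conv_lhs => rw [← hfix, mul_assoc, hDu.mul_val_inv, mul_one]
  have hDinv : IsReg hDu.unit⁻¹.1 := hD.inv _ hDu.unit rfl
  have hpow : (hDu.unit⁻¹.1 - 1) ^ (k - 1) = ((-1 : F) ^ (k - 1)) • (D - 1) ^ (k - 1) := by
    have hcomm : Commute (D - 1) hDu.unit⁻¹.1 := by
      refine Commute.sub_left ?_ (Commute.one_left _)
      show D * _ = _ * D
      rw [hDu.mul_val_inv, hDu.val_inv_mul]
    rw [show hDu.unit⁻¹.1 - 1 = (-1 : F) • ((D - 1) * hDu.unit⁻¹.1) by
      rw [sub_mul, one_mul, hDu.mul_val_inv, neg_one_smul, neg_sub], smul_pow, hcomm.mul_pow]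
    congr 1
    have : ∀ r, (D - 1) ^ (k - 1) * hDu.unit⁻¹.1 ^ r = (D - 1) ^ (k - 1) := by
      intro r
      induction r with
      | zero => simp
      | succ r ih => rw [pow_succ, ← mul_assoc, ih, hfix']
    exact this _
  obtain ⟨hm1, -⟩ := isReg_col hk1 (a • v₀) hDinv (by
    rw [hpow, Matrix.smul_mulVec, Matrix.mulVec_smul]
    simp [ha0, hv₀])
  obtain ⟨hm2, -⟩ := isReg_col hk1 (c - D *ᵥ (a • v₀)) hD (by
    rw [Matrix.mulVec_sub, Matrix.mulVec_mulVec, hfix, sub_ne_zero]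
    exact Ne.symm ha)
  refine ⟨B.1 * bl 1 0 (c - D *ᵥ (a • v₀)) D * B⁻¹.1, B.1 * bl 1 0 (a • v₀) hDu.unit⁻¹.1 * B⁻¹.1,
    isReg_conj hm2 B, isReg_conj hm1 B, ?_⟩
  rw [show B.1 * bl 1 0 (c - D *ᵥ (a • v₀)) D * B⁻¹.1 * (B.1 * bl 1 0 (a • v₀) hDu.unit⁻¹.1 * B⁻¹.1) =
      B.1 * (bl 1 0 (c - D *ᵥ (a • v₀)) D * bl 1 0 (a • v₀) hDu.unit⁻¹.1) * B⁻¹.1 by simp [mul_assoc],
    bl_mul]
  simp only [mul_one, Matrix.vecMulVec_zero, zero_dotProduct, add_zero, smul_zero, Matrix.zero_vecMul,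
    one_smul, sub_add_cancel, zero_add, hDu.mul_val_inv, ← hxB]
  simp [mul_assoc]

end Cfsg.Agent.ClassSquare
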