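/-
The sweeps: a non-central element of a split group is conjugate to a product of a lower and an upper
unipotent element.
-/
import Mathlib
import Cfsg.Agent.Lib.ClassSquare.Rank

set_option autoImplicit false

namespace Cfsg.Agent.ClassSquare

open Cfsg.Agent.SL2Pres (up low)
open Matrix hiding zpow_neg

universe u v w

namespace Datum

variable {G : Type u} [Group G] {F : Type v} [Field F] {ι : Type w} [Fintype ι] (D : Datum G F ι)

theorem prod_mem (L : List ι) (c : ι → Fˣ) : (L.map fun j => D.φ j (dg (c j))).prod ∈ D.T :=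
  list_prod_mem fun y hy => by
    obtain ⟨j, -, rfl⟩ := List.mem_map.1 hy
    exact D.dg_mem j (c j)

theorem prod_mul : ∀ (L : List ι) (c d : ι → Fˣ),
    (L.map fun j => D.φ j (dg (c j * d j))).prod =
      (L.map fun j => D.φ j (dg (c j))).prod * (L.map fun j => D.φ j (dg (d j))).prod
  | [], _, _ => by simp
  | i :: L, c, d => by
    simp only [List.map_cons, List.prod_cons]
    rw [prod_mul L c d]
    simp only [map_mul, mul_assoc]
    congr 1
    rw [← mul_assoc, D.T_comm _ (D.dg_mem i (d i)) _ (D.prod_mem L c), mul_assoc]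

/-- The torus consists of the products of the coroot values. -/
theorem exists_prod (L : List ι) (hn : L.Nodup) (hL : ∀ i, i ∈ L) {t : G} (ht : t ∈ D.T) :
    ∃ c : ι → Fˣ, t = (L.map fun j => D.φ j (dg (c j))).prod := by
  classical
  rw [D.T_eq] at ht
  induction ht using Subgroup.closure_induction with
  | one => exact ⟨1, by simp⟩
  | mem y hy =>
    obtain ⟨⟨i, a⟩, rfl⟩ := hy
    have key : ∀ M : List ι, M.Nodup → i ∈ M → ∃ c : ι → Fˣ, (∀ k, k ≠ i → c k = 1) ∧
        D.φ i (dg a) = (M.map fun j => D.φ j (dg (c j))).prod := by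
      refine fun M hn hM => ⟨Function.update 1 i a, fun k hk => Function.update_of_ne hk _ _, ?_⟩
      induction M with
      | nil => simp at hM
      | cons j M ih =>
        rw [List.nodup_cons] at hn
        rw [List.map_cons, List.prod_cons]
        rcases List.mem_cons.1 hM with rfl | hM
        · rw [Function.update_self, List.prod_eq_one, mul_one]
          intro x hx
          obtain ⟨k, hk, rfl⟩ := List.mem_map.1 hx
          rw [Function.update_of_ne (fun e : k = i => hn.1 (e ▸ hk))]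
          simp
        · rw [Function.update_of_ne (fun e : j = i => hn.1 (e ▸ hM)), ← ih hn.2 hM]
          simp
    obtain ⟨c, -, hc⟩ := key L hn (hL i)
    exact ⟨c, hc⟩
  | mul x y _ _ hx hy =>
    obtain ⟨c, rfl⟩ := hx
    obtain ⟨d, rfl⟩ := hy
    exact ⟨c * d, (D.prod_mul L c d).symm⟩
  | inv x _ hx =>
    obtain ⟨c, rfl⟩ := hx
    refine ⟨c⁻¹, inv_eq_of_mul_eq_one_right ?_⟩
    rw [← D.prod_mul L c c⁻¹]
    simp

theorem α_prod (L : List ι) (c : ι → Fˣ) (m : ι) :
    D.α m (L.map fun j => D.φ j (dg (c j))).prod = (L.map fun j => c j ^ D.A m j).prod := by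
  induction L with
  | nil => simp [D.α_one]
  | cons j L ih => simp only [List.map_cons, List.prod_cons, D.α_mul m _ (D.dg_mem j _) _ (D.prod_mem L c),
      D.α_dg, ih]

theorem card_zpow_eq_le [Fintype F] [DecidableEq F] (a : ℤ) (ha : a ≠ 0) (K : Fˣ) :
    (Finset.univ.filter fun c : Fˣ => c ^ a = K).card ≤ a.natAbs := by
  classical
  have hn : 0 < a.natAbs := Int.natAbs_pos.2 ha
  obtain ⟨K', hK⟩ : ∃ K' : Fˣ, ∀ c : Fˣ, c ^ a = K → c ^ a.natAbs = K' := by
    rcases Int.natAbs_eq a with h | h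
    · exact ⟨K, fun c hc => by rw [← zpow_natCast, ← h]; exact hc⟩
    · exact ⟨K⁻¹, fun c hc => by
        rw [← hc, ← zpow_neg, show -a = (a.natAbs : ℤ) by omega, zpow_natCast]⟩
  calc _ ≤ (Polynomial.nthRoots a.natAbs ((K' : Fˣ) : F)).toFinset.card := by
        refine Finset.card_le_card_of_injOn (fun c : Fˣ => (c : F)) (fun c hc => ?_)
          fun c _ d _ e => Units.ext e
        simp only [Finset.coe_filter, Finset.mem_univ, true_and, Set.mem_setOf_eq] at hc
        simp [Polynomial.mem_nthRoots hn, ← hK c hc]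
    _ ≤ _ := (Multiset.toFinset_card_le _).trans (Polynomial.card_nthRoots _ _)

/-- The sweep along a list. -/
theorem sweep [Fintype F] (hF : 9 ≤ Fintype.card F) : ∀ (L : List ι) (i : ι) (g t : G),
    D.Ready g t i → (i :: L).Nodup →
    (∀ (P S : List ι) (m : ι), L = P ++ m :: S → D.α m t ≠ 1 ∨ ∃ p ∈ i :: P, D.A m p ≠ 0) →
    ∀ tot : ι → Fˣ, ∃ x : G,
      D.St (x * g * x⁻¹) (t * ((i :: L).map fun j => D.φ j (dg (tot j))).prod) := by
  classical
  intro L
  induction L with
  | nil =>
    intro i g t h _ _ tot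
    simpa using D.step h (tot i)
  | cons m S ih =>
    intro i g t h hn hR tot
    rw [List.nodup_cons] at hn
    have ht : t ∈ D.T := h.1
    -- the constant of the last condition
    set K := D.α i t * ((m :: S).map fun j => tot j ^ D.A i j).prod with hK
    let bad : ι → Finset Fˣ := fun j =>
      if j = i then Finset.univ.filter fun c : Fˣ => c ^ (2 : ℤ) = K⁻¹
      else if D.A j i = 0 then ∅ else Finset.univ.filter fun c : Fˣ => c ^ D.A j i = (D.α j t)⁻¹
    obtain ⟨c, hc⟩ : ∃ c : Fˣ, ∀ j, c ∉ bad j := by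
      have hle : (Finset.univ.biUnion bad).card ≤ 6 := by
        refine (Finset.card_biUnion_le).trans ((Finset.sum_le_sum fun j _ => ?_).trans (D.A_sum i))
        simp only [bad]
        split_ifs with h1 h2
        · rw [h1, D.A_self]; exact card_zpow_eq_le 2 (by norm_num) _
        · simp
        · exact card_zpow_eq_le _ h2 _
      have hcard : (Finset.univ.biUnion bad).card < (Finset.univ : Finset Fˣ).card := by
        rw [Finset.card_univ, Fintype.card_units]
        omega
      obtain ⟨c, -, hc⟩ := Finset.exists_mem_notMem_of_card_lt_card hcard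
      exact ⟨c, fun j hj => hc (Finset.mem_biUnion.2 ⟨j, Finset.mem_univ _, hj⟩)⟩
    obtain ⟨x₁, hx₁⟩ := D.step h c
    have hα : ∀ j, D.α j (t * D.φ i (dg c)) = D.α j t * c ^ D.A j i := fun j => by
      rw [D.α_mul j _ ht _ (D.dg_mem i c), D.α_dg]
    have hnb : ∀ j, j ≠ i → D.A j i ≠ 0 → D.α j (t * D.φ i (dg c)) ≠ 1 := by
      intro j hj hA e
      refine hc j ?_
      simp only [bad, if_neg hj, if_neg hA, Finset.mem_filter, Finset.mem_univ, true_and]
      rw [hα] at e
      exact eq_inv_of_mul_eq_one_right e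
    have hmi : m ≠ i := fun e => hn.1 (e ▸ List.mem_cons_self)
    have hm : D.α m (t * D.φ i (dg c)) ≠ 1 := by
      by_cases hA : D.A m i = 0
      · rcases hR [] S m rfl with h1 | ⟨p, hp, h1⟩
        · rwa [hα, hA, zpow_zero, mul_one]
        · rw [List.mem_singleton] at hp
          exact absurd hA (hp ▸ h1)
      · exact hnb m hmi hA
    obtain ⟨x₂, hx₂⟩ := ih m _ _ (St.ready D hx₁ hm) hn.2 (fun P S' m' e => by
      have hm' : m' ∈ S := by rw [e]; simp
      have hm'i : m' ≠ i := fun e' => hn.1 (e' ▸ List.mem_cons_of_mem _ hm')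
      by_cases hA : D.A m' i = 0
      · rcases hR (m :: P) S' m' (by rw [e]; rfl) with h1 | ⟨p, hp, h1⟩
        · left; rwa [hα, hA, zpow_zero, mul_one]
        · refine Or.inr ⟨p, ?_, h1⟩
          rcases List.mem_cons.1 hp with rfl | hp
          · exact absurd hA h1
          · exact hp
      · exact Or.inl (hnb m' hm'i hA)) tot
    have hlast : D.α i (t * D.φ i (dg c) * ((m :: S).map fun j => D.φ j (dg (tot j))).prod) ≠ 1 := by
      intro e
      refine hc i ?_
      simp only [bad, if_pos, Finset.mem_filter, Finset.mem_univ, true_and]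
      rw [D.α_mul i _ (mul_mem ht (D.dg_mem i c)) _ (D.prod_mem _ _), hα, D.α_prod, D.A_self] at e
      refine eq_inv_of_mul_eq_one_right ?_
      rw [← e, hK]
      ac_rfl
    obtain ⟨x₃, hx₃⟩ := D.step (St.ready D hx₂ hlast) (c⁻¹ * tot i)
    refine ⟨x₃ * x₂ * x₁, ?_⟩
    have e : t * ((i :: m :: S).map fun j => D.φ j (dg (tot j))).prod =
        t * D.φ i (dg c) * ((m :: S).map fun j => D.φ j (dg (tot j))).prod * D.φ i (dg (c⁻¹ * tot i)) := by
      rw [mul_assoc (t * D.φ i (dg c)), D.T_comm _ (D.prod_mem _ _) _ (D.dg_mem i (c⁻¹ * tot i)),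
        mul_assoc, ← mul_assoc (D.φ i (dg c)), ← map_mul, ← map_mul, mul_inv_cancel_left,
        List.map_cons (l := m :: S), List.prod_cons]
    rw [e, show x₃ * x₂ * x₁ * g * (x₃ * x₂ * x₁)⁻¹ = x₃ * (x₂ * (x₁ * g * x₁⁻¹) * x₂⁻¹) * x₃⁻¹ by group]
    exact hx₃

/-- An order in which every later index has an earlier neighbour. -/
theorem exists_order (i₀ : ι) : ∃ L : List ι, (i₀ :: L).Nodup ∧ (∀ i, i ∈ i₀ :: L) ∧
    ∀ (P S : List ι) (m : ι), L = P ++ m :: S → ∃ p ∈ i₀ :: P, D.A m p ≠ 0 := by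
  classical
  suffices h : ∀ k, ∃ L : List ι, (i₀ :: L).Nodup ∧ (L.length = k ∨ ∀ i, i ∈ i₀ :: L) ∧
      ∀ (P S : List ι) (m : ι), L = P ++ m :: S → ∃ p ∈ i₀ :: P, D.A m p ≠ 0 by
    obtain ⟨L, h1, h2, h3⟩ := h (Fintype.card ι)
    refine ⟨L, h1, h2.resolve_left fun e => ?_, h3⟩
    have := h1.length_le_card
    simp [e] at this
  intro k
  induction k with
  | zero => exact ⟨[], by simp, Or.inl rfl, by simp⟩
  | succ k ih =>
    obtain ⟨L, h1, h2, h3⟩ := ih
    by_cases hall : ∀ i, i ∈ i₀ :: L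
    · exact ⟨L, h1, Or.inr hall, h3⟩
    have hlen := h2.resolve_right hall
    obtain ⟨i, hi, j, hj, hA⟩ := D.connected {i | i ∈ i₀ :: L} ⟨i₀, List.mem_cons_self⟩ (fun e => hall fun i => by
      have : i ∈ ({i | i ∈ i₀ :: L} : Set ι) := e ▸ Set.mem_univ i
      exact this)
    refine ⟨L ++ [j], ?_, Or.inl (by simp [hlen]), fun P S m e => ?_⟩
    · rw [← List.cons_append, List.nodup_append]
      refine ⟨h1, List.nodup_singleton j, fun a ha b hb e => ?_⟩
      rw [List.mem_singleton] at hb
      subst hb; subst e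
      exact hj ha
    · rcases List.eq_nil_or_concat S with rfl | ⟨S', b, rfl⟩
      · have := List.append_inj_right' e rfl
        have h' := List.append_inj_left' e rfl
        simp only [List.cons.injEq, and_true] at this
        subst this; subst h'
        exact ⟨i, hi, hA⟩
      · have e' : L ++ [j] = (P ++ m :: S') ++ [b] := by rw [e]; simp
        exact h3 P S' m (List.append_inj_left' e' rfl)

theorem nW_mem (i : ι) : D.φ i (up 1 * low (-1) * up 1) ∈
    Submonoid.closure (Set.range fun i => D.φ i (up 1 * low (-1) * up 1)) :=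
  Submonoid.subset_closure ⟨i, rfl⟩

theorem mem_center_of_α {t : G} (ht : t ∈ D.T) (h : ∀ i, D.α i t = 1) : t ∈ Subgroup.center G := by
  rw [Subgroup.mem_center_iff]
  intro g
  have hle : Subgroup.closure (⋃ i, (D.φ i).range : Set G) ≤ Subgroup.centralizer {t} := by
    rw [Subgroup.closure_le]
    simp only [Set.iUnion_subset_iff]
    rintro i _ ⟨y, rfl⟩
    rw [SetLike.mem_coe, Subgroup.mem_centralizer_singleton_iff]
    have e := D.twist i ht y
    rw [h i, show tw (1 : Fˣ) y = y from Subtype.ext (by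
      rw [tw_val]
      simp
      exact (Matrix.eta_fin_two y.1).symm)] at e
    calc D.φ i y * t = t * (t⁻¹ * D.φ i y * t) := by group
      _ = t * D.φ i y := by rw [e]
  rw [D.gen] at hle
  exact Subgroup.mem_centralizer_singleton_iff.1 (hle (Subgroup.mem_top g))

/-- **Unit Gauss decomposition.** A non-central element is conjugate into `V U`. -/
theorem exists_conj_VU [Finite G] [Fintype F] [Nonempty ι] (hF : 9 ≤ Fintype.card F) {g : G}
    (hg : g ∉ Subgroup.center G) : ∃ x : G, ∃ v ∈ D.V, ∃ u ∈ D.U, x * g * x⁻¹ = v * u := by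
  obtain ⟨x₀, t, hst⟩ := D.exists_conj_big (by omega) g
  -- some conjugate has a non-central component
  obtain ⟨x₁, t₁, i₀, hr⟩ : ∃ x₁ t₁ i₀, D.Ready (x₁ * g * x₁⁻¹) t₁ i₀ := by
    by_contra hno
    push Not at hno
    obtain ⟨ht, v, hv, u, hu, e⟩ := hst
    have hα : ∀ i, D.α i t = 1 := fun i => by
      by_contra h
      exact hno x₀ t i (St.ready D ⟨ht, v, hv, u, hu, e⟩ h)
    have hcen := D.mem_center_of_α ht hα
    have hcomm : ∀ y : G, y * t = t * y := Subgroup.mem_center_iff.1 hcen
    -- all components of all conjugates in the big cell with torus part `t` are trivial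
    have hinner : ∀ x v' u' : G, v' ∈ D.V → u' ∈ D.U → x * g * x⁻¹ = v' * t * u' →
        ∀ i, v' ∈ D.Vc i ∧ u' ∈ D.Uc i := by
      intro x v' u' hv' hu' e' i
      obtain ⟨b, v'', hv'', rfl⟩ := D.split_V i v' hv'
      obtain ⟨a, u'', hu'', rfl⟩ := D.split_U i u' hu'
      by_cases hab : a = 0 ∧ b = 0
      · obtain ⟨rfl, rfl⟩ := hab
        simp only [low_zero, up_zero, map_one, one_mul]
        exact ⟨hv'', hu''⟩
      · exfalso
        refine hno x t i ⟨ht, _, D.conj_Vc i (low b) v'' hv'', u'', hu'', b, a, ?_, ?_⟩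
        · rcases not_and_or.1 hab with h | h
          · exact Or.inl h
          · exact Or.inr (Or.inl h)
        · rw [e']; group
    have hw : ∀ w ∈ Submonoid.closure (Set.range fun i => D.φ i (up 1 * low (-1) * up 1)),
        w * v * w⁻¹ ∈ D.V ∧ w * u * w⁻¹ ∈ D.U := by
      intro w hw
      induction hw using Submonoid.closure_induction_left with
      | one => simpa using ⟨hv, hu⟩
      | mul_left y hy z _ hz =>
        obtain ⟨i, rfl⟩ := hy
        set n := D.φ i (up 1 * low (-1) * up 1)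
        have e1 : z * x₀ * g * (z * x₀)⁻¹ = z * v * z⁻¹ * t * (z * u * z⁻¹) := by
          rw [show z * x₀ * g * (z * x₀)⁻¹ = z * (x₀ * g * x₀⁻¹) * z⁻¹ by group, e]
          calc z * (v * t * u) * z⁻¹ = z * v * z⁻¹ * (z * t * z⁻¹) * (z * u * z⁻¹) := by group
            _ = _ := by rw [hcomm z, mul_inv_cancel_right]
        obtain ⟨h1, h2⟩ := hinner (z * x₀) _ _ hz.1 hz.2 e1 i
        exact ⟨by rw [show n * z * v * (n * z)⁻¹ = n * (z * v * z⁻¹) * n⁻¹ by group]
                  exact D.Vc_le i (D.conj_Vc i _ _ h1),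
          by rw [show n * z * u * (n * z)⁻¹ = n * (z * u * z⁻¹) * n⁻¹ by group]
             exact D.Uc_le i (D.conj_Uc i _ _ h2)⟩
    have hv1 := D.coreV v hv fun w hw' => (hw w hw').1
    have hu1 := D.coreU u hu fun w hw' => (hw w hw').2
    refine hg ?_
    rw [hv1, hu1, one_mul, mul_one] at e
    have : g = t := by
      calc g = x₀⁻¹ * (x₀ * g * x₀⁻¹) * x₀ := by group
        _ = t := by rw [e, mul_assoc, ← hcomm x₀, inv_mul_cancel_left]
    rwa [this]
  obtain ⟨L, hn, hall, hord⟩ := D.exists_order i₀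
  obtain ⟨tot, htot⟩ := D.exists_prod (i₀ :: L) hn hall (inv_mem hr.1)
  obtain ⟨x₂, ht₂, v, hv, u, hu, e⟩ :=
    D.sweep hF L i₀ _ t₁ hr hn (fun P S m e => Or.inr (hord P S m e)) tot
  rw [← htot, mul_inv_cancel, mul_one] at e
  exact ⟨x₂ * x₁, v, hv, u, hu, by rw [← e]; group⟩

end Datum

end Cfsg.Agent.ClassSquare
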