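/-
A class whose square is everything, from a parabolic subgroup with Levi part of type A.
-/
import Mathlib
import Cfsg.Agent.Lib.ClassSquare.Sweep
import Cfsg.Agent.Lib.ClassSquare.Factor

set_option autoImplicit false

namespace Cfsg.Agent.ClassSquare

open Matrix

universe u v w

/-- Conjugation of `SL` by `GL`. -/
def conjSL {F : Type*} [Field F] {k : ℕ} (P : GL (Fin k) F) (x : SpecialLinearGroup (Fin k) F) :
    SpecialLinearGroup (Fin k) F :=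
  ⟨P.1 * x.1 * P⁻¹.1, by rw [Matrix.det_units_conj]; exact x.2⟩

theorem conjSL_mul {F : Type*} [Field F] {k : ℕ} (P Q : GL (Fin k) F) (x : SpecialLinearGroup (Fin k) F) :
    conjSL (P * Q) x = conjSL P (conjSL Q x) :=
  Subtype.ext (by simp [conjSL, mul_assoc])

/-- A regular unipotent of `SL`, from a matrix. -/
def regSL {F : Type*} [Field F] {k : ℕ} (m : Matrix (Fin k) (Fin k) F) (h : IsReg m) :
    SpecialLinearGroup (Fin k) F := ⟨m, h.det_eq_one⟩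

/-- The standard regular unipotent. -/
def jSL (F : Type*) [Field F] (k : ℕ) : SpecialLinearGroup (Fin k) F := regSL (jordan k F) (isReg_jordan k)

theorem val_powSL {F : Type*} [Field F] {k : ℕ} (x : SpecialLinearGroup (Fin k) F) :
    ∀ n : ℕ, (x ^ n).1 = x.1 ^ n
  | 0 => rfl
  | n + 1 => by
    rw [pow_succ, pow_succ, ← val_powSL x n]
    rfl

theorem val_mulSL {F : Type*} [Field F] {k : ℕ} (x y : SpecialLinearGroup (Fin k) F) :
    (x * y).1 = x.1 * y.1 := rfl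

/-- Data of a parabolic subgroup with Levi part of type A. -/
structure LeviData {G : Type u} [Group G] {F : Type v} [Field F] [Fintype F] {ι : Type w} [Fintype ι]
    (D : Datum G F ι) where
  r : ℕ
  kk : Fin r → ℕ
  Ψ : ((b : Fin r) → SpecialLinearGroup (Fin (kk b)) F) →* G
  UP : Subgroup G
  VP : Subgroup G
  h : G
  h_comm : ∀ x, h * Ψ x = Ψ x * h
  h_pow : h ^ (Fintype.card F - 1) = 1
  split_U : ∀ u ∈ D.U, ∃ x : (b : Fin r) → SpecialLinearGroup (Fin (kk b)) F,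
    (∀ b, StrictUpper ((x b).1 - 1)) ∧ ∃ p ∈ UP, u = Ψ x * p
  split_V : ∀ v ∈ D.V, ∃ x : (b : Fin r) → SpecialLinearGroup (Fin (kk b)) F,
    (∀ b, StrictUpper ((x b).1 - 1)ᵀ) ∧ ∃ p ∈ VP, v = p * Ψ x
  conj_UP : ∀ x, ∀ p ∈ UP, Ψ x * p * (Ψ x)⁻¹ ∈ UP
  conj_VP : ∀ x, ∀ p ∈ VP, Ψ x * p * (Ψ x)⁻¹ ∈ VP
  h_UP : ∀ p ∈ UP, h * p * h⁻¹ ∈ UP
  h_VP : ∀ p ∈ VP, h * p * h⁻¹ ∈ VP
  fix_UP : ∀ p ∈ UP, h * p = p * h → p = 1
  fix_VP : ∀ p ∈ VP, h * p = p * h → p = 1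
  surj : ∀ d : Fin r → Fˣ, ∃ t : G, t * h = h * t ∧ ∃ (Dg : (b : Fin r) → GL (Fin (kk b)) F) (c : Fin r → F),
    (∀ b, c b ≠ 0 ∧ (Dg b).1.det = (d b : F) * c b ^ kk b) ∧
      ∀ x, t * Ψ x * t⁻¹ = Ψ fun b => conjSL (Dg b) (x b)
  flip : ∃ m : (b : Fin r) → SpecialLinearGroup (Fin (kk b)) F, (∀ b, IsReg (m b).1) ∧
    IsConj (h⁻¹ * Ψ m) (h * Ψ fun b => jSL F (kk b))

namespace LeviData

variable {G : Type u} [Group G] {F : Type v} [Field F] [Fintype F] {ι : Type w} [Fintype ι]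
  {D : Datum G F ι} (L : LeviData D)

/-- The representative of the class. -/
def f : G := L.h * L.Ψ fun b => jSL F (L.kk b)

/-- All regular unipotents of the Levi part give conjugates, above an element commuting with `h`. -/
theorem exists_conj_jordan' (m : (b : Fin L.r) → SpecialLinearGroup (Fin (L.kk b)) F)
    (hm : ∀ b, IsReg (m b).1) :
    ∃ y, y * L.h = L.h * y ∧ y * (L.Ψ fun b => jSL F (L.kk b)) * y⁻¹ = L.Ψ m := by
  choose P hP using fun b => exists_conj_jordan (hm b)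
  have hdet : ∀ b, (P b).1.det ≠ 0 := fun b =>
    (Matrix.isUnit_iff_isUnit_det _).1 (P b).isUnit |>.ne_zero
  obtain ⟨t, hth, Dg, c, hDc, ht⟩ := L.surj fun b => Units.mk0 _ (hdet b)
  let S : (b : Fin L.r) → SpecialLinearGroup (Fin (L.kk b)) F := fun b =>
    ⟨c b • ((P b).1 * (Dg b)⁻¹.1), by
      have hD : (Dg b).1.det * ((Dg b)⁻¹).1.det = 1 := by
        rw [← Matrix.det_mul, Units.mul_inv, Matrix.det_one]
      rw [Matrix.det_smul, Matrix.det_mul, Fintype.card_fin]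
      rw [(hDc b).2, Units.val_mk0] at hD
      linear_combination hD⟩
  have hS : ∀ b, S b * conjSL (Dg b) (jSL F (L.kk b)) * (S b)⁻¹ = m b := fun b => by
    rw [mul_inv_eq_iff_eq_mul]
    refine Subtype.ext ?_
    show (c b • ((P b).1 * (Dg b)⁻¹.1)) * ((Dg b).1 * jordan (L.kk b) F * (Dg b)⁻¹.1) =
      (m b).1 * (c b • ((P b).1 * (Dg b)⁻¹.1))
    rw [Matrix.smul_mul, Matrix.mul_smul, ← hP b]
    congr 1
    simp [mul_assoc]
  refine ⟨L.Ψ S * t, ?_, ?_⟩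
  · rw [mul_assoc, hth, ← mul_assoc, ← L.h_comm, mul_assoc]
  · calc L.Ψ S * t * (L.Ψ fun b => jSL F (L.kk b)) * (L.Ψ S * t)⁻¹
        = L.Ψ S * (t * (L.Ψ fun b => jSL F (L.kk b)) * t⁻¹) * (L.Ψ S)⁻¹ := by group
      _ = L.Ψ m := by
          rw [ht, ← map_inv, ← map_mul, ← map_mul]
          congr 1
          funext b
          exact hS b

theorem conj_h (m : (b : Fin L.r) → SpecialLinearGroup (Fin (L.kk b)) F) (hm : ∀ b, IsReg (m b).1) :
    IsConj L.f (L.h * L.Ψ m) := by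
  obtain ⟨y, hy, e⟩ := L.exists_conj_jordan' m hm
  refine isConj_iff.2 ⟨y, ?_⟩
  rw [f, ← mul_assoc, hy, mul_assoc L.h, mul_assoc L.h, e]

theorem conj_h_inv (m : (b : Fin L.r) → SpecialLinearGroup (Fin (L.kk b)) F) (hm : ∀ b, IsReg (m b).1) :
    IsConj L.f (L.h⁻¹ * L.Ψ m) := by
  obtain ⟨m₀, hm₀, h0⟩ := L.flip
  obtain ⟨y, hy, e⟩ := L.exists_conj_jordan' m hm
  obtain ⟨z, hz, e'⟩ := L.exists_conj_jordan' m₀ hm₀
  refine h0.symm.trans (isConj_iff.2 ⟨y * z⁻¹, ?_⟩)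
  have hyz : (y * z⁻¹) * L.h⁻¹ = L.h⁻¹ * (y * z⁻¹) :=
    (show Commute (y * z⁻¹) L.h from Commute.mul_left hy (Commute.inv_left hz)).inv_right.eq
  rw [← mul_assoc, hyz, mul_assoc L.h⁻¹, mul_assoc L.h⁻¹]
  congr 1
  rw [← e, ← e']
  group

theorem exists_pow_p {k : ℕ} (p : ℕ) [Fact p.Prime] [CharP F p] (x : SpecialLinearGroup (Fin k) F)
    (hx : IsReg x.1) (e : ℕ) (he : k ≤ p ^ e) : x ^ (p ^ e) = 1 := by
  rcases Nat.eq_zero_or_pos k with rfl | hk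
  · exact Subtype.ext (by ext i; exact i.elim0)
  haveI : Nonempty (Fin k) := ⟨⟨0, hk⟩⟩
  haveI : CharP (Matrix (Fin k) (Fin k) F) p := Matrix.charP p
  refine Subtype.ext ?_
  rw [val_powSL, show (1 : SpecialLinearGroup (Fin k) F).1 = 1 from rfl]
  have h0 : (x.1 - 1) ^ (p ^ e) = 0 := pow_eq_zero_of_le he hx.1
  rw [sub_pow_char_pow_of_commute _ _ (Commute.one_right _), one_pow, sub_eq_zero] at h0
  exact h0

/-- Conjugates by a radical cover a coset. -/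
theorem coset_conj [Finite G] (R : Subgroup G) {a : G} (hR : ∀ p ∈ R, a * p * a⁻¹ ∈ R)
    (hfix : ∀ p ∈ R, a * p = p * a → p = 1) {v : G} (hv : v ∈ R) : IsConj a (v * a) := by
  let θ : R → R := fun p =>
    ⟨p * (a * (p : G)⁻¹ * a⁻¹), mul_mem p.2 (hR _ (inv_mem p.2))⟩
  have hinj : Function.Injective θ := by
    intro p q h
    have h' : (p : G) * (a * (p : G)⁻¹ * a⁻¹) = q * (a * (q : G)⁻¹ * a⁻¹) := congrArg Subtype.val h
    have h1 := hfix _ (mul_mem (inv_mem q.2) p.2) (by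
      calc a * ((q : G)⁻¹ * p) = (q : G)⁻¹ * (q * (a * (q : G)⁻¹ * a⁻¹)) * a * p := by group
        _ = (q : G)⁻¹ * p * a := by rw [← h']; group)
    exact Subtype.ext (inv_mul_eq_one.1 h1).symm
  obtain ⟨p, hp⟩ := Finite.surjective_of_injective hinj ⟨v, hv⟩
  have hp' : (p : G) * (a * (p : G)⁻¹ * a⁻¹) = v := congrArg Subtype.val hp
  exact isConj_iff.2 ⟨p, by rw [← hp']; group⟩

theorem fixed_radical (R : Subgroup G) (hfix : ∀ p ∈ R, L.h * p = p * L.h → p = 1) {g : G}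
    (hg : g = L.h ∨ g = L.h⁻¹) (m : (b : Fin L.r) → SpecialLinearGroup (Fin (L.kk b)) F)
    (hm : ∀ b, IsReg (m b).1) : ∀ p ∈ R, (g * L.Ψ m) * p = p * (g * L.Ψ m) → p = 1 := by
  intro q hq hcomm
  refine hfix q hq ?_
  obtain ⟨p, hp⟩ := CharP.exists F
  obtain ⟨n, hpp, hn⟩ := FiniteField.card F p
  haveI : Fact p.Prime := ⟨hpp⟩
  obtain ⟨e, he⟩ : ∃ e, ∀ b, L.kk b ≤ p ^ e := by
    refine ⟨∑ b, L.kk b, fun b => ?_⟩
    exact (Finset.single_le_sum (fun i _ => Nat.zero_le (L.kk i)) (Finset.mem_univ b)).trans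
      (Nat.lt_pow_self hpp.one_lt).le
  have hm1 : (L.Ψ m) ^ (p ^ e) = 1 := by
    rw [← map_pow, show m ^ (p ^ e) = 1 from funext fun b => exists_pow_p p (m b) (hm b) e (he b), map_one]
  have hgh : Commute g (L.Ψ m) := by
    rcases hg with rfl | rfl
    · exact L.h_comm m
    · exact Commute.inv_left (L.h_comm m)
  have hord : Nat.Coprime (p ^ e) (orderOf L.h) := by
    refine Nat.Coprime.pow_left e ((Nat.Prime.coprime_iff_not_dvd hpp).2 fun hd => ?_)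
    have h1 : p ∣ Fintype.card F - 1 := hd.trans (orderOf_dvd_of_pow_eq_one L.h_pow)
    have h2 : p ∣ Fintype.card F := by rw [hn]; exact dvd_pow_self p n.2.ne'
    have h3 := Nat.dvd_sub h2 h1
    rw [Nat.sub_sub_self Fintype.card_pos] at h3
    exact hpp.one_lt.ne' (Nat.dvd_one.1 h3)
  have hpow : Commute (g ^ (p ^ e)) q := by
    have : (g * L.Ψ m) ^ (p ^ e) = g ^ (p ^ e) := by rw [hgh.mul_pow, hm1, mul_one]
    rw [← this]
    exact (show Commute (g * L.Ψ m) q from hcomm).pow_left _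
  have hh : Commute (L.h ^ (p ^ e)) q := by
    rcases hg with rfl | rfl
    · exact hpow
    · rw [inv_pow] at hpow
      simpa using hpow.inv_left
  obtain ⟨N, hN⟩ := exists_pow_eq_self_of_coprime hord
  have := hh.pow_left N
  rw [hN] at this
  exact this.eq

/-- **The square of the class contains every non-central element.** -/
theorem exists_prod [Finite G] [Nonempty ι] (hF : 9 ≤ Fintype.card F) {g : G}
    (hg : g ∉ Subgroup.center G ∨ g = 1) :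
    ∃ x y : G, g = (x * L.f * x⁻¹) * (y * L.f * y⁻¹) := by
  suffices h : ∃ z a b : G, IsConj L.f a ∧ IsConj L.f b ∧ z * g * z⁻¹ = a * b by
    obtain ⟨z, a, b, ha, hb, e⟩ := h
    obtain ⟨x, hx⟩ := isConj_iff.1 ha
    obtain ⟨y, hy⟩ := isConj_iff.1 hb
    refine ⟨z⁻¹ * x, z⁻¹ * y, ?_⟩
    calc g = z⁻¹ * (z * g * z⁻¹) * z := by group
      _ = _ := by rw [e, ← hx, ← hy]; group
  rcases hg with hg | rfl
  swap
  · have hJ : ∀ b, IsReg ((jSL F (L.kk b))⁻¹).1 := fun b => by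
      let P : GL (Fin (L.kk b)) F := SpecialLinearGroup.toGL (jSL F (L.kk b))
      have := (isReg_jordan (F := F) (L.kk b)).inv _ P rfl
      exact this
    refine ⟨1, L.f, L.h⁻¹ * L.Ψ (fun b => (jSL F (L.kk b))⁻¹), IsConj.refl _, L.conj_h_inv _ hJ, ?_⟩
    have hinv : (L.Ψ fun b => (jSL F (L.kk b))⁻¹) = (L.Ψ fun b => jSL F (L.kk b))⁻¹ := by
      rw [← map_inv]; rfl
    rw [f, hinv, ((show Commute L.h _ from L.h_comm _).inv_left.inv_right).eq]
    group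
  obtain ⟨x₀, v, hv, u, hu, e⟩ := D.exists_conj_VU hF hg
  obtain ⟨y, hy, pV, hpV, rfl⟩ := L.split_V v hv
  obtain ⟨x, hx, pU, hpU, rfl⟩ := L.split_U u hu
  have key : ∀ b, ∃ z m₂ m₁ : SpecialLinearGroup (Fin (L.kk b)) F,
      IsReg m₂.1 ∧ IsReg m₁.1 ∧ z * (y b * x b) * z⁻¹ = m₂ * m₁ := by
    intro b
    obtain ⟨m₂, m₁, h2, h1, hprod⟩ := exists_two_reg hF ((y b * x b).1) (y b * x b).2 (by
      by_cases hone : (y b * x b).1 = 1
      · exact Or.inl hone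
      refine Or.inr fun a ha => hone ?_
      rcases Nat.eq_zero_or_pos (L.kk b) with h0 | h0
      · ext i; exact absurd i.2 (by omega)
      have hlow : ∀ j : Fin (L.kk b), (y b).1 ⟨0, h0⟩ j = (1 : Matrix (Fin (L.kk b)) (Fin (L.kk b)) F) ⟨0, h0⟩ j :=
        fun j => sub_eq_zero.1 (hy b j ⟨0, h0⟩ (Nat.zero_le _))
      have e00 : (y b * x b).1 ⟨0, h0⟩ ⟨0, h0⟩ = 1 := by
        rw [val_mulSL, Matrix.mul_apply, Finset.sum_eq_single (⟨0, h0⟩ : Fin (L.kk b))]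
        · rw [hlow, sub_eq_zero.1 (hx b ⟨0, h0⟩ ⟨0, h0⟩ le_rfl), Matrix.one_apply_eq, one_mul]
        · intro j _ hj
          rw [hlow, Matrix.one_apply_ne (Ne.symm hj), zero_mul]
        · exact fun hn => absurd (Finset.mem_univ _) hn
      rw [ha] at e00 ⊢
      simp at e00
      rw [e00, one_smul])
    exact ⟨1, regSL m₂ h2, regSL m₁ h1, h2, h1, by rw [one_mul, inv_one, mul_one]; exact Subtype.ext hprod⟩
  choose z m₂ m₁ h2 h1 hz using key
  refine ⟨L.Ψ z * x₀, (L.Ψ z * pV * (L.Ψ z)⁻¹) * (L.h⁻¹ * L.Ψ m₂),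
    (L.h * L.Ψ m₁) * (L.Ψ z * pU * (L.Ψ z)⁻¹), ?_, ?_, ?_⟩
  · refine (L.conj_h_inv m₂ h2).trans (coset_conj L.VP (fun p hp => ?_)
      (L.fixed_radical L.VP L.fix_VP (Or.inr rfl) m₂ h2) (L.conj_VP z pV hpV))
    rw [show L.h⁻¹ * L.Ψ m₂ * p * (L.h⁻¹ * L.Ψ m₂)⁻¹ = L.h⁻¹ * (L.Ψ m₂ * p * (L.Ψ m₂)⁻¹) * L.h by group]
    have hmem := L.conj_VP m₂ p hp
    set q := L.Ψ m₂ * p * (L.Ψ m₂)⁻¹
    -- `h⁻¹` normalises as `h` has finite order
    have hk : ∀ (k : ℕ), L.h ^ k * q * (L.h ^ k)⁻¹ ∈ L.VP := by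
      intro k
      induction k with
      | zero => simpa using hmem
      | succ k ih =>
        rw [pow_succ', show L.h * L.h ^ k * q * (L.h * L.h ^ k)⁻¹ = L.h * (L.h ^ k * q * (L.h ^ k)⁻¹) * L.h⁻¹ by
          group]
        exact L.h_VP _ ih
    have := hk (orderOf L.h - 1)
    rwa [show L.h ^ (orderOf L.h - 1) = L.h⁻¹ from eq_inv_of_mul_eq_one_left (by
      rw [← pow_succ, Nat.sub_add_cancel (orderOf_pos L.h), pow_orderOf_eq_one]), inv_inv] at this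
  · set a := L.h * L.Ψ m₁ with ha
    set q := L.Ψ z * pU * (L.Ψ z)⁻¹
    refine (L.conj_h m₁ h1).trans ?_
    have hR : ∀ p ∈ L.UP, a * p * a⁻¹ ∈ L.UP := fun p hp => by
      rw [ha, show L.h * L.Ψ m₁ * p * (L.h * L.Ψ m₁)⁻¹ = L.h * (L.Ψ m₁ * p * (L.Ψ m₁)⁻¹) * L.h⁻¹ by group]
      exact L.h_UP _ (L.conj_UP m₁ p hp)
    rw [show a * q = (a * q * a⁻¹) * a by group]
    exact coset_conj L.UP hR (L.fixed_radical L.UP L.fix_UP (Or.inl rfl) m₁ h1) (hR q (L.conj_UP z pU hpU))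
  · calc L.Ψ z * x₀ * g * (L.Ψ z * x₀)⁻¹ = L.Ψ z * (x₀ * g * x₀⁻¹) * (L.Ψ z)⁻¹ := by group
      _ = (L.Ψ z * pV * (L.Ψ z)⁻¹) * (L.Ψ z * (L.Ψ y * L.Ψ x) * (L.Ψ z)⁻¹) * (L.Ψ z * pU * (L.Ψ z)⁻¹) := by
          rw [e]; group
      _ = (L.Ψ z * pV * (L.Ψ z)⁻¹) * (L.Ψ m₂ * L.Ψ m₁) * (L.Ψ z * pU * (L.Ψ z)⁻¹) := by
          congr 2
          rw [← map_inv, ← map_mul, ← map_mul, ← map_mul, ← map_mul]
          exact congrArg L.Ψ (funext fun b => hz b)
      _ = _ := by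
          rw [show ∀ a b c d : G, a * (L.h⁻¹ * b) * (L.h * c * d) = a * (L.h⁻¹ * (b * L.h)) * c * d from
            fun a b c d => by group, ← L.h_comm]
          group

include L in
/-- The class square property modulo the centre. -/
theorem class_square [Finite G] [Nonempty ι] (hF : 9 ≤ Fintype.card F) {H : Type*} [Group H]
    (e : H ≃* G ⧸ Subgroup.center G) :
    ∃ c : H, ∀ g : H, ∃ x y : H, g = (x * c * x⁻¹) * (y * c * y⁻¹) := by
  refine ⟨e.symm (QuotientGroup.mk L.f), fun g => ?_⟩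
  obtain ⟨g', hg'⟩ := QuotientGroup.mk_surjective (e g)
  obtain ⟨g'', hg'', hor⟩ : ∃ g'' : G, QuotientGroup.mk g'' = e g ∧ (g'' ∉ Subgroup.center G ∨ g'' = 1) := by
    by_cases h : g' ∈ Subgroup.center G
    · exact ⟨1, by rw [← hg', (QuotientGroup.eq_one_iff g').2 h]; rfl, Or.inr rfl⟩
    · exact ⟨g', hg', Or.inl h⟩
  obtain ⟨x, y, hxy⟩ := L.exists_prod hF hor
  refine ⟨e.symm x, e.symm y, e.injective ?_⟩
  simp only [map_mul, map_inv, MulEquiv.apply_symm_apply, ← hg'', hxy, QuotientGroup.mk_mul, QuotientGroup.mk_inv]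

end LeviData

end Cfsg.Agent.ClassSquare
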