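/-
The special linear groups inside a tabulated Chevalley group attached to the chains of a certificate.
-/
import Cfsg.Agent.Lib.ClassSquare.ChevCfg
import Cfsg.Agent.Lib.ClassSquare.Levi

set_option autoImplicit false

namespace Cfsg.Agent.ClassSquare.Chev

open Cfsg.Lie Cfsg.Agent.Chev Cfsg.Agent.Chev.Tab
open Cfsg.Agent.SL2Pres (up low)
open Matrix (SpecialLinearGroup)
open scoped commutatorElement

universe v

variable {T : Tab} {K : List (List ℕ)} {W : List (ℕ × ℕ × ℕ)} {F : Type v} [Field F]

theorem comP_commute (g : T.GoodA) {r s : ℕ} (hr : r < T.n) (hs : s < T.n) (h : comP T r s = true) (t u : F) :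
    Commute (xg g.toGood r t) (xg g.toGood s u) := by
  simp only [comP, Bool.or_eq_true, nat_beq, Bool.and_eq_true, Bool.not_eq_true', nat_beq_false,
    List.isEmpty_iff] at h
  by_cases hrs : r = s
  · subst hrs
    rw [Commute, SemiconjBy, Tab.xg_add, Tab.xg_add, add_comm]
  rcases h with h | ⟨h2, h3⟩
  · exact absurd h hrs
  · have := Tab.xg_comm g hr hs (Ne.symm hrs) h2 t u
    simp only [Tab.cVal, h3, List.map_nil, List.prod_nil, mul_one] at this
    exact this.symm

theorem checkSL_spec {c : List ℕ} (h : checkSL T c = true) {i j : ℕ} (hi : i < c.length + 1)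
    (hj : j < c.length + 1) (hij : i ≠ j) :
    (rs T c i j).1 < T.n ∧
      (∀ k < c.length + 1, ∀ l < c.length + 1, k ≠ l → i ≠ l → j ≠ k →
        comP T (rs T c i j).1 (rs T c k l).1 = true) ∧
      ∀ l < c.length + 1, j ≠ l → i ≠ l →
        ((rs T c i j).1 ≠ (rs T c j l).1 ∧ (rs T c i j).1 ≠ T.neg (rs T c j l).1) ∧
          one1 (T.cTerms (rs T c j l).1 (rs T c i j).1) (rs T c i l).1
            ((rs T c i j).2 * (rs T c j l).2) (rs T c i l).2 = true := by
  simp only [checkSL, allBelow_eq_true, Bool.or_eq_true, nat_beq, Bool.and_eq_true, nat_blt,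
    Bool.not_eq_true', nat_beq_false] at h
  obtain ⟨⟨h1, h2⟩, h3⟩ := (h i hi j hj).resolve_left hij
  refine ⟨h1, fun k hk l hl e1 e2 e3 => ?_, fun l hl e1 e2 => ?_⟩
  · rcases h2 k hk l hl with ((e | e) | e) | e
    exacts [absurd e e1, absurd e e2, absurd e e3, e]
  · rcases h3 l hl with (e | e) | e
    exacts [absurd e e1, absurd e e2, e]

/-- The Steinberg data of a chain. -/
theorem exists_slData (g : T.GoodA) {c : List ℕ} (h : checkSL T c = true) :
    ∃ D : SLPres.Data (c.length + 1) F (Grp T F), ∀ i j : Fin (c.length + 1),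
      D.y i j = fun t => xG g.toGood (rs T c i j).1 (((rs T c i j).2 : F) * t) := by
  have ne : ∀ {i j : Fin (c.length + 1)}, i ≠ j → i.val ≠ j.val := fun h e => h (Fin.ext e)
  refine ⟨{ y := fun i j t => xG g.toGood (rs T c i j).1 (((rs T c i j).2 : F) * t)
            add := ?_, comm := ?_, brac := ?_ }, fun i j => rfl⟩
  · intro i j hij t u
    apply Subtype.ext
    show xg g.toGood _ _ * xg g.toGood _ _ = xg g.toGood _ _
    rw [Tab.xg_add, mul_add]
  · intro i j k l h1 h2 h3 h4 t u
    have hi := checkSL_spec h i.2 j.2 (ne h1)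
    have hk := checkSL_spec h k.2 l.2 (ne h2)
    exact Subtype.ext (comP_commute g hi.1 hk.1 (hi.2.1 k k.2 l l.2 (ne h2) (ne h3) (ne h4)) _ _)
  · intro i j l hij hjl hil t u
    obtain ⟨hlt, hcom, hbr⟩ := checkSL_spec h i.2 j.2 (ne hij)
    obtain ⟨hlt2, -, -⟩ := checkSL_spec h j.2 l.2 (ne hjl)
    obtain ⟨hlt3, hcom3, -⟩ := checkSL_spec h i.2 l.2 (ne hil)
    obtain ⟨⟨n1, n2⟩, hone⟩ := hbr l l.2 (ne hjl) (ne hil)
    apply Subtype.ext
    simp only [commutatorElement_def, Subgroup.coe_mul, Subgroup.coe_inv, xG]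
    have cl : ∀ t' u', Commute (xg g.toGood (rs T c i l).1 t' : GL T.D.Idx F)
        (xg g.toGood (rs T c i j).1 u') := fun t' u' =>
      comP_commute g hlt3 hlt (hcom3 i i.2 j j.2 (ne hij) (ne hij) (ne hil).symm) t' u'
    have cr : ∀ t' u', Commute (xg g.toGood (rs T c i l).1 t' : GL T.D.Idx F)
        (xg g.toGood (rs T c j l).1 u') := fun t' u' =>
      comP_commute g hlt3 hlt2 (hcom3 j j.2 l l.2 (ne hjl) (ne hil) (ne hjl).symm) t' u'
    have e := Tab.xg_comm g hlt2 hlt n1 n2 (((rs T c j l).2 : F) * u) (((rs T c i j).2 : F) * t)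
    revert hone
    rcases hL : T.cTerms (rs T c j l).1 (rs T c i j).1 with _ | ⟨⟨k, C, p, q⟩, _ | ⟨x, L⟩⟩
    · simp [one1]
    · intro hone
      simp only [one1, Bool.and_eq_true, nat_beq, beq_iff_eq] at hone
      obtain ⟨⟨⟨rfl, rfl⟩, rfl⟩, hσ⟩ := hone
      simp only [Tab.cVal, hL, List.map_cons, List.map_nil, List.prod_cons, List.prod_nil, mul_one,
        pow_one] at e
      set A : GL T.D.Idx F := xg g.toGood (rs T c i j).1 (((rs T c i j).2 : F) * t)
      set B : GL T.D.Idx F := xg g.toGood (rs T c j l).1 (((rs T c j l).2 : F) * u)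
      show A * B * A⁻¹ * B⁻¹ = _
      rw [e, show ((rs T c i l).2 : F) = -(C : F) * (((rs T c i j).2 : F) *
        ((rs T c j l).2 : F)) by rw [← hσ]; push_cast; ring]
      set Z : GL T.D.Idx F := xg g.toGood (rs T c i l).1
        ((C : F) * -(((rs T c j l).2 : F) * u) * (((rs T c i j).2 : F) * t)) with hZ
      rw [show xg g.toGood (rs T c i l).1 (-(C : F) * (((rs T c i j).2 : F) *
        ((rs T c j l).2 : F)) * (t * u)) = Z by rw [hZ]; congr 1; ring]
      have hA : Commute Z A := cl _ _
      have hB : Commute Z B := cr _ _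
      rw [mul_assoc (B * A) Z A⁻¹, hA.inv_right.eq, ← mul_assoc (B * A), mul_inv_cancel_right,
        ← hB.eq, mul_inv_cancel_right]
    · simp [one1]

/-- transvections generate -/
theorem sl_closure (n : ℕ) :
    Subgroup.closure {g : SpecialLinearGroup (Fin n) F | ∃ (i j : Fin n) (h : i ≠ j) (c : F),
      g = SpecialLinearGroup.transvection h c} = ⊤ := by
  rcases Nat.lt_or_ge n 2 with hn | hn
  · haveI : Subsingleton (Fin n) := Fin.subsingleton_iff_le_one.2 (by omega)
    rw [eq_top_iff]
    intro x _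
    have : x = 1 := by
      apply Subtype.ext
      ext a b
      rcases Nat.eq_zero_or_pos n with rfl | h0
      · exact a.elim0
      · haveI : Unique (Fin n) := uniqueOfSubsingleton ⟨0, h0⟩
        have hx := x.2
        rw [Matrix.det_unique] at hx
        rw [Subsingleton.elim a default, Subsingleton.elim b default, hx]
        exact (Matrix.one_apply_eq _).symm
    rw [this]
    exact one_mem _
  · haveI : Nontrivial (Fin n) := Fin.nontrivial_iff_two_le.2 hn
    rw [eq_top_iff, ← Cfsg.Agent.ClassicalSL.closure_elemTransvections, Subgroup.closure_le]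
    rintro _ ⟨i, j, h, c, rfl⟩
    exact Subgroup.subset_closure ⟨i, j, h, c, rfl⟩

variable [Fintype F] (g : T.GoodW K W)

/-- The homomorphism of a chain. -/
theorem exists_psi (c : List ℕ) (hc : ∀ p ∈ c, p < T.l) (h : checkSL T c = true) :
    ∃ ψ : SpecialLinearGroup (Fin (c.length + 1)) F →* Grp T F,
      ∀ (i j : Fin (c.length + 1)) (hij : i ≠ j) (t : F),
        ψ (SpecialLinearGroup.transvection hij t) = xG g.toGood (rs T c i j).1 (((rs T c i j).2 : F) * t) := by
  rcases c with _ | ⟨a, _ | ⟨b, c⟩⟩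
  · exact ⟨1, fun i j hij => absurd (Fin.ext (by have := i.2; have := j.2; simp_all)) hij⟩
  · refine ⟨phi g ⟨a, hc a (by simp)⟩, fun i j hij t => ?_⟩
    fin_cases i <;> fin_cases j <;> first | exact absurd rfl hij | skip
    · rw [show SpecialLinearGroup.transvection hij t = up t by
        apply Subtype.ext
        rw [SpecialLinearGroup.transvection_coe]
        ext k l
        fin_cases k <;> fin_cases l <;> simp [SL2Pres.up_val]]
      rw [phi_up]
      show xG g.toGood (T.smp a) t = xG g.toGood (T.smp a) (((1 : ℤ) : F) * t)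
      rw [Int.cast_one, one_mul]
    · rw [show SpecialLinearGroup.transvection hij t = low t by
        apply Subtype.ext
        rw [SpecialLinearGroup.transvection_coe]
        ext k l
        fin_cases k <;> fin_cases l <;> simp [SL2Pres.low_val]]
      rw [phi_low]
      show xG g.toGood (T.neg (T.smp a)) t = xG g.toGood (T.neg (T.smp a)) (((1 : ℤ) : F) * t)
      rw [Int.cast_one, one_mul]
  · obtain ⟨D, hD⟩ := exists_slData (F := F) g.toGoodA h
    obtain ⟨f, hf⟩ := SLPres.exists_hom_of_data D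
    obtain ⟨π, hπ⟩ := SLPres.exists_toSL (c.length + 1 + 2) F
    let e := MulEquiv.ofBijective π (SLPres.toSL_bijective (c.length + 1) (by omega) π hπ)
    refine ⟨f.comp e.symm.toMonoidHom, fun i j hij t => ?_⟩
    have he : e.symm (SpecialLinearGroup.transvection hij t) = PresentedGroup.of (⟨(i, j), hij⟩, t) :=
      e.symm_apply_eq.2 (hπ ⟨(i, j), hij⟩ t).symm
    show f (e.symm _) = _
    rw [he, hf]
    exact congrFun (hD i j) t

end Cfsg.Agent.ClassSquare.Chev
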