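/-
A parabolic subgroup with Levi part of type A in a tabulated Chevalley group, from a certificate.
-/
import Cfsg.Agent.Lib.ClassSquare.ChevHom
import Mathlib.GroupTheory.SpecificGroups.Cyclic

set_option autoImplicit false
set_option linter.style.haveILetI false

namespace Cfsg.Agent.ClassSquare.Chev

open Cfsg.Lie Cfsg.Agent.Chev Cfsg.Agent.Chev.Tab
open Cfsg.Agent.SL2Pres (up low)
open Matrix (SpecialLinearGroup)
open scoped Matrix

universe v

/-- block size -/
def Cfg.kk (C : Cfg) (b : Fin C.chains.length) : ℕ := (C.chains.getD b.val []).length + 1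

/-- the product of the special linear groups -/
abbrev PiSL (C : Cfg) (F : Type v) [Field F] : Type v :=
  (b : Fin C.chains.length) → SpecialLinearGroup (Fin (C.kk b)) F

variable {T : Tab} {K : List (List ℕ)} {W : List (ℕ × ℕ × ℕ)} {F : Type v} [Field F] {C : Cfg}

section spec

theorem allRoots_spec {p : ℕ → ℕ → ℕ → Bool} (h : allRoots C p = true) (b : Fin C.chains.length) {i j : ℕ}
    (hi : i < C.kk b) (hj : j < C.kk b) (hij : i ≠ j) : p b i j = true := by
  have h1 := allBelow_eq_true.1 (allBelow_eq_true.1 (allBelow_eq_true.1 h b b.2) i hi) j hj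
  rw [nat_beq_false.2 hij, Bool.false_or] at h1
  exact h1

theorem anyRoots_spec {p : ℕ → ℕ → ℕ → Bool} (h : anyRoots C p = true) :
    ∃ b : Fin C.chains.length, ∃ i j : Fin (C.kk b), i ≠ j ∧ p b i j = true := by
  obtain ⟨b, hb, h⟩ := anyBelow_eq_true.1 h
  obtain ⟨i, hi, h⟩ := anyBelow_eq_true.1 h
  obtain ⟨j, hj, h⟩ := anyBelow_eq_true.1 h
  simp only [Bool.and_eq_true, Bool.not_eq_true', nat_beq_false] at h
  exact ⟨⟨b, hb⟩, ⟨i, hi⟩, ⟨j, hj⟩, fun e => h.1 (congrArg Fin.val e), h.2⟩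

theorem out_iff {s : ℕ} : C.out T s = true ↔ ∃ k < T.l, k ∉ C.J ∧ T.c s k ≠ 0 := by
  simp [Cfg.out, anyBelow_eq_true, Cfg.J]

theorem out_false_inJ {s : ℕ} (hs : s < T.n) (h : C.out T s = false) : s ∈ T.inJ C.J := by
  refine ⟨hs, fun k hk hkJ => ?_⟩
  by_contra hne
  rw [out_iff.2 ⟨k, hk, hkJ, hne⟩] at h
  cases h

theorem outP_eq : bset T (C.outP T) = T.outJ C.J := by
  ext s
  simp only [bset, Cfg.outP, Bool.and_eq_true, nat_ble, out_iff, Tab.outJ, Set.mem_setOf_eq]
  tauto

variable (ok : C.Ok T)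
include ok

/-- the facts about a position -/
theorem rt_spec (b : Fin C.chains.length) {i j : ℕ} (hi : i < C.kk b) (hj : j < C.kk b) (hij : i ≠ j) :
    (C.rt T b i j).1 < T.n ∧ C.out T (C.rt T b i j).1 = false ∧
    ((C.rt T b i j).2 = 1 ∨ (C.rt T b i j).2 = -1) ∧
    (i < j → T.N ≤ (C.rt T b i j).1) ∧ (j < i → (C.rt T b i j).1 < T.N) ∧
    normOK T (C.rt T b i j).1 (C.outP T) = true ∧ normOK T (C.rt T b i j).1 (C.outN T) = true ∧
    ∀ (b' : Fin C.chains.length) (i' j' : ℕ), i' < C.kk b' → j' < C.kk b' → i' ≠ j' → b ≠ b' →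
      comP T (C.rt T b i j).1 (C.rt T b' i' j').1 = true := by
  have h := ok.levi
  simp only [checkLevi, Bool.and_eq_true] at h
  have h1 := allRoots_spec h.1.2 b hi hj hij
  simp only [Bool.and_eq_true, Bool.or_eq_true, beq_iff_eq, Bool.not_eq_true', nat_blt] at h1
  obtain ⟨⟨⟨⟨⟨⟨a1, a2⟩, a3⟩, a4⟩, a5⟩, a6⟩, a7⟩ := h1
  refine ⟨a1, a2, a3, fun e => ?_, fun e => ?_, a5, a6, fun b' i' j' hi' hj' hij' hbb => ?_⟩
  · rwa [nat_blt.2 e, cond_true, nat_ble] at a4
  · rwa [nat_blt_false.2 e.le, cond_false, nat_blt] at a4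
  · have := allRoots_spec a7 b' hi' hj' hij'
    rw [nat_beq_false.2 (fun e => hbb (Fin.ext e)), Bool.false_or] at this
    exact this

theorem chain_spec (b : Fin C.chains.length) :
    checkSL T (C.chains.getD b.val []) = true ∧ ∀ p ∈ C.chains.getD b.val [], p < T.l := by
  have h := ok.levi
  simp only [checkLevi, Bool.and_eq_true] at h
  have h1 := allBelow_eq_true.1 h.1.1 b b.2
  simp only [Bool.and_eq_true, List.all_eq_true, nat_blt] at h1
  exact h1

theorem cover {s : ℕ} (hs : s < T.n) (h : C.out T s = false) :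
    ∃ b : Fin C.chains.length, ∃ i j : Fin (C.kk b), i ≠ j ∧ (C.rt T b i j).1 = s ∧
      (T.N ≤ s → (i : ℕ) < j) ∧ (s < T.N → (j : ℕ) < i) := by
  have hl := ok.levi
  simp only [checkLevi, Bool.and_eq_true] at hl
  have h1 := allBelow_eq_true.1 hl.2 s hs
  rw [h, Bool.false_or] at h1
  obtain ⟨b, i, j, hij, h2⟩ := anyRoots_spec h1
  simp only [Bool.and_eq_true, nat_beq] at h2
  refine ⟨b, i, j, hij, h2.1, fun e => ?_, fun e => ?_⟩
  · have := h2.2
    rwa [nat_ble.2 e, cond_true, nat_blt] at this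
  · have := h2.2
    rwa [show Nat.ble T.N s = false by rw [← Bool.not_eq_true, nat_ble]; omega, cond_false, nat_blt] at this

theorem rt_inj (b b' : Fin C.chains.length) {i j i' j' : ℕ} (hi : i < C.kk b) (hj : j < C.kk b) (hij : i ≠ j)
    (hi' : i' < C.kk b') (hj' : j' < C.kk b') (hij' : i' ≠ j')
    (e : (C.rt T b i j).1 = (C.rt T b' i' j').1) : b = b' ∧ i = i' ∧ j = j' := by
  have h := allRoots_spec (allRoots_spec ok.inj b hi hj hij) b' hi' hj' hij'
  simp only [e, nat_beq.2 rfl, Bool.not_true, Bool.false_or, Bool.and_eq_true, nat_beq] at h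
  exact ⟨Fin.ext h.1.1, h.1.2, h.2⟩

end spec

section unitri

variable {k : ℕ}

theorem strictUpper_mul {x y : Matrix (Fin k) (Fin k) F} (hx : StrictUpper (x - 1)) (hy : StrictUpper (y - 1)) :
    StrictUpper (x * y - 1) := by
  intro i j hij
  have e : x * y - 1 = (x - 1) * (y - 1) + (x - 1) + (y - 1) := by noncomm_ring
  rw [e, Matrix.add_apply, Matrix.add_apply, hx i j hij, hy i j hij, add_zero, add_zero, Matrix.mul_apply]
  refine Finset.sum_eq_zero fun l _ => ?_
  by_cases hl : (l : ℕ) ≤ i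
  · rw [hx i l hl, zero_mul]
  · rw [hy l j (by omega), mul_zero]

theorem strictLower_mul {x y : Matrix (Fin k) (Fin k) F} (hx : StrictUpper (x - 1)ᵀ) (hy : StrictUpper (y - 1)ᵀ) :
    StrictUpper (x * y - 1)ᵀ := by
  have h := strictUpper_mul (x := y.transpose) (y := x.transpose)
    (by rwa [Matrix.transpose_sub, Matrix.transpose_one] at hy)
    (by rwa [Matrix.transpose_sub, Matrix.transpose_one] at hx)
  rwa [← Matrix.transpose_mul, ← Matrix.transpose_one, ← Matrix.transpose_sub] at h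

theorem strictUpper_transvection {i j : Fin k} (h : i ≠ j) (hij : (i : ℕ) < j) (t : F) :
    StrictUpper ((SpecialLinearGroup.transvection h t).1 - 1) := by
  intro a b hab
  have e : (SpecialLinearGroup.transvection h t).1 - 1 = Matrix.single i j t := by
    rw [show (SpecialLinearGroup.transvection h t).1 = 1 + Matrix.single i j t from rfl, add_sub_cancel_left]
  rw [e, Matrix.single_apply, if_neg]
  rintro ⟨rfl, rfl⟩
  omega

theorem strictLower_transvection {i j : Fin k} (h : i ≠ j) (hij : (j : ℕ) < i) (t : F) :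
    StrictUpper ((SpecialLinearGroup.transvection h t).1 - 1)ᵀ := by
  intro a b hab
  have e : (SpecialLinearGroup.transvection h t).1 - 1 = Matrix.single i j t := by
    rw [show (SpecialLinearGroup.transvection h t).1 = 1 + Matrix.single i j t from rfl, add_sub_cancel_left]
  rw [Matrix.transpose_apply, e, Matrix.single_apply, if_neg]
  rintro ⟨rfl, rfl⟩
  omega

theorem strictUpper_one : StrictUpper ((1 : SpecialLinearGroup (Fin k) F).1 - 1) := fun _ _ _ => by
  rw [show (1 : SpecialLinearGroup (Fin k) F).1 = 1 from rfl, sub_self, Matrix.zero_apply]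

theorem strictLower_one : StrictUpper ((1 : SpecialLinearGroup (Fin k) F).1 - 1)ᵀ := fun _ _ _ => by
  rw [show (1 : SpecialLinearGroup (Fin k) F).1 = 1 from rfl, sub_self, Matrix.transpose_zero,
    Matrix.zero_apply]

/-- A diagonal element of `GL`. -/
def diagGL (a : Fin k → Fˣ) : GL (Fin k) F :=
  ⟨Matrix.diagonal fun i => (a i : F), Matrix.diagonal fun i => (((a i)⁻¹ : Fˣ) : F),
    by simp [Matrix.diagonal_mul_diagonal],
    by simp [Matrix.diagonal_mul_diagonal]⟩

theorem conjSL_diag_transvection (a : Fin k → Fˣ) {i j : Fin k} (h : i ≠ j) (t : F) :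
    conjSL (diagGL a) (SpecialLinearGroup.transvection h t) =
      SpecialLinearGroup.transvection h ((a i : F) * t * ((a j : F))⁻¹) := by
  apply Subtype.ext
  show Matrix.diagonal (fun i => (a i : F)) * (1 + Matrix.single i j t) *
    Matrix.diagonal (fun i => (((a i)⁻¹ : Fˣ) : F)) = 1 + Matrix.single i j ((a i : F) * t * ((a j : F))⁻¹)
  ext p q
  rw [Matrix.mul_diagonal, Matrix.diagonal_mul]
  simp only [Matrix.add_apply, Matrix.one_apply, Matrix.single_apply, Units.val_inv_eq_inv_val]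
  by_cases hpq : p = q
  · subst hpq
    have hn : ¬(i = p ∧ j = p) := fun e => h (e.1.trans e.2.symm)
    simp [hn]
  · by_cases hc : i = p ∧ j = q
    · obtain ⟨rfl, rfl⟩ := hc
      simp [h]
    · simp [hpq, hc]

end unitri

variable [Fintype F] (g : T.GoodW K W) (ok : C.Ok T)

/-- The homomorphism of a chain. -/
noncomputable def psiB (b : Fin C.chains.length) : SpecialLinearGroup (Fin (C.kk b)) F →* Grp T F :=
  Classical.choose (exists_psi g _ (chain_spec ok b).2 (chain_spec ok b).1)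

theorem psiB_spec (b : Fin C.chains.length) {i j : Fin (C.kk b)} (h : i ≠ j) (t : F) :
    psiB g ok b (SpecialLinearGroup.transvection h t) =
      xG g.toGood (C.rt T b i j).1 (((C.rt T b i j).2 : F) * t) :=
  Classical.choose_spec (exists_psi g _ (chain_spec ok b).2 (chain_spec ok b).1) i j h t

theorem psiB_le (b : Fin C.chains.length) (H : Subgroup (Grp T F))
    (h : ∀ i j : Fin (C.kk b), i ≠ j → ∀ t : F, xG g.toGood (C.rt T b i j).1 t ∈ H) :
    (psiB g ok b).range ≤ H := by
  rw [MonoidHom.range_eq_map, ← sl_closure (F := F) (C.kk b), MonoidHom.map_closure, Subgroup.closure_le]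
  rintro _ ⟨_, ⟨i, j, hij, t, rfl⟩, rfl⟩
  rw [psiB_spec g ok b hij]
  exact h i j hij _

theorem psiB_comm {b b' : Fin C.chains.length} (hbb : b ≠ b') (x : SpecialLinearGroup (Fin (C.kk b)) F)
    (y : SpecialLinearGroup (Fin (C.kk b')) F) : Commute (psiB g ok b x) (psiB g ok b' y) := by
  have h := psiB_le g ok b (Subgroup.centralizer {psiB g ok b' y}) (fun i j hij t => by
    rw [Subgroup.mem_centralizer_singleton_iff]
    have h' := psiB_le g ok b' (Subgroup.centralizer {xG g.toGood (C.rt T b i j).1 t}) (fun i' j' hij' u => by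
      rw [Subgroup.mem_centralizer_singleton_iff]
      obtain ⟨a1, -, -, -, -, -, -, a8⟩ := rt_spec ok b i.2 j.2 (fun e => hij (Fin.ext e))
      obtain ⟨c1, -, -, -, -, -, -, -⟩ := rt_spec ok b' i'.2 j'.2 (fun e => hij' (Fin.ext e))
      exact Subtype.ext (comP_commute g.toGoodA a1 c1
        (a8 b' i' j' i'.2 j'.2 (fun e => hij' (Fin.ext e)) hbb) t u).eq.symm) ⟨y, rfl⟩
    exact (Subgroup.mem_centralizer_singleton_iff.1 h').symm) ⟨x, rfl⟩
  exact Subgroup.mem_centralizer_singleton_iff.1 h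

/-- The homomorphism of the Levi part. -/
noncomputable def Psi : PiSL C F →* Grp T F :=
  MonoidHom.noncommPiCoprod (psiB g ok) fun _ _ hbb x y => psiB_comm g ok hbb x y

theorem Psi_single (b : Fin C.chains.length) (x : SpecialLinearGroup (Fin (C.kk b)) F) :
    Psi g ok (Pi.mulSingle b x) = psiB g ok b x :=
  MonoidHom.noncommPiCoprod_mulSingle _ _ _

theorem Psi_transvection (b : Fin C.chains.length) {i j : Fin (C.kk b)} (h : i ≠ j) (t : F) :
    Psi g ok (Pi.mulSingle b (SpecialLinearGroup.transvection h t)) =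
      xG g.toGood (C.rt T b i j).1 (((C.rt T b i j).2 : F) * t) := by
  rw [Psi_single, psiB_spec]

theorem Psi_mem (H : Subgroup (Grp T F))
    (h : ∀ b, ∀ i j : Fin (C.kk b), i ≠ j → ∀ t : F, xG g.toGood (C.rt T b i j).1 t ∈ H) (x : PiSL C F) :
    Psi g ok x ∈ H := by
  have : (Psi g ok).range ≤ H := by
    exact (MonoidHom.noncommPiCoprod_range (psiB g ok)).le.trans
      (iSup_le fun b => psiB_le g ok b H (h b))
  exact this ⟨x, rfl⟩

include ok in
theorem sign_sq (b : Fin C.chains.length) {i j : Fin (C.kk b)} (h : i ≠ j) :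
    ((C.rt T b i j).2 : F) * ((C.rt T b i j).2 : F) = 1 := by
  obtain ⟨-, -, hs, -⟩ := rt_spec ok b i.2 j.2 (fun e => h (Fin.ext e))
  rcases hs with e | e <;> simp [e]

/-- A root element of the Levi part is in the image. -/
theorem root_eq_Psi (b : Fin C.chains.length) {i j : Fin (C.kk b)} (h : i ≠ j) (t : F) :
    xG g.toGood (C.rt T b i j).1 t =
      Psi g ok (Pi.mulSingle b (SpecialLinearGroup.transvection h (((C.rt T b i j).2 : F) * t))) := by
  rw [Psi_transvection, ← mul_assoc, sign_sq (F := F) ok b h, one_mul]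

theorem Psi_normalizes {S : ℕ → Bool}
    (h : ∀ (b : Fin C.chains.length) (i j : ℕ), i < C.kk b → j < C.kk b → i ≠ j →
      normOK T (C.rt T b i j).1 S = true)
    (x : PiSL C F) :
    ((Psi g ok x : Grp T F) : GL T.D.Idx F) ∈
      Subgroup.normalizer (genS g.toGood F (bset T S) : Set (GL T.D.Idx F)) := by
  refine Psi_mem g ok ((Subgroup.normalizer (genS g.toGood F (bset T S) : Set (GL T.D.Idx F))).subgroupOf _) (fun b i j hij t => ?_) x
  rw [Subgroup.mem_subgroupOf]
  exact normOK_spec g.toGoodA (rt_spec ok b i.2 j.2 (fun e => hij (Fin.ext e))).1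
    (h b i j i.2 j.2 (fun e => hij (Fin.ext e))) t

theorem conj_UP (x : PiSL C F) : ∀ p ∈ (genS g.toGood F (bset T (C.outP T))).subgroupOf (Grp T F),
    Psi g ok x * p * (Psi g ok x)⁻¹ ∈ (genS g.toGood F (bset T (C.outP T))).subgroupOf (Grp T F) :=
  fun _ hp => mem_normalizer_sub
    (Psi_normalizes g ok (fun b _ _ hi hj hij => (rt_spec ok b hi hj hij).2.2.2.2.2.1) x) hp

theorem conj_VP (x : PiSL C F) : ∀ p ∈ (genS g.toGood F (bset T (C.outN T))).subgroupOf (Grp T F),
    Psi g ok x * p * (Psi g ok x)⁻¹ ∈ (genS g.toGood F (bset T (C.outN T))).subgroupOf (Grp T F) :=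
  fun _ hp => mem_normalizer_sub
    (Psi_normalizes g ok (fun b _ _ hi hj hij => (rt_spec ok b hi hj hij).2.2.2.2.2.2.1) x) hp

theorem split_U (u : Grp T F) (hu : u ∈ (genS g.toGood F (Set.Ico T.N T.n)).subgroupOf (Grp T F)) :
    ∃ x : PiSL C F, (∀ b, StrictUpper ((x b).1 - 1)) ∧
      ∃ p ∈ (genS g.toGood F (bset T (C.outP T))).subgroupOf (Grp T F), u = Psi g ok x * p := by
  classical
  have hu' : u.1 ∈ genS g.toGood F (Set.Ico T.N T.n) := hu
  suffices H : ∀ v : GL T.D.Idx F, v ∈ genS g.toGood F (Set.Ico T.N T.n) →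
      ∃ x : PiSL C F, (∀ b, StrictUpper ((x b).1 - 1)) ∧
        ∃ p ∈ (genS g.toGood F (bset T (C.outP T))).subgroupOf (Grp T F),
          v = (Psi g ok x * p : Grp T F).1 by
    obtain ⟨x, hx, p, hp, e⟩ := H u.1 hu'
    exact ⟨x, hx, p, hp, Subtype.ext e⟩
  intro v hv
  refine genS_induction g.toGood (p := fun v => ∃ x : PiSL C F, (∀ b, StrictUpper ((x b).1 - 1)) ∧
    ∃ p ∈ (genS g.toGood F (bset T (C.outP T))).subgroupOf (Grp T F), v = (Psi g ok x * p : Grp T F).1)
    ⟨1, fun b => strictUpper_one, 1, one_mem _, by simp⟩ ?_ hv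
  rintro s ⟨hsN, hsn⟩ t _ ⟨x, hx, p, hp, rfl⟩
  rcases hout : C.out T s with _ | _
  · obtain ⟨b, i, j, hij, rfl, hlt, -⟩ := cover ok hsn hout
    refine ⟨Pi.mulSingle b (SpecialLinearGroup.transvection hij (((C.rt T b i j).2 : F) * t)) * x,
      fun b' => ?_, p, hp, ?_⟩
    · rw [Pi.mul_apply]
      refine strictUpper_mul ?_ (hx b')
      by_cases hb : b' = b
      · subst hb
        rw [Pi.mulSingle_eq_same]
        exact strictUpper_transvection hij (hlt hsN) _
      · rw [Pi.mulSingle_eq_of_ne hb]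
        exact strictUpper_one
    · rw [map_mul, mul_assoc, ← root_eq_Psi g ok b hij]
      rfl
  · have hs : xG g.toGood s t ∈ (genS g.toGood F (bset T (C.outP T))).subgroupOf (Grp T F) :=
      xg_mem_genS g.toGood (S := bset T (C.outP T)) (r := s) ⟨hsn, by simp [Cfg.outP, nat_ble.2 hsN, hout]⟩ t
    have h := conj_UP g ok x⁻¹ _ hs
    rw [map_inv, inv_inv] at h
    refine ⟨x, hx, (Psi g ok x)⁻¹ * xG g.toGood s t * Psi g ok x * p, mul_mem h hp, ?_⟩
    show (xG g.toGood s t * (Psi g ok x * p) : Grp T F).1 = _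
    congr 1
    group

theorem split_V (u : Grp T F) (hu : u ∈ (genS g.toGood F (Set.Iio T.N)).subgroupOf (Grp T F)) :
    ∃ x : PiSL C F, (∀ b, StrictUpper ((x b).1 - 1)ᵀ) ∧
      ∃ p ∈ (genS g.toGood F (bset T (C.outN T))).subgroupOf (Grp T F), u = p * Psi g ok x := by
  classical
  suffices H : ∀ v : GL T.D.Idx F, v ∈ genS g.toGood F (Set.Iio T.N) →
      ∃ x : PiSL C F, (∀ b, StrictUpper ((x b).1 - 1)ᵀ) ∧
        ∃ p ∈ (genS g.toGood F (bset T (C.outN T))).subgroupOf (Grp T F),
          v = (p * Psi g ok x : Grp T F).1 by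
    obtain ⟨x, hx, p, hp, e⟩ := H u.1 hu
    exact ⟨x, hx, p, hp, Subtype.ext e⟩
  intro v hv
  refine genS_induction g.toGood (p := fun v => ∃ x : PiSL C F, (∀ b, StrictUpper ((x b).1 - 1)ᵀ) ∧
    ∃ p ∈ (genS g.toGood F (bset T (C.outN T))).subgroupOf (Grp T F), v = (p * Psi g ok x : Grp T F).1)
    ⟨1, fun b => strictLower_one, 1, one_mem _, by simp⟩ ?_ hv
  rintro s (hsN : s < T.N) t _ ⟨x, hx, p, hp, rfl⟩
  have hsn : s < T.n := by rw [n_def]; omega
  rcases hout : C.out T s with _ | _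
  · obtain ⟨b, i, j, hij, rfl, -, hlt⟩ := cover ok hsn hout
    set y : PiSL C F := Pi.mulSingle b (SpecialLinearGroup.transvection hij (((C.rt T b i j).2 : F) * t)) with hy
    refine ⟨y * x, fun b' => ?_, Psi g ok y * p * (Psi g ok y)⁻¹, conj_VP g ok y p hp, ?_⟩
    · rw [Pi.mul_apply]
      refine strictLower_mul ?_ (hx b')
      by_cases hb : b' = b
      · subst hb
        rw [hy, Pi.mulSingle_eq_same]
        exact strictLower_transvection hij (hlt hsN) _
      · rw [hy, Pi.mulSingle_eq_of_ne hb]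
        exact strictLower_one
    · show (xG g.toGood (C.rt T b i j).1 t * (p * Psi g ok x) : Grp T F).1 = _
      rw [root_eq_Psi g ok b hij, ← hy, map_mul]
      congr 1
      group
  · have hs : xG g.toGood s t ∈ (genS g.toGood F (bset T (C.outN T))).subgroupOf (Grp T F) :=
      xg_mem_genS g.toGood (S := bset T (C.outN T)) (r := s) ⟨hsn, by simp [Cfg.outN, nat_blt.2 hsN, hout]⟩ t
    refine ⟨x, hx, xG g.toGood s t * p, mul_mem hs hp, ?_⟩
    show (xG g.toGood s t * (p * Psi g ok x) : Grp T F).1 = _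
    congr 1
    group

omit [Fintype F] in
/-- A radical element fixed by a regular enough torus element is trivial. -/
theorem fixed_pos (g : T.GoodW K W) (c : ℕ → Fˣ) (hout : ∀ r < T.n, C.outP T r = true → wt T F c r ≠ 1)
    {p : GL T.D.Idx F} (hp : p ∈ genS g.toGood F (bset T (C.outP T)))
    (hcomm : tor T F c * p = p * tor T F c) : p = 1 := by
  have hpU : p ∈ genS g.toGood F (Set.Ico T.N T.n) := genS_mono g.toGood (fun s hs => by
    obtain ⟨h1, h2⟩ := hs
    simp only [Cfg.outP, Bool.and_eq_true, nat_ble] at h2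
    exact ⟨h2.1, h1⟩) hp
  obtain ⟨he, hu⟩ := ordProd_spec (F := F) g.toGoodA (T.n - T.N) T.N le_rfl (by omega)
  obtain ⟨t, rfl⟩ := he p hpU
  have hconj : tor T F c * ordProd g.toGood T.N t * (tor T F c)⁻¹ =
      ordProd g.toGood T.N (fun r => (wt T F c r : F) * t r) := by
    rw [← MulAut.conj_apply, ordProd, map_list_prod, List.map_map, ordProd]
    congr 1
    refine List.map_congr_left fun r hr => ?_
    rw [List.mem_range'_1] at hr
    rw [Function.comp_apply, MulAut.conj_apply, tor_xg g.toGood c (by omega)]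
  have hcoef := hu t (fun r => (wt T F c r : F) * t r) (by
    rw [← hconj, hcomm, mul_inv_cancel_right])
  refine radical_inf_levi g.toGoodK C.J (by rwa [outP_eq] at hp) (Subgroup.mem_sup_right ?_)
  refine Subgroup.list_prod_mem _ fun y hy => ?_
  obtain ⟨r, hr, rfl⟩ := List.mem_map.1 hy
  rw [List.mem_range'_1] at hr
  have hrn : r < T.n := by omega
  rcases hor : C.out T r with _ | _
  · exact xg_mem_genS g.toGood (out_false_inJ hrn hor) _
  · have hz : t r = 0 := by
      by_contra hne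
      refine hout r hrn (by simp [Cfg.outP, nat_ble.2 hr.1, hor]) (Units.ext ?_)
      exact (mul_eq_right₀ hne).1 (hcoef r hr.1 hrn).symm
    rw [hz, xg_zero]
    exact one_mem _

omit [Fintype F] in
theorem nWd_dg (g : T.Good) : ∀ {L : List ℕ}, T.Wd L → ∀ χ : ℕ → Fˣ,
    nWd g F L * Tab.dg T F χ * (nWd g F L)⁻¹ = Tab.dg T F fun s => χ (T.rw' L.reverse s)
  | [], _, χ => by simp
  | i :: L, h, χ => by
    obtain ⟨hi, hL⟩ := Wd.cons_iff.1 h
    rw [nWd_cons, show ∀ a b x : GL T.D.Idx F, a * b * x * (a * b)⁻¹ = a * (b * x * b⁻¹) * a⁻¹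
      from fun a b x => by group, nWd_dg g hL, nG_dg g hi]
    refine dg_congr g fun s _ => ?_
    rw [List.reverse_cons, rw'_append, rw'_cons, rw'_nil]

theorem weyl_spec (ok : C.Ok T) : T.Wd C.L ∧ ∀ s < T.n,
    T.eVal C.lam (T.rw' C.L s) = -T.eVal C.lam s ∧
    (T.N ≤ s → T.rw' C.L s < T.N) ∧ (s < T.N → T.N ≤ T.rw' C.L s) ∧
    C.out T (T.rw' C.L s) = C.out T s := by
  have h := ok.weyl
  simp only [checkWeyl, Bool.and_eq_true, List.all_eq_true, nat_blt] at h
  refine ⟨h.1.1.1, fun s hs => ?_⟩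
  have h1 := allBelow_eq_true.1 h.1.1.2 s hs
  simp only [Bool.and_eq_true, beq_iff_eq] at h1
  refine ⟨h1.1.1, fun e => ?_, fun e => ?_, h1.2⟩
  · have := h1.1.2
    rwa [nat_ble.2 e, cond_true, nat_blt] at this
  · have := h1.1.2
    rwa [show Nat.ble T.N s = false by rw [← Bool.not_eq_true, nat_ble]; omega, cond_false, nat_ble] at this

omit [Fintype F] in
theorem wt_prod_eVal {r : ℕ} (d : Fin r → Fˣ) (vs : Fin r → List ℤ) (s : ℕ) :
    wt T F (∏ b, fun j => d b ^ (vs b).getD j 0) s = ∏ b, d b ^ T.eVal (vs b) s := by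
  simp only [← wt_zpow_eVal (T := T) (F := F)]
  induction (Finset.univ : Finset (Fin r)) using Finset.induction_on with
  | empty => simp [wt]
  | insert a S ha ih => rw [Finset.prod_insert ha, Finset.prod_insert ha, wt_mul, ih]

theorem conjSL_map_mul {k : ℕ} (P : GL (Fin k) F) (x y : SpecialLinearGroup (Fin k) F) :
    conjSL P (x * y) = conjSL P x * conjSL P y := by
  apply Subtype.ext
  show P.1 * (x.1 * y.1) * P⁻¹.1 = (P.1 * x.1 * P⁻¹.1) * (P.1 * y.1 * P⁻¹.1)
  simp [mul_assoc]

theorem conjSL_one {k : ℕ} (P : GL (Fin k) F) : conjSL P (1 : SpecialLinearGroup (Fin k) F) = 1 := by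
  apply Subtype.ext
  show P.1 * 1 * P⁻¹.1 = 1
  simp

/-- A hom given on the root elements of the blocks. -/
theorem Psi_conj_diag (t : Grp T F) (a : (b : Fin C.chains.length) → Fin (C.kk b) → Fˣ)
    (h : ∀ b (i j : Fin (C.kk b)), i ≠ j → ∀ u : F, t * xG g.toGood (C.rt T b i j).1 u * t⁻¹ =
      xG g.toGood (C.rt T b i j).1 ((a b i : F) * u * ((a b j : F))⁻¹)) (x : PiSL C F) :
    t * Psi g ok x * t⁻¹ = Psi g ok fun b => conjSL (diagGL (a b)) (x b) := by
  obtain ⟨conjD, hconjD⟩ : ∃ conjD : PiSL C F →* PiSL C F, ∀ x b, conjD x b = conjSL (diagGL (a b)) (x b) :=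
    ⟨MonoidHom.mk' (fun x b => conjSL (diagGL (a b)) (x b)) fun x y => funext fun b => conjSL_map_mul _ _ _,
      fun _ _ => rfl⟩
  let f : PiSL C F →* Grp T F := (MulAut.conj t).toMonoidHom.comp (Psi g ok)
  let f' : PiSL C F →* Grp T F := (Psi g ok).comp conjD
  have key : f = f' := by
    refine MonoidHom.pi_ext fun b y => ?_
    let H : Subgroup (SpecialLinearGroup (Fin (C.kk b)) F) :=
      MonoidHom.eqLocus (f.comp (MonoidHom.mulSingle (fun b => SpecialLinearGroup (Fin (C.kk b)) F) b))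
        (f'.comp (MonoidHom.mulSingle (fun b => SpecialLinearGroup (Fin (C.kk b)) F) b))
    have hle : (⊤ : Subgroup (SpecialLinearGroup (Fin (C.kk b)) F)) ≤ H := by
      rw [← sl_closure, Subgroup.closure_le]
      rintro _ ⟨i, j, hij, u, rfl⟩
      show t * Psi g ok (Pi.mulSingle b (SpecialLinearGroup.transvection hij u)) * t⁻¹ =
        Psi g ok (conjD (Pi.mulSingle b (SpecialLinearGroup.transvection hij u)))
      have hD : conjD (Pi.mulSingle b (SpecialLinearGroup.transvection hij u)) =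
          Pi.mulSingle b (SpecialLinearGroup.transvection hij ((a b i : F) * u * ((a b j : F))⁻¹)) := by
        funext b'
        rw [hconjD]
        by_cases hb : b' = b
        · subst hb
          rw [Pi.mulSingle_eq_same, Pi.mulSingle_eq_same, conjSL_diag_transvection]
        · rw [Pi.mulSingle_eq_of_ne hb, Pi.mulSingle_eq_of_ne hb, conjSL_one]
      rw [hD, Psi_transvection, Psi_transvection, h b i j hij]
      congr 1
      ring
    exact hle (Subgroup.mem_top y)
  have := DFunLike.congr_fun key x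
  rw [show (fun b => conjSL (diagGL (a b)) (x b)) = conjD x from funext fun b => (hconjD x b).symm]
  exact this

theorem surj (ξc : ℕ → Fˣ) (d : Fin C.chains.length → Fˣ) :
    ∃ t : Grp T F, t * ⟨tor T F ξc, tor_mem_group g.toGood ξc⟩ = ⟨tor T F ξc, tor_mem_group g.toGood ξc⟩ * t ∧
      ∃ (Dg : (b : Fin C.chains.length) → GL (Fin (C.kk b)) F) (c : Fin C.chains.length → F),
        (∀ b, c b ≠ 0 ∧ (Dg b).1.det = (d b : F) * c b ^ C.kk b) ∧
        ∀ x, t * Psi g ok x * t⁻¹ = Psi g ok fun b => conjSL (Dg b) (x b) := by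
  classical
  let vs : Fin C.chains.length → List ℤ := fun b => C.vs.getD b.val []
  let ct : ℕ → Fˣ := ∏ b, fun j => d b ^ (vs b).getD j 0
  let a : (b' : Fin C.chains.length) → Fin (C.kk b') → Fˣ := fun b' i => ∏ b, d b ^ C.ev T (vs b) b' i
  have hv := allBelow_eq_true.1 ok.cochar
  have hdiv : ∀ b b' : Fin C.chains.length, ∃ q : ℤ,
      ∑ i : Fin (C.kk b'), C.ev T (vs b) b' i = (if b = b' then 1 else 0) + (C.kk b' : ℤ) * q := by
    intro b b'
    have h := (Bool.and_eq_true _ _ ▸ hv b b.2 : _ ∧ _).2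
    have h1 := allBelow_eq_true.1 h b' b'.2
    rw [beq_iff_eq, sumBelow_eq_sum] at h1
    obtain ⟨q, hq⟩ := Int.dvd_of_emod_eq_zero h1
    refine ⟨q, ?_⟩
    rw [Fin.sum_univ_eq_sum_range (fun i => C.ev T (vs b) b' i)]
    have he : ((if (b : ℕ) = (b' : ℕ) then 1 else 0 : ℤ)) = if b = b' then 1 else 0 := by
      simp only [Fin.val_inj]
    rw [← he]
    show ∑ i ∈ Finset.range ((C.chains.getD b'.val []).length + 1), C.ev T (C.vs.getD b.val []) b' i = _
    unfold Cfg.kk
    linear_combination hq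
  choose q hq using hdiv
  refine ⟨⟨tor T F ct, tor_mem_group g.toGood ct⟩, Subtype.ext ?_, fun b' => diagGL (a b'),
    fun b' => ((∏ b, d b ^ q b b' : Fˣ) : F), fun b' => ⟨Units.ne_zero _, ?_⟩, fun x => ?_⟩
  · show tor T F ct * tor T F ξc = tor T F ξc * tor T F ct
    rw [← map_mul, mul_comm, map_mul]
  · have e : (∏ i, a b' i) = d b' * (∏ b, d b ^ q b b') ^ C.kk b' := by
      simp only [a]
      rw [Finset.prod_comm, ← Finset.prod_pow]
      rw [show (∏ b, ∏ i : Fin (C.kk b'), d b ^ C.ev T (vs b) b' i) =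
        ∏ b, (d b ^ (if b = b' then 1 else 0 : ℤ) * (d b ^ q b b') ^ C.kk b') from
        Finset.prod_congr rfl fun b _ => by
          rw [prod_zpow_sum, hq, _root_.zpow_add, ← zpow_natCast (d b ^ q b b'), ← _root_.zpow_mul,
            mul_comm (q b b')]]
      rw [Finset.prod_mul_distrib, Finset.prod_eq_single b' (fun b _ hb => by simp [hb]) (by simp)]
      simp
    show Matrix.det (Matrix.diagonal fun i => (a b' i : F)) = _
    rw [Matrix.det_diagonal, ← Units.coe_prod, e, Units.val_mul, Units.val_pow_eq_pow_val]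
  · refine Psi_conj_diag g ok ⟨tor T F ct, tor_mem_group g.toGood ct⟩ a (fun b i j hij t => ?_) x
    rw [tor_conj_xG g.toGood ct (rt_spec ok b i.2 j.2 (fun e => hij (Fin.ext e))).1 _ rfl]
    congr 1
    have hw : wt T F ct (C.rt T b i j).1 = a b i / a b j := by
      rw [wt_prod_eVal, ← Finset.prod_div_distrib]
      refine Finset.prod_congr rfl fun b₀ _ => ?_
      have h := (Bool.and_eq_true _ _ ▸ hv b₀ b₀.2 : _ ∧ _).1
      have h1 := allRoots_spec h b i.2 j.2 (fun e => hij (Fin.ext e))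
      rw [beq_iff_eq] at h1
      rw [h1, _root_.zpow_sub, div_eq_mul_inv]
    rw [hw, div_eq_mul_inv, Units.val_mul, Units.val_inv_eq_inv_val]
    ring

end Cfsg.Agent.ClassSquare.Chev
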