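/-
The longest Weyl element on the Levi part, and the class square property of the tabulated Chevalley groups.
-/
import Cfsg.Agent.Lib.ClassSquare.ChevLevi

set_option autoImplicit false
set_option linter.style.haveILetI false

namespace Cfsg.Agent.ClassSquare.Chev

open Cfsg.Lie Cfsg.Agent.Chev Cfsg.Agent.Chev.Tab
open Matrix (SpecialLinearGroup)
open scoped Matrix

universe v

variable {T : Tab} {K : List (List ℕ)} {W : List (ℕ × ℕ × ℕ)} {F : Type v} [Field F] {C : Cfg}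

/-- the simple root of a position goes to a negative one -/
def Img (T : Tab) (C : Cfg) (b i b' j' : ℕ) : Prop :=
  T.rw' C.L (C.rt T b i (i + 1)).1 = (C.rt T b' (j' + 1) j').1

theorem img_exists (ok : C.Ok T) (b : Fin C.chains.length) {i : ℕ} (hi : i + 1 < C.kk b) :
    ∃ b' : Fin C.chains.length, ∃ j' : ℕ, j' + 1 < C.kk b' ∧ Img T C b i b' j' := by
  have h := ok.weyl
  simp only [checkWeyl, Bool.and_eq_true] at h
  have hl : i < (C.chains.getD b.val []).length := Nat.lt_of_succ_lt_succ hi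
  have h1 := allBelow_eq_true.1 (allBelow_eq_true.1 h.1.2 b b.2) i hl
  obtain ⟨b', i', j', -, h2⟩ := anyRoots_spec h1
  simp only [Bool.and_eq_true, nat_beq] at h2
  obtain ⟨hi', e⟩ := h2
  refine ⟨b', j', hi' ▸ i'.2, ?_⟩
  rw [hi'] at e
  exact e

theorem img_onto (ok : C.Ok T) (b' : Fin C.chains.length) {j' : ℕ} (hj : j' + 1 < C.kk b') :
    ∃ b : Fin C.chains.length, ∃ i : ℕ, i + 1 < C.kk b ∧ Img T C b i b' j' := by
  have h := ok.weyl
  simp only [checkWeyl, Bool.and_eq_true] at h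
  have hl : j' < (C.chains.getD b'.val []).length := Nat.lt_of_succ_lt_succ hj
  obtain ⟨b, hb, h1⟩ := anyBelow_eq_true.1 (allBelow_eq_true.1 (allBelow_eq_true.1 h.2 b' b'.2) j' hl)
  obtain ⟨i, hi, h2⟩ := anyBelow_eq_true.1 h1
  exact ⟨⟨b, hb⟩, i, Nat.succ_lt_succ hi, nat_beq.1 h2⟩

theorem img_target_unique (ok : C.Ok T) (b b₁ b₂ : Fin C.chains.length) {i j₁ j₂ : ℕ}
    (h₁ : j₁ + 1 < C.kk b₁) (h₂ : j₂ + 1 < C.kk b₂) (e₁ : Img T C b i b₁ j₁) (e₂ : Img T C b i b₂ j₂) :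
    b₁ = b₂ ∧ j₁ = j₂ := by
  obtain ⟨h, -, h'⟩ := rt_inj ok b₁ b₂ h₁ (Nat.lt_of_succ_lt h₁) (Nat.succ_ne_self _) h₂
    (Nat.lt_of_succ_lt h₂) (Nat.succ_ne_self _) (e₁.symm.trans e₂)
  exact ⟨h, h'⟩

theorem img_source_unique (g : T.Good) (ok : C.Ok T) (b₁ b₂ b' : Fin C.chains.length) {i₁ i₂ j' : ℕ}
    (h₁ : i₁ + 1 < C.kk b₁) (h₂ : i₂ + 1 < C.kk b₂) (e₁ : Img T C b₁ i₁ b' j') (e₂ : Img T C b₂ i₂ b' j') :
    b₁ = b₂ ∧ i₁ = i₂ := by
  have a₁ := (rt_spec ok b₁ (Nat.lt_of_succ_lt h₁) h₁ (Nat.ne_of_lt (Nat.lt_succ_self _))).1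
  have a₂ := (rt_spec ok b₂ (Nat.lt_of_succ_lt h₂) h₂ (Nat.ne_of_lt (Nat.lt_succ_self _))).1
  have e := congrArg (T.rw' C.L.reverse) (show T.rw' C.L (C.rt T b₁ i₁ (i₁ + 1)).1 =
    T.rw' C.L (C.rt T b₂ i₂ (i₂ + 1)).1 from e₁.trans e₂.symm)
  rw [rw'_rev g (weyl_spec ok).1 a₁, rw'_rev g (weyl_spec ok).1 a₂] at e
  obtain ⟨h, h', -⟩ := rt_inj ok b₁ b₂ (Nat.lt_of_succ_lt h₁) h₁ (Nat.ne_of_lt (Nat.lt_succ_self _))
    (Nat.lt_of_succ_lt h₂) h₂ (Nat.ne_of_lt (Nat.lt_succ_self _)) e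
  exact ⟨h, h'⟩

/-- A partial product of the Jordan block. -/
def jP (F : Type*) [Field F] (k : ℕ) : ℕ → SpecialLinearGroup (Fin k) F
  | 0 => 1
  | m + 1 => if h : m + 1 < k then
      SpecialLinearGroup.transvection (i := (⟨m, Nat.lt_of_succ_lt h⟩ : Fin k)) (j := ⟨m + 1, h⟩)
        (fun e => Nat.ne_of_lt (Nat.lt_succ_self m) (congrArg Fin.val e)) 1 * jP F k m
    else jP F k m

theorem jP_val (k : ℕ) : ∀ (m : ℕ) (i j : Fin k), (jP F k m).1 i j =
    if i = j then 1 else if (i : ℕ) + 1 = j ∧ (i : ℕ) < m then 1 else 0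
  | 0, i, j => by
    rw [jP, show (1 : SpecialLinearGroup (Fin k) F).1 = 1 from rfl, Matrix.one_apply]
    simp
  | m + 1, i, j => by
    rw [jP]
    by_cases h : m + 1 < k
    · rw [dif_pos h, val_mulSL]
      show (Matrix.transvection (⟨m, Nat.lt_of_succ_lt h⟩ : Fin k) ⟨m + 1, h⟩ (1 : F) * (jP F k m).1) i j = _
      by_cases hi : i = ⟨m, Nat.lt_of_succ_lt h⟩
      · subst hi
        rw [Matrix.transvection_mul_apply_same, jP_val k m, jP_val k m]
        simp only [Fin.ext_iff, one_mul]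
        by_cases hjm : m = (j : ℕ)
        · simp [hjm, show ¬((j : ℕ) + 1 = j) by omega]
        · by_cases hjm1 : m + 1 = (j : ℕ)
          · simp [hjm, hjm1]
            omega
          · simp [hjm, hjm1]
      · rw [Matrix.transvection_mul_apply_of_ne _ _ i j hi, jP_val k m]
        have hne : (i : ℕ) ≠ m := fun e => hi (Fin.ext e)
        have e : (i : ℕ) < m + 1 ↔ (i : ℕ) < m := by omega
        simp only [e]
    · rw [dif_neg h, jP_val k m]
      have e : ((i : ℕ) + 1 = j ∧ (i : ℕ) < m + 1) ↔ ((i : ℕ) + 1 = j ∧ (i : ℕ) < m) := by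
        have := j.2; omega
      simp only [e]

theorem jP_full (k : ℕ) : jP F k k = jSL F k := by
  apply Subtype.ext
  ext i j
  rw [jP_val]
  show _ = jordan k F i j
  simp only [jordan, shift, Matrix.add_apply, Matrix.one_apply, Matrix.of_apply, i.2, and_true]
  by_cases h : i = j
  · subst h; simp
  · simp [h]

variable [Fintype F] (g : T.GoodW K W) (ok : C.Ok T)

/-- The Weyl element in the group. -/
noncomputable def nW0 (F : Type v) [Field F] (g : T.Good) (L : List ℕ) : Grp T F :=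
  ⟨nWd g F L, nWd_mem_group g L⟩

/-- lower images of products of simple root elements -/
def Good (Z : PiSL C F) (S : Fin C.chains.length → ℕ → Prop) : Prop :=
  ∃ Y : PiSL C F, (∀ b', StrictUpper ((Y b').1 - 1)ᵀ) ∧
    nW0 F g.toGood C.L * Psi g ok Z * (nW0 F g.toGood C.L)⁻¹ = Psi g ok Y ∧
    ∀ (b' : Fin C.chains.length) (j' : ℕ) (h : j' + 1 < C.kk b'),
      ((Y b').1 ⟨j' + 1, h⟩ ⟨j', Nat.lt_of_succ_lt h⟩ ≠ 0 ↔
        ∃ b i, S b i ∧ i + 1 < C.kk b ∧ Img T C b i b' j')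

theorem Good.congr {Z : PiSL C F} {S S' : Fin C.chains.length → ℕ → Prop} (h : Good g ok Z S)
    (hS : ∀ b i, i + 1 < C.kk b → (S b i ↔ S' b i)) : Good g ok Z S' := by
  obtain ⟨Y, h1, h2, h3⟩ := h
  refine ⟨Y, h1, h2, fun b' j' hj => (h3 b' j' hj).trans ⟨?_, ?_⟩⟩
  · rintro ⟨b, i, hs, hi, e⟩; exact ⟨b, i, (hS b i hi).1 hs, hi, e⟩
  · rintro ⟨b, i, hs, hi, e⟩; exact ⟨b, i, (hS b i hi).2 hs, hi, e⟩

theorem good_one : Good g ok (1 : PiSL C F) fun _ _ => False := by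
  refine ⟨1, fun b => strictLower_one, by simp, fun b' j' h => ?_⟩
  rw [show ((1 : PiSL C F) b').1 = 1 from rfl, Matrix.one_apply_ne
    (fun e => Nat.succ_ne_self j' (congrArg Fin.val e))]
  simp

theorem good_step {Z : PiSL C F} {S : Fin C.chains.length → ℕ → Prop} (hZ : Good g ok Z S)
    (b₀ : Fin C.chains.length) {i₀ : ℕ} (hi : i₀ + 1 < C.kk b₀) (hS : ¬S b₀ i₀) :
    Good g ok (Pi.mulSingle b₀ (SpecialLinearGroup.transvection (i := (⟨i₀, Nat.lt_of_succ_lt hi⟩ : Fin (C.kk b₀)))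
      (j := ⟨i₀ + 1, hi⟩) (fun e => Nat.ne_of_lt (Nat.lt_succ_self i₀) (congrArg Fin.val e)) (1 : F)) * Z)
      fun b i => S b i ∨ (b = b₀ ∧ i = i₀) := by
  obtain ⟨Y, hY, heq, hnz⟩ := hZ
  obtain ⟨b₁, j₁, hj₁, hImg⟩ := img_exists ok b₀ hi
  have hne₀ : (⟨i₀, Nat.lt_of_succ_lt hi⟩ : Fin (C.kk b₀)) ≠ ⟨i₀ + 1, hi⟩ :=
    fun e => Nat.ne_of_lt (Nat.lt_succ_self i₀) (congrArg Fin.val e)
  have hne₁ : (⟨j₁ + 1, hj₁⟩ : Fin (C.kk b₁)) ≠ ⟨j₁, Nat.lt_of_succ_lt hj₁⟩ :=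
    fun e => Nat.succ_ne_self j₁ (congrArg Fin.val e)
  obtain ⟨hlt, -, hsg, -⟩ := rt_spec ok b₀ (Nat.lt_of_succ_lt hi) hi (Nat.ne_of_lt (Nat.lt_succ_self i₀))
  obtain ⟨-, -, hsg', -⟩ := rt_spec ok b₁ hj₁ (Nat.lt_of_succ_lt hj₁) (Nat.succ_ne_self j₁)
  obtain ⟨ε, hε, hconj⟩ := nWd_conj (F := F) g.toGood (weyl_spec ok).1 hlt
  set u : F := ((C.rt T b₁ (j₁ + 1) j₁).2 : F) * ((ε : F) * (((C.rt T b₀ i₀ (i₀ + 1)).2 : F) * 1)) with hu
  have hu0 : u ≠ 0 := by
    rw [hu]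
    refine mul_ne_zero ?_ (mul_ne_zero ε.ne_zero (mul_ne_zero ?_ one_ne_zero))
    · rcases hsg' with e | e <;> simp [e]
    · rcases hsg with e | e <;> simp [e]
  have hel : nW0 F g.toGood C.L * Psi g ok (Pi.mulSingle b₀ (SpecialLinearGroup.transvection hne₀ (1 : F))) *
      (nW0 F g.toGood C.L)⁻¹ = Psi g ok (Pi.mulSingle b₁ (SpecialLinearGroup.transvection hne₁ u)) := by
    rw [Psi_transvection, hu, ← root_eq_Psi g ok b₁ hne₁]
    apply Subtype.ext
    show nWd g.toGood F C.L * xg g.toGood (C.rt T b₀ i₀ (i₀ + 1)).1 _ * (nWd g.toGood F C.L)⁻¹ =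
      xg g.toGood (C.rt T b₁ (j₁ + 1) j₁).1 _
    rw [(hconj _).1, show T.rw' C.L (C.rt T b₀ i₀ (i₀ + 1)).1 = _ from hImg]
  refine ⟨Pi.mulSingle b₁ (SpecialLinearGroup.transvection hne₁ u) * Y, fun b' => ?_, ?_, fun b' j' hj => ?_⟩
  · rw [Pi.mul_apply]
    refine strictLower_mul ?_ (hY b')
    by_cases hb : b' = b₁
    · subst hb
      rw [Pi.mulSingle_eq_same]
      exact strictLower_transvection hne₁ (Nat.lt_succ_self j₁) _
    · rw [Pi.mulSingle_eq_of_ne hb]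
      exact strictLower_one
  · rw [map_mul, map_mul, ← hel, ← heq]
    group
  · rw [Pi.mul_apply, val_mulSL]
    by_cases hb : b' = b₁
    · subst hb
      rw [Pi.mulSingle_eq_same]
      show (Matrix.transvection (⟨j₁ + 1, hj₁⟩ : Fin (C.kk b')) ⟨j₁, Nat.lt_of_succ_lt hj₁⟩ u * (Y b').1)
        ⟨j' + 1, hj⟩ ⟨j', Nat.lt_of_succ_lt hj⟩ ≠ 0 ↔ _
      by_cases hjj : j' = j₁
      · subst hjj
        rw [Matrix.transvection_mul_apply_same]
        have h0 : (Y b').1 ⟨j' + 1, hj⟩ ⟨j', Nat.lt_of_succ_lt hj⟩ = 0 := by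
          by_contra hne
          obtain ⟨b, i, hs, hil, e⟩ := (hnz b' j' hj).1 hne
          obtain ⟨rfl, rfl⟩ := img_source_unique g.toGood ok b b₀ b' hil hi e hImg
          exact hS hs
        have h1 : (Y b').1 ⟨j', Nat.lt_of_succ_lt hj⟩ ⟨j', Nat.lt_of_succ_lt hj⟩ = 1 :=
          sub_eq_zero.1 (by
            have := hY b' ⟨j', Nat.lt_of_succ_lt hj⟩ ⟨j', Nat.lt_of_succ_lt hj⟩ le_rfl
            rwa [Matrix.transpose_apply, Matrix.sub_apply, Matrix.one_apply_eq] at this)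
        rw [h0, h1, zero_add, mul_one]
        exact iff_of_true hu0 ⟨b₀, i₀, Or.inr ⟨rfl, rfl⟩, hi, hImg⟩
      · rw [Matrix.transvection_mul_apply_of_ne _ _ _ _ (fun e => hjj (by simpa using e))]
        refine (hnz b' j' hj).trans ⟨fun ⟨b, i, hs, hil, e⟩ => ⟨b, i, Or.inl hs, hil, e⟩, ?_⟩
        rintro ⟨b, i, hs | ⟨rfl, rfl⟩, hil, e⟩
        · exact ⟨b, i, hs, hil, e⟩
        · exact absurd (img_target_unique ok b b' b' hj hj₁ e hImg).2 hjj
    · rw [Pi.mulSingle_eq_of_ne hb, show (1 : SpecialLinearGroup (Fin (C.kk b')) F).1 = 1 from rfl, one_mul]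
      refine (hnz b' j' hj).trans ⟨fun ⟨b, i, hs, hil, e⟩ => ⟨b, i, Or.inl hs, hil, e⟩, ?_⟩
      rintro ⟨b, i, hs | ⟨rfl, rfl⟩, hil, e⟩
      · exact ⟨b, i, hs, hil, e⟩
      · exact absurd (img_target_unique ok b b' b₁ hj hj₁ e hImg).1 hb

theorem good_partial {Z : PiSL C F} {S : Fin C.chains.length → ℕ → Prop} (hZ : Good g ok Z S)
    (b₀ : Fin C.chains.length) (hS : ∀ i, ¬S b₀ i) : ∀ m : ℕ,
    Good g ok (Pi.mulSingle b₀ (jP F (C.kk b₀) m) * Z) fun b i => S b i ∨ (b = b₀ ∧ i < m)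
  | 0 => by
    rw [jP, Pi.mulSingle_one, one_mul]
    exact hZ.congr g ok fun b i _ => by simp
  | m + 1 => by
    rw [jP]
    by_cases h : m + 1 < C.kk b₀
    · rw [dif_pos h, Pi.mulSingle_mul, mul_assoc]
      refine (good_step g ok (good_partial hZ b₀ hS m) b₀ h
        (not_or_intro (hS m) fun e => lt_irrefl m e.2)).congr g ok fun b i hi => ?_
      constructor
      · rintro ((hs | ⟨rfl, hlt⟩) | ⟨rfl, rfl⟩)
        exacts [Or.inl hs, Or.inr ⟨rfl, Nat.lt_succ_of_lt hlt⟩, Or.inr ⟨rfl, Nat.lt_succ_self _⟩]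
      · rintro (hs | ⟨rfl, hlt⟩)
        · exact Or.inl (Or.inl hs)
        · rcases Nat.lt_succ_iff_lt_or_eq.1 hlt with hl | rfl
          exacts [Or.inl (Or.inr ⟨rfl, hl⟩), Or.inr ⟨rfl, rfl⟩]
    · rw [dif_neg h]
      refine (good_partial hZ b₀ hS m).congr g ok fun b i hi => ?_
      constructor
      · rintro (hs | ⟨rfl, hlt⟩)
        exacts [Or.inl hs, Or.inr ⟨rfl, Nat.lt_succ_of_lt hlt⟩]
      · rintro (hs | ⟨rfl, hlt⟩)
        · exact Or.inl hs
        · exact Or.inr ⟨rfl, by omega⟩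

theorem good_all : ∀ m : ℕ, m ≤ C.chains.length →
    Good g ok (fun b : Fin C.chains.length => if (b : ℕ) < m then jSL F (C.kk b) else 1) fun b _ => (b : ℕ) < m
  | 0, _ => by
    have e : (fun b : Fin C.chains.length => if (b : ℕ) < 0 then jSL F (C.kk b) else 1) = (1 : PiSL C F) :=
      funext fun b => by simp
    rw [e]
    exact (good_one g ok).congr g ok fun b i _ => by simp
  | m + 1, hm => by
    have e : (fun b : Fin C.chains.length => if (b : ℕ) < m + 1 then jSL F (C.kk b) else 1) =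
        Pi.mulSingle (⟨m, hm⟩ : Fin C.chains.length) (jP F (C.kk ⟨m, hm⟩) (C.kk ⟨m, hm⟩)) *
          (fun b : Fin C.chains.length => if (b : ℕ) < m then jSL F (C.kk b) else 1) := by
      funext b
      rw [Pi.mul_apply]
      by_cases hb : b = ⟨m, hm⟩
      · subst hb
        rw [Pi.mulSingle_eq_same, jP_full, if_pos (Nat.lt_succ_self m), if_neg (lt_irrefl m), mul_one]
      · rw [Pi.mulSingle_eq_of_ne hb, one_mul]
        have hne : (b : ℕ) ≠ m := fun e => hb (Fin.ext e)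
        simp only [show (b : ℕ) < m + 1 ↔ (b : ℕ) < m by omega]
    rw [e]
    refine (good_partial g ok (good_all m (Nat.le_of_succ_le hm)) ⟨m, hm⟩ (fun i => lt_irrefl m) _).congr g ok
      fun b i hi => ?_
    constructor
    · rintro (hs | ⟨rfl, -⟩)
      exacts [Nat.lt_succ_of_lt hs, Nat.lt_succ_self m]
    · intro hs
      rcases Nat.lt_succ_iff_lt_or_eq.1 hs with hl | he
      · exact Or.inl hl
      · obtain rfl : b = ⟨m, hm⟩ := Fin.ext he
        exact Or.inr ⟨rfl, Nat.lt_of_succ_lt hi⟩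

/-- The Weyl element sends the regular unipotent element of the Levi part to a regular one. -/
theorem flip_regular :
    ∃ m : PiSL C F, (∀ b, IsReg (m b).1) ∧
      nW0 F g.toGood C.L * Psi g ok (fun b => jSL F (C.kk b)) * (nW0 F g.toGood C.L)⁻¹ = Psi g ok m := by
  obtain ⟨Y, h1, h2, h3⟩ := good_all g ok C.chains.length le_rfl (F := F)
  refine ⟨Y, fun b' => isReg_of_lower (fun i j hij => h1 b' j i hij) fun i j hij => ?_, ?_⟩
  · have hlt : (j : ℕ) + 1 < C.kk b' := hij ▸ i.2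
    obtain ⟨b, i', hi', e⟩ := img_onto ok b' hlt
    have := (h3 b' j hlt).2 ⟨b, i', b.2, hi', e⟩
    rwa [show i = (⟨(j : ℕ) + 1, hlt⟩ : Fin (C.kk b')) from Fin.ext hij.symm]
  · rw [← h2]
    congr 2
    congr 1
    funext b
    rw [if_pos b.2]

variable (C) in
/-- the exponents of the torus element -/
def lamFun (ξ : Fˣ) : ℕ → Fˣ := fun j => ξ ^ C.lam.getD j 0

theorem torus_spec (ok : C.Ok T) {s : ℕ} (hs : s < T.n) :
    (C.out T s = false → T.eVal C.lam s = 0) ∧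
      (C.out T s = true → T.eVal C.lam s ≠ 0 ∧ (T.eVal C.lam s).natAbs < 8) := by
  have h := allBelow_eq_true.1 ok.torus s hs
  refine ⟨fun e => ?_, fun e => ?_⟩
  · rwa [e, cond_false, beq_iff_eq] at h
  · rw [e, cond_true] at h
    by_cases hN : T.N ≤ s
    · rw [nat_ble.2 hN, cond_true, decide_eq_true_eq] at h
      omega
    · rw [show Nat.ble T.N s = false by rw [← Bool.not_eq_true, nat_ble]; exact hN, cond_false,
        decide_eq_true_eq] at h
      omega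

theorem nW_tor (ξ : Fˣ) (ok : C.Ok T) :
    nWd g.toGood F C.L * tor T F (lamFun C ξ) * (nWd g.toGood F C.L)⁻¹ = (tor T F (lamFun C ξ))⁻¹ := by
  rw [tor_apply, nWd_dg g.toGood (weyl_spec ok).1, ← map_inv]
  refine dg_congr g.toGood fun s hs => ?_
  rw [Pi.inv_apply]
  show wt T F (fun j => ξ ^ C.lam.getD j 0) _ = (wt T F (fun j => ξ ^ C.lam.getD j 0) s)⁻¹
  rw [wt_zpow_eVal, wt_zpow_eVal, ← _root_.zpow_neg]
  congr 1
  have hr := rw'_lt g.toGood (weyl_spec ok).1.reverse hs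
  have := ((weyl_spec ok).2 _ hr).1
  rw [rw'_rev' g.toGood (weyl_spec ok).1 hs] at this
  omega

/-- **The Levi data of a certificate.** -/
theorem exists_leviData (hF : 9 ≤ Fintype.card F) : Nonempty (LeviData (datum (F := F) g ok.conn ok.datum)) := by
  classical
  obtain ⟨ξ, hξ⟩ := IsCyclic.exists_generator (α := Fˣ)
  have hord : orderOf ξ = Fintype.card F - 1 := by
    rw [orderOf_eq_card_of_forall_mem_zpowers hξ, Nat.card_eq_fintype_card, Fintype.card_units]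
  set c := lamFun C ξ with hc
  let hT : Grp T F := ⟨tor T F c, tor_mem_group g.toGood c⟩
  have hwt : ∀ s, wt T F c s = ξ ^ T.eVal C.lam s := fun s => wt_zpow_eVal ξ C.lam s
  have hout : ∀ r < T.n, C.outP T r = true → wt T F c r ≠ 1 := by
    intro r hr ho e
    simp only [Cfg.outP, Bool.and_eq_true] at ho
    obtain ⟨h1, h2⟩ := (torus_spec ok hr).2 ho.2
    rw [hwt, ← orderOf_dvd_iff_zpow_eq_one, hord] at e
    have h3 := Int.natAbs_dvd_natAbs.2 e
    rw [Int.natAbs_natCast] at h3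
    have := Nat.le_of_dvd (Int.natAbs_pos.2 h1) h3
    omega
  have hcomm : ∀ x, hT * Psi g ok x = Psi g ok x * hT := by
    intro x
    have := Psi_mem g ok (Subgroup.centralizer {hT}) (fun b i j hij t => ?_) x
    · exact (Subgroup.mem_centralizer_singleton_iff.1 this).symm
    rw [Subgroup.mem_centralizer_singleton_iff]
    obtain ⟨a1, a2, -⟩ := rt_spec ok b i.2 j.2 (fun e => hij (Fin.ext e))
    have e := tor_conj_xG g.toGood c a1 t (x := hT) rfl
    rw [hwt, (torus_spec ok a1).1 a2, zpow_zero, Units.val_one, one_mul, mul_inv_eq_iff_eq_mul] at e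
    exact e.symm
  have hnh : nW0 F g.toGood C.L * hT * (nW0 F g.toGood C.L)⁻¹ = hT⁻¹ :=
    Subtype.ext (nW_tor g ξ ok)
  obtain ⟨m, hm, hflip⟩ := flip_regular (F := F) g ok
  refine ⟨{
    r := C.chains.length
    kk := C.kk
    Ψ := Psi g ok
    UP := (genS g.toGood F (bset T (C.outP T))).subgroupOf _
    VP := (genS g.toGood F (bset T (C.outN T))).subgroupOf _
    h := hT
    h_comm := hcomm
    h_pow := ?_
    split_U := split_U g ok
    split_V := split_V g ok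
    conj_UP := conj_UP g ok
    conj_VP := conj_VP g ok
    h_UP := fun p hp => tor_norm_sub g.toGood ⟨c, rfl⟩ hp
    h_VP := fun p hp => tor_norm_sub g.toGood ⟨c, rfl⟩ hp
    fix_UP := fun p hp e => Subtype.ext (fixed_pos g c hout hp (congrArg Subtype.val e))
    fix_VP := ?_
    surj := surj g ok c
    flip := ⟨m, hm, ?_⟩ }⟩
  · apply Subtype.ext
    show tor T F c ^ (Fintype.card F - 1) = 1
    rw [← map_pow, ← map_one (tor T F)]
    congr 1
    funext j
    rw [Pi.pow_apply, Pi.one_apply, ← hord]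
    show (ξ ^ C.lam.getD j 0) ^ orderOf ξ = 1
    rw [← zpow_natCast, ← _root_.zpow_mul, mul_comm,
      _root_.zpow_mul, zpow_natCast, pow_orderOf_eq_one, _root_.one_zpow]
  · intro p hp e
    have hq : nWd g.toGood F C.L * p.1 * (nWd g.toGood F C.L)⁻¹ ∈ genS g.toGood F (bset T (C.outP T)) := by
      refine genS_mono g.toGood ?_ ((genS_map_nWd g.toGood (weyl_spec ok).1
        (fun r hr => hr.1)).le (Subgroup.mem_map_of_mem _ hp))
      rintro _ ⟨s, ⟨hs, ho⟩, rfl⟩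
      simp only [Cfg.outN, Bool.and_eq_true, nat_blt] at ho
      obtain ⟨-, -, h2, h3⟩ := (weyl_spec ok).2 s hs
      refine ⟨rw'_lt g.toGood (weyl_spec ok).1 hs, ?_⟩
      simp [Cfg.outP, nat_ble.2 (h2 ho.1), h3, ho.2]
    set n := nW0 F g.toGood C.L with hn
    have e' : hT * (n * p * n⁻¹) = (n * p * n⁻¹) * hT := by
      have h1 : Commute (n * p * n⁻¹) (n * hT * n⁻¹) := by
        rw [Commute, SemiconjBy, show n * p * n⁻¹ * (n * hT * n⁻¹) = n * (p * hT) * n⁻¹ by group,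
          show n * hT * n⁻¹ * (n * p * n⁻¹) = n * (hT * p) * n⁻¹ by group, e]
      rw [hnh] at h1
      have h2 := h1.inv_right
      rw [inv_inv] at h2
      exact h2.eq.symm
    have h0 := fixed_pos g c hout hq (congrArg Subtype.val e')
    exact Subtype.ext (conj_eq_one_iff.1 h0)
  · refine (isConj_iff.2 ⟨nW0 F g.toGood C.L, ?_⟩).symm
    rw [← hflip, ← hnh]
    group

end Cfsg.Agent.ClassSquare.Chev
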