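/-
The Chevalley groups of type G2, F4, E6, E7, E8 over fields with at least nine elements are squares of classes.
-/
import Cfsg.Agent.Lib.ClassSquare.ChevFlip
import Cfsg.Agent.Lib.Lie.ChevSimple

set_option autoImplicit false
set_option maxRecDepth 8000

namespace Cfsg.Agent.ClassSquare.Chev

open Cfsg.Lie Cfsg.Agent.Chev Cfsg.Agent.Chev.Tab

universe v

/-- repeated word -/
def rep (l : List ℕ) (k : ℕ) : List ℕ := (List.replicate k l).flatten

/-- certificate for `G₂` -/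
def cG2 : Cfg := ⟨[1, 2], [[0]], [[0, 1]], rep [0, 1] 3⟩

/-- certificate for `F₄` -/
def cF4 : Cfg := ⟨[2, 4, 6, 3], [[0, 1], [3]], [[0, 0, -2, 0], [0, 0, 3, 0]], rep [0, 2, 1, 3] 6⟩

/-- certificate for `E₆` -/
def cE6 : Cfg := ⟨[3, 4, 6, 8, 6, 3], [[0], [1, 3], [5]],
  [[0, 0, 3, 0, 0, 0], [0, 0, -2, 0, 0, 0], [0, 0, 0, 0, 3, 0]], rep [0, 3, 5, 1, 2, 4] 6⟩

/-- certificate for `E₇` -/
def cE7 : Cfg := ⟨[4, 7, 8, 12, 9, 6, 3], [[0, 2, 3, 4, 5, 6]], [[0, 2, 0, 0, 0, 0, 0]],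
  rep [0, 3, 5, 1, 2, 4, 6] 9⟩

/-- certificate for `E₈` -/
def cE8 : Cfg := ⟨[5, 8, 10, 15, 12, 9, 6, 3], [[0, 2, 3, 4, 5, 6, 7]], [[0, -3, 0, 0, 0, 0, 0, 0]],
  rep [0, 3, 5, 7, 1, 2, 4, 6] 15⟩

/-- A checked table, with a certificate. -/
structure Pack (D : ChevalleyDatum) : Prop where
  ex : ∃ T : Tab, ∃ K W, ∃ C : Cfg, T.GoodW K W ∧ T.checkPerf2 = true ∧ C.Ok T ∧ 0 < T.l ∧ T.D = D

set_option maxHeartbeats 2000000 in
theorem pack {D : ChevalleyDatum} (hD : D ∈ [chevG2, chevF4, chevE6, chevE7, chevE8]) : Pack D := by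
  simp only [List.mem_cons, List.not_mem_nil, or_false] at hD
  rcases hD with rfl | rfl | rfl | rfl | rfl
  · exact ⟨_, [[2, 3], [1, 2]], [(0, 9, 1), (0, 8, 2)], cG2,
      ⟨⟨⟨G2Data.good, by decide +kernel⟩, by decide +kernel⟩, by decide +kernel⟩, by decide +kernel,
      ⟨by decide +kernel, by decide +kernel, by decide +kernel, by decide +kernel, by decide +kernel,
        by decide +kernel, by decide +kernel⟩, by decide +kernel, rfl⟩
  · exact ⟨_, [[2, 3, 4, 2], [3, 6, 8, 4], [2, 4, 6, 3], [1, 2, 3, 2]],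
      [(7, 44, 0), (3, 45, 0), (0, 39, 1), (1, 47, 0)], cF4,
      ⟨⟨⟨F4Data.good, by decide +kernel⟩, by decide +kernel⟩, by decide +kernel⟩, by decide +kernel,
      ⟨by decide +kernel, by decide +kernel, by decide +kernel, by decide +kernel, by decide +kernel,
        by decide +kernel, by decide +kernel⟩, by decide +kernel, rfl⟩
  · exact ⟨_, [[4, 3, 5, 6, 4, 2], [3, 6, 6, 9, 6, 3], [5, 6, 10, 12, 8, 4], [6, 9, 12, 18, 12, 6],
        [4, 6, 8, 12, 10, 5], [2, 3, 4, 6, 5, 4]],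
      [(16, 66, 0), (1, 71, 0), (5, 69, 0), (2, 70, 0), (3, 69, 0), (4, 68, 0)], cE6,
      ⟨⟨⟨E6Data.good, by decide +kernel⟩, by decide +kernel⟩, by decide +kernel⟩, by decide +kernel,
      ⟨by decide +kernel, by decide +kernel, by decide +kernel, by decide +kernel, by decide +kernel,
        by decide +kernel, by decide +kernel⟩, by decide +kernel, rfl⟩
  · exact ⟨_, [[4, 4, 6, 8, 6, 4, 2], [4, 7, 8, 12, 9, 6, 3], [6, 8, 12, 16, 12, 8, 4], [8, 12, 16, 24, 18, 12, 6],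
        [6, 9, 12, 18, 15, 10, 5], [4, 6, 8, 12, 10, 8, 4], [2, 3, 4, 6, 5, 4, 3]],
      [(1, 125, 0), (7, 122, 0), (2, 124, 0), (3, 123, 0), (4, 122, 0), (5, 121, 0), (6, 120, 0)], cE7,
      ⟨⟨⟨E7Data.good, by decide +kernel⟩, by decide +kernel⟩, by decide +kernel⟩, by decide +kernel,
      ⟨by decide +kernel, by decide +kernel, by decide +kernel, by decide +kernel, by decide +kernel,
        by decide +kernel, by decide +kernel⟩, by decide +kernel, rfl⟩
  · exact ⟨_, [[4, 5, 7, 10, 8, 6, 4, 2], [5, 8, 10, 15, 12, 9, 6, 3], [7, 10, 14, 20, 16, 12, 8, 4],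
        [10, 15, 20, 30, 24, 18, 12, 6], [8, 12, 16, 24, 20, 15, 10, 5], [6, 9, 12, 18, 15, 12, 8, 4],
        [4, 6, 8, 12, 10, 8, 6, 3], [2, 3, 4, 6, 5, 4, 3, 2]],
      [(14, 233, 0), (7, 234, 0), (6, 234, 0), (5, 235, 0), (4, 236, 0), (3, 237, 0), (2, 238, 0), (1, 239, 0)],
      cE8,
      ⟨⟨⟨E8Data.good, by decide +kernel⟩, by decide +kernel⟩, by decide +kernel⟩, by decide +kernel,
      ⟨by decide +kernel, by decide +kernel, by decide +kernel, by decide +kernel, by decide +kernel,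
        by decide +kernel, by decide +kernel⟩, by decide +kernel, rfl⟩

/-- **Thompson's class square property for the tabulated groups.** -/
theorem class_square {F : Type v} [Field F] [Fintype F] (hF : 9 ≤ Fintype.card F) {D : ChevalleyDatum}
    (hD : D ∈ [chevG2, chevF4, chevE6, chevE7, chevE8]) {H : Type*} [Group H] (e : H ≃* ↥(D.group F)) :
    ∃ c : H, ∀ g : H, ∃ x y : H, g = (x * c * x⁻¹) * (y * c * y⁻¹) := by
  obtain ⟨T, K, W, C, g, hp2, ok, hl, rfl⟩ := (pack hD).ex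
  obtain ⟨L⟩ := exists_leviData g ok (F := F) hF
  have gS : T.GoodS := ⟨g.toGoodA, hp2, ok.conn⟩
  obtain ⟨a, ha0, ha1⟩ : ∃ a : F, a ≠ 0 ∧ a ≠ 1 := by
    classical
    obtain ⟨a, -, ha⟩ := Finset.exists_mem_notMem_of_card_lt_card (s := ({0, 1} : Finset F)) (t := Finset.univ)
      (lt_of_le_of_lt Finset.card_le_two (by rw [Finset.card_univ]; omega))
    simp only [Finset.mem_insert, Finset.mem_singleton, not_or] at ha
    exact ⟨a, ha⟩
  obtain ⟨hs, hnc⟩ := group_simple (F := F) gS (Or.inr ⟨a, ha0, ha1⟩)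
  have hZ : Subgroup.center ↥(T.D.group F) = ⊥ := by
    rcases hs.eq_bot_or_eq_top_of_normal (Subgroup.center ↥(T.D.group F)) inferInstance with h | h
    · exact h
    · refine absurd ⟨⟨fun x y => ?_⟩⟩ hnc
      exact (Subgroup.mem_center_iff.1 (show y ∈ Subgroup.center ↥(T.D.group F) by rw [h]; trivial) x)
  haveI : Nonempty (Fin T.l) := ⟨⟨0, hl⟩⟩
  refine L.class_square hF (e.trans ?_)
  exact (QuotientGroup.quotientBot (G := ↥(T.D.group F))).symm.trans (QuotientGroup.quotientMulEquivOfEq hZ.symm)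

end Cfsg.Agent.ClassSquare.Chev
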