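/-
Rank one data and parabolic data of a matrix group given by gradings of the index set.
-/
import Cfsg.Agent.Lib.ClassSquare.Levi

set_option autoImplicit false
set_option linter.style.haveILetI false

namespace Cfsg.Agent.ClassSquare.Mat

open Cfsg.Agent.SL2Pres (up low)
open Matrix (SpecialLinearGroup)

universe u v w z

variable {F : Type v} [Field F] {I : Type z} [Fintype I] [DecidableEq I]

/-- block upper unitriangular -/
def BU (f : I → ℕ) (M : Matrix I I F) : Prop := ∀ a b, f b ≤ f a → M a b = (1 : Matrix I I F) a b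

/-- block lower unitriangular -/
def BL (f : I → ℕ) (M : Matrix I I F) : Prop := ∀ a b, f a ≤ f b → M a b = (1 : Matrix I I F) a b

/-- block diagonal -/
def BD (f : I → ℕ) (M : Matrix I I F) : Prop := ∀ a b, f a ≠ f b → M a b = 0

theorem BU.mul {f : I → ℕ} {M M' : Matrix I I F} (h : BU f M) (h' : BU f M') : BU f (M * M') := by
  intro a b hab
  rw [Matrix.mul_apply, Finset.sum_eq_single a]
  · rw [h a a le_rfl, Matrix.one_apply_eq, one_mul, h' a b hab]
  · intro c _ hne
    by_cases hc : f c ≤ f a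
    · rw [h a c hc, Matrix.one_apply_ne (Ne.symm hne), zero_mul]
    · rw [h' c b (by omega), Matrix.one_apply_ne (fun e => by subst e; omega), mul_zero]
  · simp

theorem BL.mul {f : I → ℕ} {M M' : Matrix I I F} (h : BL f M) (h' : BL f M') : BL f (M * M') := by
  intro a b hab
  rw [Matrix.mul_apply, Finset.sum_eq_single a]
  · rw [h a a le_rfl, Matrix.one_apply_eq, one_mul, h' a b hab]
  · intro c _ hne
    by_cases hc : f a ≤ f c
    · rw [h a c hc, Matrix.one_apply_ne (Ne.symm hne), zero_mul]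
    · rw [h' c b (by omega), Matrix.one_apply_ne (fun e => by subst e; omega), mul_zero]
  · simp

omit [DecidableEq I] in
theorem BD.mul {f : I → ℕ} {M M' : Matrix I I F} (h : BD f M) (h' : BD f M') : BD f (M * M') := by
  intro a b hab
  rw [Matrix.mul_apply]
  refine Finset.sum_eq_zero fun c _ => ?_
  by_cases hc : f a = f c
  · rw [h' c b (hc ▸ hab), mul_zero]
  · rw [h a c hc, zero_mul]

theorem BD.diagonal {f : I → ℕ} (d : I → F) : BD f (Matrix.diagonal d) :=
  fun _ _ h => Matrix.diagonal_apply_ne _ fun e => h (congrArg f e)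

/-- Conjugation by block diagonal matrices. -/
theorem BU.conj {f : I → ℕ} {X Y M : Matrix I I F} (hX : BD f X) (hY : BD f Y) (hXY : X * Y = 1)
    (hM : BU f M) : BU f (X * M * Y) := by
  intro a b hab
  have e : X * M * Y = 1 + X * (M - 1) * Y := by
    rw [mul_sub, sub_mul, mul_one, hXY, add_sub_cancel]
  rw [e, Matrix.add_apply, add_eq_left, Matrix.mul_apply]
  refine Finset.sum_eq_zero fun d _ => ?_
  by_cases hd : f d = f b
  swap
  · rw [hY d b hd, mul_zero]
  rw [Matrix.mul_apply, Finset.sum_eq_zero, zero_mul]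
  intro c _
  by_cases hc : f a = f c
  swap
  · rw [hX a c hc, zero_mul]
  rw [Matrix.sub_apply, hM c d (by omega), sub_self, mul_zero]

/-- Conjugation by block diagonal matrices. -/
theorem BL.conj {f : I → ℕ} {X Y M : Matrix I I F} (hX : BD f X) (hY : BD f Y) (hXY : X * Y = 1)
    (hM : BL f M) : BL f (X * M * Y) := by
  intro a b hab
  have e : X * M * Y = 1 + X * (M - 1) * Y := by
    rw [mul_sub, sub_mul, mul_one, hXY, add_sub_cancel]
  rw [e, Matrix.add_apply, add_eq_left, Matrix.mul_apply]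
  refine Finset.sum_eq_zero fun d _ => ?_
  by_cases hd : f d = f b
  swap
  · rw [hY d b hd, mul_zero]
  rw [Matrix.mul_apply, Finset.sum_eq_zero, zero_mul]
  intro c _
  by_cases hc : f a = f c
  swap
  · rw [hX a c hc, zero_mul]
  rw [Matrix.sub_apply, hM c d (by omega), sub_self, mul_zero]

theorem BU.eq_one {f : I → ℕ} {M : Matrix I I F} (h : BU f M) (h0 : ∀ a b, f a < f b → M a b = 0) : M = 1 := by
  ext a b
  by_cases hab : f b ≤ f a
  · exact h a b hab
  · rw [h0 a b (by omega), Matrix.one_apply_ne]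
    intro e; subst e; omega

theorem BL.eq_one {f : I → ℕ} {M : Matrix I I F} (h : BL f M) (h0 : ∀ a b, f b < f a → M a b = 0) : M = 1 := by
  ext a b
  by_cases hab : f a ≤ f b
  · exact h a b hab
  · rw [h0 a b (by omega), Matrix.one_apply_ne]
    intro e; subst e; omega

/-- Blocks of `X * u` when `X` is block diagonal and `u` is upper. -/
theorem BD.mul_low {f : I → ℕ} {X u : Matrix I I F} (hX : BD f X) (hu : ∀ a b, f b < f a → u a b = 0) {a b : I}
    (hab : f b < f a) : (X * u) a b = 0 := by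
  rw [Matrix.mul_apply]
  refine Finset.sum_eq_zero fun c _ => ?_
  by_cases hc : f a = f c
  · rw [hu c b (by omega), mul_zero]
  · rw [hX a c hc, zero_mul]

/-- An adjacent entry of the inverse. -/
theorem BU.inv_adjacent {f : I → ℕ} {u u' : Matrix I I F} (hu : BU f u) (hu' : BU f u') (h : u * u' = 1) {a b : I}
    (hab : f a < f b) (hgap : ∀ c, c ≠ a → c ≠ b → ¬(f a < f c ∧ f c < f b)) : u' a b = -u a b := by
  have e := congrFun (congrFun h a) b
  rw [Matrix.mul_apply, Matrix.one_apply_ne (fun e => by subst e; omega)] at e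
  have hne : a ≠ b := fun e => by subst e; omega
  rw [Finset.sum_eq_add (a : I) b hne] at e
  · rw [hu a a le_rfl, hu' b b le_rfl, Matrix.one_apply_eq, Matrix.one_apply_eq, one_mul, mul_one] at e
    exact eq_neg_of_add_eq_zero_left e
  · intro c _ hc
    by_cases h1 : f c ≤ f a
    · rw [hu a c h1, Matrix.one_apply_ne (Ne.symm hc.1), zero_mul]
    · by_cases h2 : f b ≤ f c
      · rw [hu' c b h2, Matrix.one_apply_ne hc.2, mul_zero]
      · exact absurd ⟨not_le.1 h1, not_le.1 h2⟩ (hgap c hc.1 hc.2)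
  · exact fun h => absurd (Finset.mem_univ _) h
  · exact fun h => absurd (Finset.mem_univ _) h

section sub

variable {G : Type u} [Group G] [Finite G] (ρ : G →* Matrix I I F)

theorem inv_mem_of_finite {p : G → Prop} (h1 : p 1) (hm : ∀ a b, p a → p b → p (a * b)) {a : G} (ha : p a) :
    p a⁻¹ := by
  have hk : ∀ k : ℕ, p (a ^ k) := fun k => by
    induction k with
    | zero => rw [pow_zero]; exact h1
    | succ k ih => rw [pow_succ]; exact hm _ _ ih ha
  have e : a ^ (orderOf a - 1) = a⁻¹ := eq_inv_of_mul_eq_one_left (by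
    rw [← pow_succ, Nat.sub_add_cancel (orderOf_pos a), pow_orderOf_eq_one])
  exact e ▸ hk _

/-- block upper unitriangular elements -/
def buSub (f : I → ℕ) : Subgroup G where
  carrier := {g | BU f (ρ g)}
  one_mem' := fun a b _ => by rw [map_one]
  mul_mem' {a b} ha hb := by
    show BU f (ρ (a * b))
    rw [map_mul]; exact BU.mul ha hb
  inv_mem' {a} ha := inv_mem_of_finite (p := fun g => BU f (ρ g)) (fun a b _ => by rw [map_one])
    (fun a b ha hb => by rw [map_mul]; exact BU.mul ha hb) ha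

/-- block lower unitriangular elements -/
def blSub (f : I → ℕ) : Subgroup G where
  carrier := {g | BL f (ρ g)}
  one_mem' := fun a b _ => by rw [map_one]
  mul_mem' {a b} ha hb := by
    show BL f (ρ (a * b))
    rw [map_mul]; exact BL.mul ha hb
  inv_mem' {a} ha := inv_mem_of_finite (p := fun g => BL f (ρ g)) (fun a b _ => by rw [map_one])
    (fun a b ha hb => by rw [map_mul]; exact BL.mul ha hb) ha

theorem mem_buSub {f : I → ℕ} {g : G} : g ∈ buSub ρ f ↔ BU f (ρ g) := Iff.rfl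

theorem mem_blSub {f : I → ℕ} {g : G} : g ∈ blSub ρ f ↔ BL f (ρ g) := Iff.rfl

end sub

/-- The monomial elements from the rank one subgroups. -/
def nMon {G : Type u} [Group G] {ι : Type w} (φ : ι → SpecialLinearGroup (Fin 2) F →* G) : Submonoid G :=
  Submonoid.closure (Set.range fun i => φ i (up 1 * low (-1) * up 1))

/-- A group of matrices with rank one subgroups adapted to gradings of the index set. -/
structure MatDatum (G : Type u) [Group G] (F : Type v) [Field F] (ι : Type w) [Fintype ι] (I : Type z)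
    [Fintype I] [DecidableEq I] where
  ρ : G →* Matrix I I F
  ρ_inj : Function.Injective ρ
  pos : I → ℕ
  φ : ι → SpecialLinearGroup (Fin 2) F →* G
  blk : ι → I → ℕ
  blk_mono : ∀ i a b, blk i b < blk i a → pos b ≤ pos a
  w : ι → I → ℤ
  p : ι → I
  q : ι → I
  pq : ∀ i, blk i (p i) = blk i (q i)
  φ_dg : ∀ i (c : Fˣ), ρ (φ i (dg c)) = Matrix.diagonal fun a => ((c ^ w i a : Fˣ) : F)
  φ_bd : ∀ i x, BD (blk i) (ρ (φ i x))
  φ_up : ∀ i t, BU pos (ρ (φ i (up t))) ∧ ρ (φ i (up t)) (p i) (q i) = t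
  /-- the coordinate of the lower root subgroup -/
  sc : ι → Fˣ
  φ_low : ∀ i t, BL pos (ρ (φ i (low t))) ∧ ρ (φ i (low t)) (q i) (p i) = sc i * t
  splitU : ∀ i g, BU pos (ρ g) → ∀ a b, blk i a = blk i b →
    ρ g a b = ρ (φ i (up (ρ g (p i) (q i)))) a b
  splitV : ∀ i g, BL pos (ρ g) → ∀ a b, blk i a = blk i b →
    ρ g a b = ρ (φ i (low (((sc i)⁻¹ : Fˣ) * ρ g (q i) (p i)))) a b
  sub_U : ∀ i g, BU (blk i) (ρ g) → BU pos (ρ g)
  sub_V : ∀ i g, BL (blk i) (ρ g) → BL pos (ρ g)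
  A_self : ∀ i, w i (p i) - w i (q i) = 2
  A_sum : ∀ i, (∑ j, (w i (p j) - w i (q j)).natAbs) ≤ 6
  connected : ∀ S : Set ι, S.Nonempty → S ≠ Set.univ → ∃ i ∈ S, ∃ j ∉ S, w i (p j) - w i (q j) ≠ 0
  gen : Subgroup.closure (⋃ i, (φ i).range : Set G) = ⊤
  E : Set I
  top : I
  bot : I
  bot_nE : bot ∉ E
  top_le : ∀ a, pos top ≤ pos a
  le_bot : ∀ a, pos a ≤ pos bot
  orbit : ∀ a ∉ E, ∃ x ∈ nMon φ, ∃ c : F, c ≠ 0 ∧ ∀ b, ρ x b top = if b = a then c else 0
  rigid : ∀ g, (∀ a ∉ E, ∀ b, ρ g b a = (1 : Matrix I I F) b a) → (BU pos (ρ g) ∨ BL pos (ρ g)) → g = 1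

namespace MatDatum

variable {G : Type u} [Group G] [Finite G] {ι : Type w} [Fintype ι] (D : MatDatum G F ι I)

theorem ρ_mul_inv (g : G) : D.ρ g * D.ρ g⁻¹ = 1 := by rw [← map_mul, mul_inv_cancel, map_one]

theorem ρ_inv_mul (g : G) : D.ρ g⁻¹ * D.ρ g = 1 := by rw [← map_mul, inv_mul_cancel, map_one]

/-- the torus -/
def tor : Subgroup G := Subgroup.closure (Set.range fun x : ι × Fˣ => D.φ x.1 (dg x.2))

theorem tor_diag {t : G} (ht : t ∈ D.tor) : ∃ d : I → Fˣ, D.ρ t = Matrix.diagonal fun a => (d a : F) := by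
  induction ht using Subgroup.closure_induction_left with
  | one => exact ⟨1, by rw [map_one]; simp⟩
  | mul_left x hx y _ hy =>
    obtain ⟨⟨i, c⟩, rfl⟩ := hx
    obtain ⟨d, hd⟩ := hy
    exact ⟨fun a => c ^ D.w i a * d a, by rw [map_mul, hd, D.φ_dg, Matrix.diagonal_mul_diagonal]; simp⟩
  | inv_mul_cancel x hx y _ hy =>
    obtain ⟨⟨i, c⟩, rfl⟩ := hx
    obtain ⟨d, hd⟩ := hy
    refine ⟨fun a => (c⁻¹) ^ D.w i a * d a, ?_⟩
    rw [map_mul, hd, ← map_inv, ← map_inv, D.φ_dg, Matrix.diagonal_mul_diagonal]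
    simp

theorem tor_bd {t : G} (ht : t ∈ D.tor) (f : I → ℕ) : BD f (D.ρ t) := by
  obtain ⟨d, hd⟩ := D.tor_diag ht
  rw [hd]; exact BD.diagonal _

/-- the root character -/
noncomputable def wt (i : ι) (t : G) : Fˣ := by
  classical
  exact if h : D.ρ t (D.p i) (D.p i) ≠ 0 ∧ D.ρ t (D.q i) (D.q i) ≠ 0 then
    Units.mk0 _ h.1 / Units.mk0 _ h.2 else 1

theorem wt_diag (i : ι) {t : G} {d : I → Fˣ} (hd : D.ρ t = Matrix.diagonal fun a => (d a : F)) :
    D.wt i t = d (D.p i) / d (D.q i) := by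
  have e : ∀ a, D.ρ t a a = (d a : F) := fun a => by rw [hd, Matrix.diagonal_apply_eq]
  rw [wt, dif_pos ⟨by rw [e]; exact Units.ne_zero _, by rw [e]; exact Units.ne_zero _⟩]
  congr 1 <;> exact Units.ext (e _)

theorem mem_top_col {u : G} (hu : BU D.pos (D.ρ u)) (b : I) : D.ρ u b D.top = (1 : Matrix I I F) b D.top :=
  hu b D.top (D.top_le b)

theorem mem_bot_col {u : G} (hu : BL D.pos (D.ρ u)) (b : I) : D.ρ u b D.bot = (1 : Matrix I I F) b D.bot :=
  hu b D.bot (D.le_bot b)

theorem nMon_inv {x : G} (hx : x ∈ nMon D.φ) : x⁻¹ ∈ nMon D.φ :=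
  inv_mem_of_finite (p := fun g => g ∈ nMon D.φ) (one_mem _) (fun _ _ ha hb => mul_mem ha hb) hx

omit [Finite G] in
/-- A matrix fixing the basis vector at `s` transported by a monomial element. -/
theorem col_transport {u y : G} {s a : I} {c : F} (hc : c ≠ 0) (hy : ∀ b, D.ρ y b s = if b = a then c else 0)
    (hu : ∀ b, D.ρ (y⁻¹ * u * y) b s = (1 : Matrix I I F) b s) (b : I) :
    D.ρ u b a = (1 : Matrix I I F) b a := by
  have e : (D.ρ u * D.ρ y) b s = D.ρ y b s := by
    rw [← map_mul, show u * y = y * (y⁻¹ * u * y) by group, map_mul, Matrix.mul_apply,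
      Finset.sum_eq_single s]
    · rw [hu, Matrix.one_apply_eq, mul_one]
    · intro d _ hd
      rw [hu, Matrix.one_apply_ne hd, mul_zero]
    · simp
  rw [Matrix.mul_apply, Finset.sum_eq_single a, hy, if_pos rfl, hy] at e
  · by_cases hb : b = a
    · subst hb
      rw [if_pos rfl] at e
      rw [Matrix.one_apply_eq]
      exact mul_right_cancel₀ hc (e.trans (one_mul c).symm)
    · rw [if_neg hb] at e
      rw [Matrix.one_apply_ne hb]
      exact (mul_eq_zero.1 e).resolve_right hc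
  · intro d _ hd
    rw [hy, if_neg hd, mul_zero]
  · simp

theorem orbit_bot (a : I) (ha : a ∉ D.E) :
    ∃ x ∈ nMon D.φ, ∃ c : F, c ≠ 0 ∧ ∀ b, D.ρ x b D.bot = if b = a then c else 0 := by
  obtain ⟨x, hx, c, hc, hxa⟩ := D.orbit a ha
  obtain ⟨y, hy, c', hc', hyb⟩ := D.orbit D.bot D.bot_nE
  refine ⟨x * y⁻¹, mul_mem hx (D.nMon_inv hy), c * c'⁻¹, mul_ne_zero hc (inv_ne_zero hc'), fun b => ?_⟩
  have hinv : ∀ d, D.ρ y⁻¹ d D.bot = if d = D.top then c'⁻¹ else 0 := by
    intro d
    have e : (D.ρ y⁻¹ * D.ρ y) d D.top = D.ρ y⁻¹ d D.bot * c' := by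
      rw [Matrix.mul_apply, Finset.sum_eq_single D.bot, hyb, if_pos rfl]
      · intro k _ hk
        rw [hyb, if_neg hk, mul_zero]
      · simp
    rw [D.ρ_inv_mul, Matrix.one_apply] at e
    split_ifs at e ⊢ with h
    · exact eq_inv_of_mul_eq_one_left e.symm
    · exact (mul_eq_zero.1 e.symm).resolve_right hc'
  rw [map_mul, Matrix.mul_apply, Finset.sum_eq_single D.top, hinv, if_pos rfl, hxa]
  · split_ifs with h
    · rfl
    · rw [zero_mul]
  · intro d _ hd
    rw [hinv, if_neg hd, mul_zero]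
  · simp

/-- **The rank one data.** -/
noncomputable def toDatum : Datum G F ι where
  φ := D.φ
  U := buSub D.ρ D.pos
  V := blSub D.ρ D.pos
  T := D.tor
  Uc i := buSub D.ρ (D.blk i)
  Vc i := blSub D.ρ (D.blk i)
  α := D.wt
  A j i := D.w i (D.p j) - D.w i (D.q j)
  up_mem i a := (D.φ_up i a).1
  low_mem i a := (D.φ_low i a).1
  Uc_le i _ hg := D.sub_U i _ hg
  Vc_le i _ hg := D.sub_V i _ hg
  split_U i u hu := by
    set a := D.ρ u (D.p i) (D.q i)
    refine ⟨a, (D.φ i (up a))⁻¹ * u, ?_, by rw [mul_inv_cancel_left]⟩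
    intro x y hxy
    rw [← map_inv, map_mul]
    rcases lt_or_eq_of_le hxy with hlt | heq
    · rw [Matrix.one_apply_ne (fun e => by subst e; omega)]
      exact (D.φ_bd i _).mul_low (fun c d hcd => by
        rw [hu c d (D.blk_mono i c d hcd), Matrix.one_apply_ne (fun e => by subst e; omega)]) hlt
    · rw [Matrix.mul_apply, ← D.ρ_inv_mul (D.φ i (up a)), Matrix.mul_apply, ← map_inv]
      refine Finset.sum_congr rfl fun c _ => ?_
      by_cases hc : D.blk i x = D.blk i c
      · rw [D.splitU i u hu c y (by omega)]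
      · rw [D.φ_bd i _ x c hc, zero_mul, zero_mul]
  split_V i u hu := by
    set a := (((D.sc i)⁻¹ : Fˣ) : F) * D.ρ u (D.q i) (D.p i)
    refine ⟨a, (D.φ i (low a))⁻¹ * u, ?_, by rw [mul_inv_cancel_left]⟩
    intro x y hxy
    rw [← map_inv, map_mul]
    rcases lt_or_eq_of_le hxy with hlt | heq
    · rw [Matrix.one_apply_ne (fun e => by subst e; omega), Matrix.mul_apply]
      refine Finset.sum_eq_zero fun c _ => ?_
      by_cases hc : D.blk i x = D.blk i c
      · rw [hu c y (D.blk_mono i y c (by omega)), Matrix.one_apply_ne (fun e => by subst e; omega), mul_zero]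
      · rw [D.φ_bd i _ x c hc, zero_mul]
    · rw [Matrix.mul_apply, ← D.ρ_inv_mul (D.φ i (low a)), Matrix.mul_apply, ← map_inv]
      refine Finset.sum_congr rfl fun c _ => ?_
      by_cases hc : D.blk i x = D.blk i c
      · rw [D.splitV i u hu c y (by omega)]
      · rw [D.φ_bd i _ x c hc, zero_mul, zero_mul]
  conj_Uc i x u hu := by
    show BU _ (D.ρ (D.φ i x * u * (D.φ i x)⁻¹))
    rw [map_mul, map_mul]
    exact BU.conj (D.φ_bd i x) (by rw [← map_inv]; exact D.φ_bd i x⁻¹) (D.ρ_mul_inv _) hu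
  conj_Vc i x u hu := by
    show BL _ (D.ρ (D.φ i x * u * (D.φ i x)⁻¹))
    rw [map_mul, map_mul]
    exact BL.conj (D.φ_bd i x) (by rw [← map_inv]; exact D.φ_bd i x⁻¹) (D.ρ_mul_inv _) hu
  T_Uc i t ht u hu := by
    show BU _ (D.ρ (t * u * t⁻¹))
    rw [map_mul, map_mul]
    exact BU.conj (D.tor_bd ht _) (D.tor_bd (inv_mem ht) _) (D.ρ_mul_inv _) hu
  T_Vc i t ht u hu := by
    show BL _ (D.ρ (t * u * t⁻¹))
    rw [map_mul, map_mul]
    exact BL.conj (D.tor_bd ht _) (D.tor_bd (inv_mem ht) _) (D.ρ_mul_inv _) hu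
  T_comm s hs t ht := by
    obtain ⟨d, hd⟩ := D.tor_diag hs
    obtain ⟨e, he⟩ := D.tor_diag ht
    apply D.ρ_inj
    rw [map_mul, map_mul, hd, he, Matrix.diagonal_mul_diagonal, Matrix.diagonal_mul_diagonal]
    simp [mul_comm]
  T_eq := rfl
  conj_up i t ht a := by
    obtain ⟨d, hd⟩ := D.tor_diag ht
    obtain ⟨e, he⟩ := D.tor_diag (inv_mem ht)
    set X := t * D.φ i (up a) * t⁻¹ with hX
    have hU : BU D.pos (D.ρ X) := by
      rw [hX, map_mul, map_mul]
      exact BU.conj (D.tor_bd ht _) (D.tor_bd (inv_mem ht) _) (D.ρ_mul_inv _) (D.φ_up i a).1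
    have hBD : BD (D.blk i) (D.ρ X) := by
      rw [hX, map_mul, map_mul]
      exact ((D.tor_bd ht _).mul (D.φ_bd i _)).mul (D.tor_bd (inv_mem ht) _)
    have hde : ∀ b, (d b : F) * e b = 1 := fun b => by
      have := congrFun (congrFun (D.ρ_mul_inv t) b) b
      rwa [hd, he, Matrix.diagonal_mul_diagonal, Matrix.diagonal_apply_eq, Matrix.one_apply_eq] at this
    have hent : D.ρ X (D.p i) (D.q i) = (D.wt i t : F) * a := by
      rw [hX, map_mul, map_mul, hd, he, Matrix.mul_diagonal, Matrix.diagonal_mul, (D.φ_up i a).2,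
        D.wt_diag i hd, Units.val_div_eq_div_val]
      rw [eq_inv_of_mul_eq_one_right (hde (D.q i)), div_eq_mul_inv]
      ring
    apply D.ρ_inj
    ext x y
    by_cases hxy : D.blk i x = D.blk i y
    · rw [D.splitU i X hU x y hxy, hent]
    · rw [hBD x y hxy, D.φ_bd i _ x y hxy]
  conj_low i t ht a := by
    obtain ⟨d, hd⟩ := D.tor_diag ht
    obtain ⟨e, he⟩ := D.tor_diag (inv_mem ht)
    set X := t * D.φ i (low a) * t⁻¹ with hX
    have hU : BL D.pos (D.ρ X) := by
      rw [hX, map_mul, map_mul]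
      exact BL.conj (D.tor_bd ht _) (D.tor_bd (inv_mem ht) _) (D.ρ_mul_inv _) (D.φ_low i a).1
    have hBD : BD (D.blk i) (D.ρ X) := by
      rw [hX, map_mul, map_mul]
      exact ((D.tor_bd ht _).mul (D.φ_bd i _)).mul (D.tor_bd (inv_mem ht) _)
    have hde : ∀ b, (d b : F) * e b = 1 := fun b => by
      have := congrFun (congrFun (D.ρ_mul_inv t) b) b
      rwa [hd, he, Matrix.diagonal_mul_diagonal, Matrix.diagonal_apply_eq, Matrix.one_apply_eq] at this
    have hent : (((D.sc i)⁻¹ : Fˣ) : F) * D.ρ X (D.q i) (D.p i) = (((D.wt i t)⁻¹ : Fˣ) : F) * a := by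
      rw [hX, map_mul, map_mul, hd, he, Matrix.mul_diagonal, Matrix.diagonal_mul, (D.φ_low i a).2,
        D.wt_diag i hd, inv_div, Units.val_div_eq_div_val]
      rw [eq_inv_of_mul_eq_one_right (hde (D.p i)), div_eq_mul_inv]
      linear_combination ((d (D.q i) : F) * a * (d (D.p i) : F)⁻¹) * (Units.inv_mul (D.sc i))
    apply D.ρ_inj
    ext x y
    by_cases hxy : D.blk i x = D.blk i y
    · rw [D.splitV i X hU x y hxy, hent]
    · rw [hBD x y hxy, D.φ_bd i _ x y hxy]
  α_mul i s hs t ht := by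
    obtain ⟨d, hd⟩ := D.tor_diag hs
    obtain ⟨e, he⟩ := D.tor_diag ht
    rw [D.wt_diag i hd, D.wt_diag i he, D.wt_diag i (d := d * e) (by
      rw [map_mul, hd, he, Matrix.diagonal_mul_diagonal]; simp), Pi.mul_apply, Pi.mul_apply, mul_div_mul_comm]
  α_dg i j c := by
    rw [D.wt_diag j (D.φ_dg i c), _root_.zpow_sub, div_eq_mul_inv]
  A_self := D.A_self
  A_sum := D.A_sum
  connected := D.connected
  gen := D.gen
  coreU u hu h := by
    refine D.rigid u (fun a ha b => ?_) (Or.inl hu)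
    obtain ⟨y, hy, c, hc, hya⟩ := D.orbit a ha
    refine D.col_transport hc hya (fun d => D.mem_top_col ?_ d) b
    have := h y⁻¹ (D.nMon_inv hy)
    rwa [inv_inv] at this
  coreV u hu h := by
    refine D.rigid u (fun a ha b => ?_) (Or.inr hu)
    obtain ⟨y, hy, c, hc, hya⟩ := D.orbit_bot a ha
    refine D.col_transport hc hya (fun d => D.mem_bot_col ?_ d) b
    have := h y⁻¹ (D.nMon_inv hy)
    rwa [inv_inv] at this

end MatDatum

/-- A parabolic subgroup with Levi part of type A of a matrix group. -/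
structure MatLevi {G : Type u} [Group G] {F : Type v} [Field F] {ι : Type w} [Fintype ι] {I : Type z}
    [Fintype I] [DecidableEq I] (D : MatDatum G F ι I) where
  r : ℕ
  kk : Fin r → ℕ
  Ψ : ((b : Fin r) → SpecialLinearGroup (Fin (kk b)) F) →* G
  lev : I → ℕ
  lev_mono : ∀ a b, lev b < lev a → D.pos b ≤ D.pos a
  hd : I → Fˣ
  hd_eq : ∀ a b, lev a = lev b → hd a = hd b
  hd_ne : ∀ a b, lev a ≠ lev b → hd a ≠ hd b
  h : G
  h_val : D.ρ h = Matrix.diagonal fun a => (hd a : F)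
  Ψ_bd : ∀ x, BD lev (D.ρ (Ψ x))
  sU : ∀ u, BU D.pos (D.ρ u) → ∃ x, (∀ b, StrictUpper ((x b).1 - 1)) ∧
    ∀ a b, lev a = lev b → D.ρ (Ψ x) a b = D.ρ u a b
  sV : ∀ u, BL D.pos (D.ρ u) → ∃ x, (∀ b, StrictUpper ((x b).1 - 1).transpose) ∧
    ∀ a b, lev a = lev b → D.ρ (Ψ x) a b = D.ρ u a b
  surj : ∀ d : Fin r → Fˣ, ∃ t : G, t * h = h * t ∧ ∃ (Dg : (b : Fin r) → GL (Fin (kk b)) F) (c : Fin r → F),
    (∀ b, c b ≠ 0 ∧ (Dg b).1.det = (d b : F) * c b ^ kk b) ∧
      ∀ x, t * Ψ x * t⁻¹ = Ψ fun b => conjSL (Dg b) (x b)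
  flip : ∃ m : (b : Fin r) → SpecialLinearGroup (Fin (kk b)) F, (∀ b, IsReg (m b).1) ∧
    IsConj (h⁻¹ * Ψ m) (h * Ψ fun b => jSL F (kk b))

variable {G : Type u} [Group G] [Finite G] [Fintype F] {ι : Type w} [Fintype ι] {D : MatDatum G F ι I}

/-- **The parabolic data.** -/
theorem MatLevi.exists_leviData (L : MatLevi D) : Nonempty (LeviData D.toDatum) := by
  have hcomm : ∀ x, L.h * L.Ψ x = L.Ψ x * L.h := fun x => by
    apply D.ρ_inj
    rw [map_mul, map_mul, L.h_val]
    ext a b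
    rw [Matrix.diagonal_mul, Matrix.mul_diagonal]
    by_cases hab : L.lev a = L.lev b
    · rw [L.hd_eq a b hab, mul_comm]
    · rw [L.Ψ_bd x a b hab, mul_zero, zero_mul]
  have hbd : ∀ x, BD L.lev (D.ρ (L.Ψ x)⁻¹) := fun x => by rw [← map_inv]; exact L.Ψ_bd x⁻¹
  have hbdh : BD L.lev (D.ρ L.h) := by rw [L.h_val]; exact BD.diagonal _
  have hbdh' : BD L.lev (D.ρ L.h⁻¹) := inv_mem_of_finite (p := fun g => BD L.lev (D.ρ g))
    (by rw [map_one, ← Matrix.diagonal_one]; exact BD.diagonal _)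
    (fun a b ha hb => by rw [map_mul]; exact ha.mul hb) hbdh
  have hfix : ∀ p, L.h * p = p * L.h → ∀ a b, L.lev a ≠ L.lev b → D.ρ p a b = 0 := by
    intro p e a b hab
    have e1 := congrFun (congrFun (congrArg D.ρ e) a) b
    rw [map_mul, map_mul, L.h_val, Matrix.diagonal_mul, Matrix.mul_diagonal] at e1
    have : ((L.hd a : F) - L.hd b) * D.ρ p a b = 0 := by linear_combination e1
    exact (mul_eq_zero.1 this).resolve_left (sub_ne_zero.2 fun h => L.hd_ne a b hab (Units.ext h))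
  refine ⟨{
    r := L.r
    kk := L.kk
    Ψ := L.Ψ
    UP := buSub D.ρ L.lev
    VP := blSub D.ρ L.lev
    h := L.h
    h_comm := hcomm
    h_pow := ?_
    split_U := ?_
    split_V := ?_
    conj_UP := fun x p hp => ?_
    conj_VP := fun x p hp => ?_
    h_UP := fun p hp => ?_
    h_VP := fun p hp => ?_
    fix_UP := fun p hp e => D.ρ_inj ((BU.eq_one hp fun a b hab => hfix p e a b hab.ne).trans (map_one D.ρ).symm)
    fix_VP := fun p hp e => D.ρ_inj ((BL.eq_one hp fun a b hab => hfix p e a b hab.ne').trans (map_one D.ρ).symm)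
    surj := L.surj
    flip := L.flip }⟩
  · classical
    apply D.ρ_inj
    rw [map_pow, map_one, L.h_val, Matrix.diagonal_pow, ← Matrix.diagonal_one]
    congr 1
    funext a
    rw [Pi.pow_apply, ← Units.val_pow_eq_pow_val]
    rw [show Fintype.card F - 1 = Fintype.card Fˣ by rw [Fintype.card_units], pow_card_eq_one, Units.val_one]
  · intro u hu
    obtain ⟨x, hx, hblock⟩ := L.sU u hu
    refine ⟨x, hx, (L.Ψ x)⁻¹ * u, ?_, by rw [mul_inv_cancel_left]⟩
    intro a b hab
    rw [map_mul]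
    rcases lt_or_eq_of_le hab with hlt | heq
    · rw [Matrix.one_apply_ne (fun e => by subst e; omega)]
      exact (hbd x).mul_low (fun c d hcd => by
        rw [hu c d (L.lev_mono c d hcd), Matrix.one_apply_ne (fun e => by subst e; omega)]) hlt
    · rw [Matrix.mul_apply, ← D.ρ_inv_mul (L.Ψ x), Matrix.mul_apply]
      refine Finset.sum_congr rfl fun c _ => ?_
      by_cases hc : L.lev a = L.lev c
      · rw [hblock c b (by omega)]
      · rw [hbd x a c hc, zero_mul, zero_mul]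
  · intro u hu
    obtain ⟨x, hx, hblock⟩ := L.sV u hu
    refine ⟨x, hx, u * (L.Ψ x)⁻¹, ?_, by rw [inv_mul_cancel_right]⟩
    intro a b hab
    rw [map_mul]
    rcases lt_or_eq_of_le hab with hlt | heq
    · rw [Matrix.one_apply_ne (fun e => by subst e; omega), Matrix.mul_apply]
      refine Finset.sum_eq_zero fun c _ => ?_
      by_cases hc : L.lev c = L.lev b
      · rw [hu a c (L.lev_mono c a (by omega)), Matrix.one_apply_ne (fun e => by subst e; omega), zero_mul]
      · rw [hbd x c b hc, mul_zero]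
    · rw [Matrix.mul_apply, ← D.ρ_mul_inv (L.Ψ x), Matrix.mul_apply]
      refine Finset.sum_congr rfl fun c _ => ?_
      by_cases hc : L.lev c = L.lev b
      · rw [hblock a c (by omega)]
      · rw [hbd x c b hc, mul_zero, mul_zero]
  · show BU _ (D.ρ _)
    rw [map_mul, map_mul]
    exact BU.conj (L.Ψ_bd x) (hbd x) (D.ρ_mul_inv _) hp
  · show BL _ (D.ρ _)
    rw [map_mul, map_mul]
    exact BL.conj (L.Ψ_bd x) (hbd x) (D.ρ_mul_inv _) hp
  · show BU _ (D.ρ _)
    rw [map_mul, map_mul]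
    exact BU.conj hbdh hbdh' (D.ρ_mul_inv _) hp
  · show BL _ (D.ρ _)
    rw [map_mul, map_mul]
    exact BL.conj hbdh hbdh' (D.ρ_mul_inv _) hp

/-- The class square property modulo the centre. -/
theorem MatLevi.class_square (L : MatLevi D) [Nonempty ι] (hF : 9 ≤ Fintype.card F) {H : Type*} [Group H]
    (e : H ≃* G ⧸ Subgroup.center G) :
    ∃ c : H, ∀ g : H, ∃ x y : H, g = (x * c * x⁻¹) * (y * c * y⁻¹) := by
  obtain ⟨L'⟩ := L.exists_leviData
  exact L'.class_square hF e

end Cfsg.Agent.ClassSquare.Mat
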