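/-
Embeddings of matrices along injections of index sets.
-/
import Cfsg.Agent.Lib.ClassSquare.MatDatum
import Cfsg.Agent.Lib.SL2Pres.Torus
import Cfsg.Agent.Lib.SLPres.Main

set_option autoImplicit false

namespace Cfsg.Agent.ClassSquare.Mat

open Cfsg.Agent.SL2Pres (up low)
open Matrix (SpecialLinearGroup)
open scoped Matrix

universe v z

variable {F : Type v} [Field F] {I : Type z} [Fintype I] [DecidableEq I] {k l : ℕ}

/-- selection matrix -/
def sel (F : Type v) [Field F] (f : Fin k → I) : Matrix I (Fin k) F := Matrix.of fun a i => if f i = a then 1 else 0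

theorem sel_tr_mul {f : Fin k → I} (hf : Function.Injective f) : (sel F f)ᵀ * sel F f = 1 := by
  ext i j
  simp [sel, Matrix.mul_apply, Matrix.one_apply, hf.eq_iff, eq_comm (a := i)]

theorem sel_tr_mul_disj {f : Fin k → I} {g : Fin l → I} (h : ∀ i j, f i ≠ g j) :
    (sel F f)ᵀ * sel F g = 0 := by
  ext i j
  simp [sel, Matrix.mul_apply, eq_comm (a := g j), h i j]

/-- extension by the identity -/
def embM (f : Fin k → I) (X : Matrix (Fin k) (Fin k) F) : Matrix I I F := 1 + sel F f * (X - 1) * (sel F f)ᵀ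

theorem embM_one (f : Fin k → I) : embM f (1 : Matrix (Fin k) (Fin k) F) = 1 := by simp [embM]

theorem embM_mul {f : Fin k → I} (hf : Function.Injective f) (X Y : Matrix (Fin k) (Fin k) F) :
    embM f X * embM f Y = embM f (X * Y) := by
  have h := sel_tr_mul (F := F) hf
  have e : sel F f * (X - 1) * (sel F f)ᵀ * (sel F f * (Y - 1) * (sel F f)ᵀ) = sel F f * ((X - 1) * (Y - 1)) * (sel F f)ᵀ := by
    calc sel F f * (X - 1) * (sel F f)ᵀ * (sel F f * (Y - 1) * (sel F f)ᵀ)
        = sel F f * ((X - 1) * ((sel F f)ᵀ * sel F f) * (Y - 1)) * (sel F f)ᵀ := by simp only [Matrix.mul_assoc]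
      _ = _ := by rw [h, Matrix.mul_one]
  rw [embM, embM, embM, add_mul, mul_add, mul_add, one_mul, one_mul, mul_one, e,
    show X * Y - 1 = (X - 1) + (Y - 1) + (X - 1) * (Y - 1) by noncomm_ring, Matrix.mul_add, Matrix.mul_add,
    Matrix.add_mul, Matrix.add_mul]
  abel

theorem embM_comm {f : Fin k → I} {g : Fin l → I} (h : ∀ i j, f i ≠ g j) (X : Matrix (Fin k) (Fin k) F)
    (Y : Matrix (Fin l) (Fin l) F) : embM f X * embM g Y = embM g Y * embM f X := by
  have h1 := sel_tr_mul_disj (F := F) h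
  have h2 := sel_tr_mul_disj (F := F) (f := g) (g := f) fun i j => (h j i).symm
  have e1 : sel F f * (X - 1) * (sel F f)ᵀ * (sel F g * (Y - 1) * (sel F g)ᵀ) = 0 := by
    calc sel F f * (X - 1) * (sel F f)ᵀ * (sel F g * (Y - 1) * (sel F g)ᵀ)
        = sel F f * ((X - 1) * ((sel F f)ᵀ * sel F g) * (Y - 1)) * (sel F g)ᵀ := by simp only [Matrix.mul_assoc]
      _ = _ := by rw [h1]; simp
  have e2 : sel F g * (Y - 1) * (sel F g)ᵀ * (sel F f * (X - 1) * (sel F f)ᵀ) = 0 := by
    calc sel F g * (Y - 1) * (sel F g)ᵀ * (sel F f * (X - 1) * (sel F f)ᵀ)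
        = sel F g * ((Y - 1) * ((sel F g)ᵀ * sel F f) * (X - 1)) * (sel F f)ᵀ := by simp only [Matrix.mul_assoc]
      _ = _ := by rw [h2]; simp
  rw [embM, embM, add_mul, mul_add, mul_add, add_mul, mul_add, mul_add, e1, e2, one_mul, one_mul, mul_one,
    one_mul, mul_one]
  abel

theorem embM_det {f : Fin k → I} (hf : Function.Injective f) (X : Matrix (Fin k) (Fin k) F) :
    (embM f X).det = X.det := by
  rw [embM, Matrix.det_one_add_mul_comm, ← Matrix.mul_assoc, sel_tr_mul hf, Matrix.one_mul, add_sub_cancel]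

theorem embM_apply_mem {f : Fin k → I} (hf : Function.Injective f) (X : Matrix (Fin k) (Fin k) F) (i j : Fin k) :
    embM f X (f i) (f j) = X i j := by
  have e : (sel F f * (X - 1) * (sel F f)ᵀ : Matrix I I F) (f i) (f j) = (X - 1) i j := by
    simp [sel, Matrix.mul_apply, hf.eq_iff, Finset.sum_ite_eq', ite_mul, mul_ite]
  rw [embM, Matrix.add_apply, e, Matrix.sub_apply]
  simp [Matrix.one_apply, hf.eq_iff]

theorem embM_apply_left {f : Fin k → I} (X : Matrix (Fin k) (Fin k) F) {a : I} (ha : ∀ i, f i ≠ a) (b : I) :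
    embM f X a b = (1 : Matrix I I F) a b := by
  rw [embM, Matrix.add_apply, add_eq_left, Matrix.mul_apply]
  refine Finset.sum_eq_zero fun j _ => ?_
  rw [Matrix.mul_apply, Finset.sum_eq_zero, zero_mul]
  intro i _
  simp [sel, ha i]

theorem embM_apply_right {f : Fin k → I} (X : Matrix (Fin k) (Fin k) F) (a : I) {b : I} (hb : ∀ i, f i ≠ b) :
    embM f X a b = (1 : Matrix I I F) a b := by
  rw [embM, Matrix.add_apply, add_eq_left, Matrix.mul_apply]
  refine Finset.sum_eq_zero fun j _ => ?_
  simp [sel, hb j]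

/-- Entries away from the image. -/
theorem embM_bd {f : Fin k → I} (hf : Function.Injective f) (blk : I → ℕ)
    {X : Matrix (Fin k) (Fin k) F} (h : ∀ i j, blk (f i) ≠ blk (f j) → X i j = 0) : BD blk (embM f X) := by
  intro a b hab
  have hne : a ≠ b := fun e => hab (congrArg blk e)
  by_cases ha : ∃ i, f i = a
  swap
  · push Not at ha
    rw [embM_apply_left X ha, Matrix.one_apply_ne hne]
  by_cases hb : ∃ j, f j = b
  swap
  · push Not at hb
    rw [embM_apply_right X a hb, Matrix.one_apply_ne hne]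
  obtain ⟨i, rfl⟩ := ha
  obtain ⟨j, rfl⟩ := hb
  rw [embM_apply_mem hf, h i j hab]

/-- A test on entries through an embedding. -/
theorem embM_BU {f : Fin k → I} (hf : Function.Injective f) (pos : I → ℕ)
    {X : Matrix (Fin k) (Fin k) F}
    (h : ∀ i j, pos (f j) ≤ pos (f i) → X i j = (1 : Matrix (Fin k) (Fin k) F) i j) : BU pos (embM f X) := by
  intro a b hab
  by_cases ha : ∃ i, f i = a
  swap
  · push Not at ha
    rw [embM_apply_left X ha]
  by_cases hb : ∃ j, f j = b
  swap
  · push Not at hb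
    rw [embM_apply_right X a hb]
  obtain ⟨i, rfl⟩ := ha
  obtain ⟨j, rfl⟩ := hb
  rw [embM_apply_mem hf, h i j hab]
  simp [Matrix.one_apply, hf.eq_iff]

/-- A test on entries through an embedding. -/
theorem embM_BL {f : Fin k → I} (hf : Function.Injective f) (pos : I → ℕ)
    {X : Matrix (Fin k) (Fin k) F}
    (h : ∀ i j, pos (f i) ≤ pos (f j) → X i j = (1 : Matrix (Fin k) (Fin k) F) i j) : BL pos (embM f X) := by
  intro a b hab
  by_cases ha : ∃ i, f i = a
  swap
  · push Not at ha
    rw [embM_apply_left X ha]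
  by_cases hb : ∃ j, f j = b
  swap
  · push Not at hb
    rw [embM_apply_right X a hb]
  obtain ⟨i, rfl⟩ := ha
  obtain ⟨j, rfl⟩ := hb
  rw [embM_apply_mem hf, h i j hab]
  simp [Matrix.one_apply, hf.eq_iff]

theorem embM_diag {f : Fin k → I} (hf : Function.Injective f) (d : Fin k → F) :
    embM f (Matrix.diagonal d) = Matrix.diagonal (fun a => 1 + ∑ i, if f i = a then d i - 1 else 0) := by
  ext a b
  by_cases ha : ∃ i, f i = a
  swap
  · push Not at ha
    rw [embM_apply_left _ ha, Matrix.one_apply, Matrix.diagonal_apply, Finset.sum_eq_zero fun i _ => if_neg (ha i),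
      add_zero]
  obtain ⟨i, rfl⟩ := ha
  by_cases hb : ∃ j, f j = b
  swap
  · push Not at hb
    rw [embM_apply_right _ _ hb, Matrix.one_apply_ne (hb i), Matrix.diagonal_apply_ne _ (hb i)]
  obtain ⟨j, rfl⟩ := hb
  rw [embM_apply_mem hf]
  by_cases hij : i = j
  · subst hij
    rw [Matrix.diagonal_apply_eq, Matrix.diagonal_apply_eq, Finset.sum_eq_single i]
    · rw [if_pos rfl, add_sub_cancel]
    · exact fun c _ hc => if_neg fun e => hc (hf e)
    · simp
  · rw [Matrix.diagonal_apply_ne _ hij, Matrix.diagonal_apply_ne _ (fun e => hij (hf e))]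

/-- Conjugation by a diagonal matrix. -/
theorem diag_conj_embM {f : Fin k → I} (hf : Function.Injective f) (d : I → Fˣ) (X : Matrix (Fin k) (Fin k) F) :
    Matrix.diagonal (fun a => (d a : F)) * embM f X * Matrix.diagonal (fun a => (((d a)⁻¹ : Fˣ) : F)) =
      embM f (Matrix.diagonal (fun i => (d (f i) : F)) * X * Matrix.diagonal (fun i => (((d (f i))⁻¹ : Fˣ) : F))) := by
  ext a b
  rw [Matrix.mul_diagonal, Matrix.diagonal_mul]
  have hone : (d a : F) * (1 : Matrix I I F) a b * (((d b)⁻¹ : Fˣ) : F) = (1 : Matrix I I F) a b := by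
    by_cases hab : a = b
    · subst hab; simp
    · simp [Matrix.one_apply_ne hab]
  by_cases ha : ∃ i, f i = a
  swap
  · push Not at ha
    rw [embM_apply_left _ ha, embM_apply_left _ ha, hone]
  by_cases hb : ∃ j, f j = b
  swap
  · push Not at hb
    rw [embM_apply_right _ _ hb, embM_apply_right _ _ hb, hone]
  obtain ⟨i, rfl⟩ := ha
  obtain ⟨j, rfl⟩ := hb
  rw [embM_apply_mem hf, embM_apply_mem hf, Matrix.mul_diagonal, Matrix.diagonal_mul]

/-- permutation matrix -/
def pmat (F : Type v) [Field F] (σ : Equiv.Perm I) : Matrix I I F := Matrix.of fun a b => if σ b = a then 1 else 0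

theorem pmat_mul (σ τ : Equiv.Perm I) : (pmat F σ) * pmat F τ = pmat F (σ * τ) := by
  ext a b
  simp only [pmat, Matrix.mul_apply, Matrix.of_apply, mul_ite, mul_one, mul_zero]
  rw [Finset.sum_ite_eq]
  by_cases h : σ (τ b) = a <;> simp [h, Equiv.Perm.mul_apply]

theorem pmat_one : (pmat F (1 : Equiv.Perm I)) = (1 : Matrix I I F) := by
  ext a b
  simp [pmat, Matrix.one_apply, eq_comm]

theorem pmat_sel (σ : Equiv.Perm I) (f : Fin k → I) : (pmat F σ) * sel F f = sel F (σ ∘ f) := by
  ext a i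
  simp [pmat, sel, Matrix.mul_apply]

theorem pmat_tr (σ : Equiv.Perm I) : (pmat F σ)ᵀ = pmat F σ⁻¹ := by
  ext a b
  simp only [pmat, Matrix.transpose_apply, Matrix.of_apply]
  exact if_congr ⟨fun h => by rw [← h]; exact σ.symm_apply_apply a, fun h => by rw [← h]; exact σ.apply_symm_apply b⟩
    rfl rfl

theorem pmat_conj (σ : Equiv.Perm I) (f : Fin k → I) (X : Matrix (Fin k) (Fin k) F) :
    pmat F σ * embM f X * pmat F σ⁻¹ = embM (σ ∘ f) X := by
  rw [embM, embM, mul_add, add_mul, mul_one, pmat_mul, mul_inv_cancel, pmat_one, ← pmat_tr,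
    ← pmat_sel σ f, Matrix.transpose_mul]
  simp only [Matrix.mul_assoc]

/-- The embedding of `SL`. -/
def emb (f : Fin k → I) (hf : Function.Injective f) :
    SpecialLinearGroup (Fin k) F →* SpecialLinearGroup I F where
  toFun x := ⟨embM f x.1, by rw [embM_det hf]; exact x.2⟩
  map_one' := Subtype.ext (embM_one f)
  map_mul' x y := Subtype.ext (embM_mul hf x.1 y.1).symm

theorem emb_val (f : Fin k → I) (hf : Function.Injective f) (x : SpecialLinearGroup (Fin k) F) :
    (emb f hf x).1 = embM f x.1 := rfl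

/-- A pair of indices. -/
def pr (a b : I) : Fin 2 → I := ![a, b]

theorem pr_inj {a b : I} (h : a ≠ b) : Function.Injective (pr a b) := by
  intro i j e
  fin_cases i <;> fin_cases j <;> simp_all [pr, eq_comm]

/-- A subgroup with all adjacent transvections is everything. -/
theorem eq_top_of_adjacent {n : ℕ} (H : Subgroup (SpecialLinearGroup (Fin n) F))
    (h : ∀ (i j : Fin n) (hij : i ≠ j), ((i : ℕ) + 1 = j ∨ (j : ℕ) + 1 = i) → ∀ t : F,
      SpecialLinearGroup.transvection hij t ∈ H) : H = ⊤ := by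
  rcases Nat.lt_or_ge n 2 with hn | hn
  · rw [eq_top_iff]
    intro x _
    have : x = 1 := by
      apply Subtype.ext
      ext a b
      have hn1 : n = 1 := by have := a.2; omega
      subst hn1
      have hx := x.2
      rw [Matrix.det_fin_one] at hx
      rw [Subsingleton.elim a 0, Subsingleton.elim b 0, hx]
      exact (Matrix.one_apply_eq _).symm
    rw [this]
    exact one_mem _
  haveI : Nontrivial (Fin n) := Fin.nontrivial_iff_two_le.2 hn
  have key : ∀ d, ∀ (i j : Fin n) (hij : i ≠ j),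
      ((i : ℕ) + d = j ∨ (j : ℕ) + d = i) → ∀ t : F, SpecialLinearGroup.transvection hij t ∈ H := by
    intro d
    induction d with
    | zero => intro i j hij hd; exact absurd (Fin.ext (by omega)) hij
    | succ d ih =>
      intro i j hij hd t
      rcases Nat.eq_zero_or_pos d with rfl | hd0
      · exact h i j hij hd t
      obtain ⟨e, he1, he2⟩ : ∃ e : Fin n, ((i : ℕ) + d = e ∨ (e : ℕ) + d = i) ∧
          ((e : ℕ) + 1 = j ∨ (j : ℕ) + 1 = e) := by
        rcases hd with hd | hd
        · exact ⟨⟨i + d, by have := j.2; omega⟩, Or.inl rfl, Or.inl (by show (i : ℕ) + d + 1 = j; omega)⟩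
        · exact ⟨⟨j + 1, by have := i.2; omega⟩, Or.inr (by show (j : ℕ) + 1 + d = i; omega), Or.inr rfl⟩
      have hie : i ≠ e := fun e' => by subst e'; omega
      have hej : e ≠ j := fun e' => by subst e'; omega
      have hb := (SLPres.slData n F).brac hie hej hij t 1
      rw [mul_one, SLPres.slData_y hie, SLPres.slData_y hej, SLPres.slData_y hij, commutatorElement_def] at hb
      rw [← hb]
      exact mul_mem (mul_mem (mul_mem (ih i e hie he1 t) (h e j hej he2 1)) (inv_mem (ih i e hie he1 t)))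
        (inv_mem (h e j hej he2 1))
  rw [eq_top_iff, ← Cfsg.Agent.ClassicalSL.closure_elemTransvections, Subgroup.closure_le]
  rintro _ ⟨i, j, hij, t, rfl⟩
  rcases le_total (i : ℕ) j with hle | hle
  · exact key (j - i) i j hij (Or.inl (by omega)) t
  · exact key (i - j) i j hij (Or.inr (by omega)) t

/-- A chain is connected. -/
theorem chain_connected {N : ℕ} (R : Fin N → Fin N → Prop)
    (h : ∀ i j : Fin N, (i : ℕ) + 1 = j → R i j ∧ R j i)
    (S : Set (Fin N)) (hS : S.Nonempty) (hne : S ≠ Set.univ) : ∃ i ∈ S, ∃ j ∉ S, R i j := by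
  obtain ⟨a, ha⟩ := hS
  obtain ⟨b, hb⟩ := (Set.ne_univ_iff_exists_notMem S).1 hne
  by_contra hc
  push Not at hc
  have hup : ∀ d (x : Fin N), x ∈ S → ∀ y : Fin N, (x : ℕ) + d = y ∨ (y : ℕ) + d = x → y ∈ S := by
    intro d
    induction d with
    | zero => intro x hx y hy; rwa [show y = x from Fin.ext (by omega)]
    | succ d ih =>
      intro x hx y hy
      rcases hy with hy | hy
      · have h1 := ih x hx ⟨x + d, by have := y.2; omega⟩ (Or.inl rfl)
        by_contra hyS
        exact hc _ h1 y hyS (h ⟨x + d, by have := y.2; omega⟩ y (by show (x : ℕ) + d + 1 = y; omega)).1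
      · have h1 := ih x hx ⟨y + 1, by have := x.2; omega⟩ (Or.inr (by show (y : ℕ) + 1 + d = x; omega))
        by_contra hyS
        exact hc _ h1 y hyS (h y ⟨y + 1, by have := x.2; omega⟩ rfl).2
  rcases le_total (a : ℕ) b with hle | hle
  · exact hb (hup (b - a) a ha b (Or.inl (by omega)))
  · exact hb (hup (a - b) a ha b (Or.inr (by omega)))

/-- A sum with small support. -/
theorem sum_le_of_support {ι : Type*} [Fintype ι] (f g : ι → ℕ) (B : ℕ) (h : ∀ j, f j ≤ g j)
    (hg : ∑ j, g j ≤ B) : ∑ j, f j ≤ B :=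
  (Finset.sum_le_sum fun j _ => h j).trans hg

theorem sum_ite_val_le {N : ℕ} (c a : ℕ) : ∑ j : Fin N, (if (j : ℕ) = a then c else 0) ≤ c := by
  by_cases ha : a < N
  · rw [Finset.sum_eq_single (⟨a, ha⟩ : Fin N)]
    · simp
    · intro b _ hb
      rw [if_neg fun e => hb (Fin.ext e)]
    · simp
  · rw [Finset.sum_eq_zero fun (b : Fin N) _ => if_neg fun e : (b : ℕ) = a => ha (e ▸ b.2)]
    exact Nat.zero_le _

end Cfsg.Agent.ClassSquare.Mat
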