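/-
The class square property of `PSL n` over fields with at least nine elements.
-/
import Cfsg.Agent.Lib.ClassSquare.Emb
import Mathlib.GroupTheory.SpecificGroups.Cyclic

set_option autoImplicit false
set_option linter.style.haveILetI false

namespace Cfsg.Agent.ClassSquare.TypeA

open Cfsg.Agent.SL2Pres (up low)
open Cfsg.Agent.ClassSquare.Mat
open Matrix (SpecialLinearGroup)
open scoped Matrix

universe v

variable (F : Type v) [Field F] (n : ℕ)

/-- matrices of a special linear group -/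
def ρA : SpecialLinearGroup (Fin n) F →* Matrix (Fin n) (Fin n) F where
  toFun x := x.1
  map_one' := rfl
  map_mul' _ _ := rfl

/-- the pair of a node -/
def pi' (i : Fin (n - 1)) : Fin 2 → Fin n :=
  pr ⟨i, by have := i.2; omega⟩ ⟨i + 1, by have := i.2; omega⟩

theorem pi'_inj (i : Fin (n - 1)) : Function.Injective (pi' n i) :=
  pr_inj fun e => by have := congrArg Fin.val e; simp at this

/-- the merged grading of a node -/
def blkA (i : Fin (n - 1)) (a : Fin n) : ℕ := if (a : ℕ) ≤ i then a else (a : ℕ) - 1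

/-- the weight of a node -/
def wA (i : Fin (n - 1)) (a : Fin n) : ℤ :=
  (if (a : ℕ) = i then 1 else 0) - (if (a : ℕ) = (i : ℕ) + 1 then 1 else 0)

/-- rank one subgroup -/
def φA (i : Fin (n - 1)) : SpecialLinearGroup (Fin 2) F →* SpecialLinearGroup (Fin n) F :=
  emb (pi' n i) (pi'_inj n i)

variable {F n}

theorem mem_pi' {i : Fin (n - 1)} {a : Fin n} :
    (∃ j, pi' n i j = a) ↔ ((a : ℕ) = i ∨ (a : ℕ) = (i : ℕ) + 1) := by
  constructor
  · rintro ⟨j, rfl⟩
    fin_cases j <;> simp [pi', pr]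
  · rintro (h | h)
    exacts [⟨0, Fin.ext h.symm⟩, ⟨1, Fin.ext h.symm⟩]

theorem blk_eq {i : Fin (n - 1)} {a b : Fin n} (h : blkA n i a = blkA n i b) :
    a = b ∨ ((∃ j, pi' n i j = a) ∧ ∃ j, pi' n i j = b) := by
  simp only [mem_pi']
  rw [or_iff_not_imp_left]
  intro hne
  have : (a : ℕ) ≠ b := fun e => hne (Fin.ext e)
  simp only [blkA] at h
  split_ifs at h <;> omega

theorem blk_pi' (i : Fin (n - 1)) (j : Fin 2) : blkA n i (pi' n i j) = i := by
  fin_cases j <;> simp [pi', pr, blkA]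

theorem φA_val (i : Fin (n - 1)) (x : SpecialLinearGroup (Fin 2) F) :
    ρA F n (φA F n i x) = embM (pi' n i) x.1 := rfl

theorem split_pair (i : Fin (n - 1)) (M : Matrix (Fin n) (Fin n) F) (X : Matrix (Fin 2) (Fin 2) F)
    (hd : ∀ a, M a a = 1) (h : ∀ k l, M (pi' n i k) (pi' n i l) = X k l) {a b : Fin n}
    (hab : blkA n i a = blkA n i b) : M a b = embM (pi' n i) X a b := by
  rcases blk_eq hab with rfl | ⟨⟨k, rfl⟩, ⟨l, rfl⟩⟩
  · by_cases hm : ∃ k, pi' n i k = a
    · obtain ⟨k, rfl⟩ := hm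
      rw [embM_apply_mem (pi'_inj n i), h]
    · push Not at hm
      rw [embM_apply_left _ hm, Matrix.one_apply_eq, hd]
  · rw [embM_apply_mem (pi'_inj n i), h]

theorem orbit_aux (hn : 2 ≤ n) : ∀ a : ℕ, (ha : a < n) →
    ∃ x ∈ nMon (φA F n), ∃ c : F, c ≠ 0 ∧ ∀ b : Fin n,
      ρA F n x b ⟨0, by omega⟩ = if b = ⟨a, ha⟩ then c else 0
  | 0, ha => ⟨1, one_mem _, 1, one_ne_zero, fun b => by rw [map_one, Matrix.one_apply]⟩
  | a + 1, ha => by
    obtain ⟨x, hx, c, hc, hxa⟩ := orbit_aux hn a (Nat.lt_of_succ_lt ha)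
    have hi : a < n - 1 := by omega
    refine ⟨φA F n ⟨a, hi⟩ (up 1 * low (-1) * up 1) * x, mul_mem (Submonoid.subset_closure ⟨_, rfl⟩) hx,
      -c, neg_ne_zero.2 hc, fun b => ?_⟩
    rw [map_mul, Matrix.mul_apply, Finset.sum_eq_single (⟨a, Nat.lt_of_succ_lt ha⟩ : Fin n)]
    swap
    · intro d _ hd
      rw [hxa, if_neg hd, mul_zero]
    swap
    · simp
    rw [hxa, if_pos rfl, φA_val]
    have h0 : (⟨a, Nat.lt_of_succ_lt ha⟩ : Fin n) = pi' n ⟨a, hi⟩ 0 := rfl
    by_cases hm : ∃ k, pi' n ⟨a, hi⟩ k = b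
    · obtain ⟨k, rfl⟩ := hm
      rw [h0, embM_apply_mem (pi'_inj n _)]
      fin_cases k <;> simp [pi', pr, val_mul', SL2Pres.up_val, SL2Pres.low_val, Matrix.mul_fin_two, Fin.ext_iff]
    · have hm' : b ≠ ⟨a, Nat.lt_of_succ_lt ha⟩ ∧ b ≠ ⟨a + 1, ha⟩ :=
        ⟨fun e => hm ⟨0, e.symm⟩, fun e => hm ⟨1, e.symm⟩⟩
      push Not at hm
      rw [embM_apply_left _ hm, Matrix.one_apply_ne hm'.1, zero_mul, if_neg hm'.2]

/-- The rank one data. -/
def matDatum [Finite F] (hn : 2 ≤ n) : MatDatum (SpecialLinearGroup (Fin n) F) F (Fin (n - 1)) (Fin n) where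
  ρ := ρA F n
  ρ_inj := fun _ _ h => Subtype.ext h
  pos a := a
  φ := φA F n
  blk := blkA n
  blk_mono i a b h := by
    simp only [blkA] at h
    split_ifs at h <;> omega
  w := wA n
  p i := pi' n i 0
  q i := pi' n i 1
  pq i := by rw [blk_pi', blk_pi']
  φ_dg i c := by
    rw [φA_val, dg_val, show !![(c : F), 0; 0, ((c⁻¹ : Fˣ) : F)] = Matrix.diagonal ![(c : F), ((c⁻¹ : Fˣ) : F)] by
      ext k l; fin_cases k <;> fin_cases l <;> simp, embM_diag (pi'_inj n i)]
    congr 1
    funext a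
    have := i.2
    by_cases h0 : (a : ℕ) = i
    · simp [Fin.sum_univ_two, pi', pr, wA, Fin.ext_iff, h0]
    · by_cases h1 : (a : ℕ) = (i : ℕ) + 1
      · simp [Fin.sum_univ_two, pi', pr, wA, Fin.ext_iff, h0, h1, Ne.symm h0]
      · simp [Fin.sum_univ_two, pi', pr, wA, Fin.ext_iff, h0, h1, Ne.symm h0, Ne.symm h1]
  φ_bd i x := embM_bd (pi'_inj n i) _ fun k l h => absurd (by rw [blk_pi', blk_pi']) h
  φ_up i t := by
    refine ⟨embM_BU (pi'_inj n i) _ fun k l h => ?_, ?_⟩
    · fin_cases k <;> fin_cases l <;> simp [pi', pr, SL2Pres.up_val] at h ⊢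
    · rw [φA_val, embM_apply_mem (pi'_inj n i)]; rfl
  sc _ := 1
  φ_low i t := by
    rw [Units.val_one, one_mul]
    refine ⟨embM_BL (pi'_inj n i) _ fun k l h => ?_, ?_⟩
    · fin_cases k <;> fin_cases l <;> simp [pi', pr, SL2Pres.low_val] at h ⊢
    · rw [φA_val, embM_apply_mem (pi'_inj n i)]; rfl
  splitU i g hg a b hab := by
    rw [φA_val]
    refine split_pair i _ _ (fun c => (hg c c le_rfl).trans (Matrix.one_apply_eq c)) (fun k l => ?_) hab
    fin_cases k <;> fin_cases l <;> simp [SL2Pres.up_val]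
    · exact (hg _ _ le_rfl).trans (Matrix.one_apply_eq _)
    · refine (hg _ _ ?_).trans (Matrix.one_apply_ne ?_) <;> simp [pi', pr, Fin.ext_iff]
    · exact (hg _ _ le_rfl).trans (Matrix.one_apply_eq _)
  splitV i g hg a b hab := by
    rw [inv_one, Units.val_one, one_mul, φA_val]
    refine split_pair i _ _ (fun c => (hg c c le_rfl).trans (Matrix.one_apply_eq c)) (fun k l => ?_) hab
    fin_cases k <;> fin_cases l <;> simp [SL2Pres.low_val]
    · exact (hg _ _ le_rfl).trans (Matrix.one_apply_eq _)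
    · refine (hg _ _ ?_).trans (Matrix.one_apply_ne ?_) <;> simp [pi', pr, Fin.ext_iff]
    · exact (hg _ _ le_rfl).trans (Matrix.one_apply_eq _)
  sub_U i g h a b hab := h a b (by dsimp only at hab; simp only [blkA]; split_ifs <;> omega)
  sub_V i g h a b hab := h a b (by dsimp only at hab; simp only [blkA]; split_ifs <;> omega)
  A_self i := by simp [wA, pi', pr]
  A_sum i := by
    refine sum_le_of_support _ (fun j : Fin (n - 1) => (if (j : ℕ) = i then 2 else 0) +
      (if (j : ℕ) = (i : ℕ) + 1 then 1 else 0) + (if (j : ℕ) + 1 = i then 1 else 0)) 6 (fun j => ?_) ?_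
    · show (((if (j : ℕ) = i then 1 else 0) - (if (j : ℕ) = (i : ℕ) + 1 then 1 else 0) : ℤ) -
        ((if (j : ℕ) + 1 = i then 1 else 0) - (if (j : ℕ) + 1 = (i : ℕ) + 1 then 1 else 0))).natAbs ≤ _
      by_cases a1 : (j : ℕ) = i
      · simp [a1]
      · by_cases a2 : (j : ℕ) = (i : ℕ) + 1
        · simp [a2, show ¬((i : ℕ) + 1 + 1 = i) by omega]
        · by_cases a3 : (j : ℕ) + 1 = i
          · simp [a1, a2, a3]
          · simp [a1, a2, a3]
    · rw [Finset.sum_add_distrib, Finset.sum_add_distrib]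
      have h1 := sum_ite_val_le (N := n - 1) 2 i
      have h2 := sum_ite_val_le (N := n - 1) 1 ((i : ℕ) + 1)
      have h3 : ∑ j : Fin (n - 1), (if (j : ℕ) + 1 = i then 1 else 0) ≤ 1 := by
        refine le_trans (Finset.sum_le_sum fun j _ => ?_) (sum_ite_val_le 1 ((i : ℕ) - 1))
        split_ifs <;> omega
      omega
  connected S h1 h2 := chain_connected (fun i j => wA n i (pi' n j 0) - wA n i (pi' n j 1) ≠ 0)
    (fun i j hij => by
      simp only [wA, pi', pr, Matrix.cons_val_zero, Matrix.cons_val_one]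
      constructor <;> split_ifs <;> omega) S h1 h2
  gen := eq_top_of_adjacent _ fun i j hij h t => by
    rcases h with h | h
    · refine Subgroup.subset_closure (Set.mem_iUnion.2 ⟨⟨i, by have := j.2; omega⟩, up t, ?_⟩)
      apply Subtype.ext
      show embM _ _ = 1 + Matrix.single i j t
      rw [embM, add_right_inj]
      ext a b
      simp [sel, pi', pr, Matrix.mul_apply, Fin.sum_univ_two, SL2Pres.up_val, Matrix.single_apply, Fin.ext_iff]
      split_ifs <;> simp_all <;> omega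
    · refine Subgroup.subset_closure (Set.mem_iUnion.2 ⟨⟨j, by have := i.2; omega⟩, low t, ?_⟩)
      apply Subtype.ext
      show embM _ _ = 1 + Matrix.single i j t
      rw [embM, add_right_inj]
      ext a b
      simp [sel, pi', pr, Matrix.mul_apply, Fin.sum_univ_two, SL2Pres.low_val, Matrix.single_apply, Fin.ext_iff]
      split_ifs <;> simp_all <;> omega
  E := ∅
  top := ⟨0, by omega⟩
  bot := ⟨n - 1, by omega⟩
  bot_nE := Set.notMem_empty _
  top_le a := Nat.zero_le _
  le_bot a := by have := a.2; show (a : ℕ) ≤ n - 1; omega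
  orbit a _ := orbit_aux hn a a.2
  rigid g h _ := Subtype.ext (Matrix.ext fun b a => h a (Set.notMem_empty _) b)

/-- diagonal element -/
def diagA (d : Fin n → Fˣ) (h : ∏ a, d a = 1) : SpecialLinearGroup (Fin n) F :=
  ⟨Matrix.diagonal fun a => (d a : F), by rw [Matrix.det_diagonal, ← Units.coe_prod, h, Units.val_one]⟩

theorem diagA_conj (d : Fin n → Fˣ) (hd : ∏ a, d a = 1) (X : SpecialLinearGroup (Fin n) F) :
    (diagA d hd * X * (diagA d hd)⁻¹).1 =
      Matrix.diagonal (fun a => (d a : F)) * X.1 * Matrix.diagonal (fun a => (((d a)⁻¹ : Fˣ) : F)) := by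
  have e : ((diagA d hd)⁻¹).1 = Matrix.diagonal (fun a => (((d a)⁻¹ : Fˣ) : F)) := by
    have h1 : (diagA d hd) * diagA (fun a => (d a)⁻¹) (by rw [Finset.prod_inv_distrib, hd, inv_one]) = 1 :=
      Subtype.ext (by
        show Matrix.diagonal _ * Matrix.diagonal _ = 1
        rw [Matrix.diagonal_mul_diagonal]; simp)
    rw [inv_eq_of_mul_eq_one_right h1]
    rfl
  show (diagA d hd).1 * X.1 * ((diagA d hd)⁻¹).1 = _
  rw [e]
  rfl

end Cfsg.Agent.ClassSquare.TypeA
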