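/-
Small helpers for the classical parabolic data.
-/
import Cfsg.Agent.Lib.ClassSquare.Emb
import Mathlib.GroupTheory.SpecificGroups.Cyclic

set_option autoImplicit false

namespace Cfsg.Agent.ClassSquare.Mat

open Matrix (SpecialLinearGroup)
open scoped Matrix

universe v z

variable {F : Type v} [Field F] {I : Type z} [Fintype I] [DecidableEq I] {k l : ℕ}

/-- A generator separates small exponents. -/
theorem exists_sep [Fintype F] (hF : 9 ≤ Fintype.card F) :
    ∃ ξ : Fˣ, ∀ a b : ℤ, (a - b).natAbs < 8 → ξ ^ a = ξ ^ b → a = b := by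
  classical
  obtain ⟨ξ, hξ⟩ := IsCyclic.exists_generator (α := Fˣ)
  have hord : orderOf ξ = Fintype.card F - 1 := by
    rw [orderOf_eq_card_of_forall_mem_zpowers hξ, Nat.card_eq_fintype_card, Fintype.card_units]
  refine ⟨ξ, fun a b hab e => ?_⟩
  have e1 : ξ ^ (a - b) = 1 := by rw [_root_.zpow_sub, e, mul_inv_cancel]
  rw [← orderOf_dvd_iff_zpow_eq_one, hord] at e1
  have h := Int.natAbs_dvd_natAbs.2 e1
  rw [Int.natAbs_natCast] at h
  by_contra hne
  have := Nat.le_of_dvd (Int.natAbs_pos.2 (sub_ne_zero.2 hne)) h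
  omega

/-- diagonal element of `GL` -/
def dGL (d : Fin k → Fˣ) : GL (Fin k) F :=
  ⟨Matrix.diagonal fun a => (d a : F), Matrix.diagonal fun a => (((d a)⁻¹ : Fˣ) : F),
    by simp [Matrix.diagonal_mul_diagonal], by simp [Matrix.diagonal_mul_diagonal]⟩

theorem dGL_det (d : Fin k → Fˣ) : (dGL d).1.det = ((∏ a, d a : Fˣ) : F) := by
  show (Matrix.diagonal fun a => (d a : F)).det = _
  rw [Matrix.det_diagonal, Units.coe_prod]

theorem conjSL_dGL_val (d : Fin k → Fˣ) (x : SpecialLinearGroup (Fin k) F) :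
    (conjSL (dGL d) x).1 =
      Matrix.diagonal (fun a => (d a : F)) * x.1 * Matrix.diagonal (fun a => (((d a)⁻¹ : Fˣ) : F)) := rfl

theorem mul_embM_apply {g : Fin l → I} (M : Matrix I I F) (Y : Matrix (Fin l) (Fin l) F) (a : I) {b : I}
    (hb : ∀ j, g j ≠ b) : (M * embM g Y) a b = M a b := by
  rw [Matrix.mul_apply, Finset.sum_eq_single b]
  · rw [embM_apply_right Y b hb, Matrix.one_apply_eq, mul_one]
  · intro c _ hc
    rw [embM_apply_right Y c hb, Matrix.one_apply_ne hc, mul_zero]
  · simp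

theorem embM_mul_apply {f : Fin k → I} (M : Matrix I I F) (X : Matrix (Fin k) (Fin k) F) {a : I}
    (ha : ∀ i, f i ≠ a) (b : I) : (embM f X * M) a b = M a b := by
  rw [Matrix.mul_apply, Finset.sum_eq_single a]
  · rw [embM_apply_left X ha, Matrix.one_apply_eq, one_mul]
  · intro c _ hc
    rw [embM_apply_left X ha, Matrix.one_apply_ne (Ne.symm hc), zero_mul]
  · simp

theorem pmat_diag (σ : Equiv.Perm I) (e : I → F) :
    pmat F σ * Matrix.diagonal e = Matrix.diagonal (fun a => e (σ⁻¹ a)) * pmat F σ := by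
  ext a b
  rw [Matrix.mul_diagonal, Matrix.diagonal_mul]
  simp only [pmat, Matrix.of_apply]
  split_ifs with h
  · subst h
    simp
  · simp

theorem pmat_det_ne (σ : Equiv.Perm I) : (pmat F σ).det ≠ 0 := by
  intro h
  have e := congrArg Matrix.det (pmat_mul (F := F) σ σ⁻¹)
  rw [mul_inv_cancel, pmat_one, Matrix.det_mul, h, zero_mul, Matrix.det_one] at e
  exact zero_ne_one e

theorem pmat_embM (σ : Equiv.Perm I) (f : Fin k → I) (X : Matrix (Fin k) (Fin k) F) :
    pmat F σ * embM f X = embM (σ ∘ f) X * pmat F σ := by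
  rw [← pmat_conj, Matrix.mul_assoc, pmat_mul, inv_mul_cancel, pmat_one, Matrix.mul_one]

theorem diag_embM_comm {f : Fin k → I} (hf : Function.Injective f) (d : I → Fˣ) (hd : ∀ i, d (f i) = 1)
    (X : Matrix (Fin k) (Fin k) F) :
    Matrix.diagonal (fun a => (d a : F)) * embM f X = embM f X * Matrix.diagonal (fun a => (d a : F)) := by
  have e := diag_conj_embM hf d X
  simp only [hd, inv_one, Units.val_one, Matrix.diagonal_one, Matrix.one_mul, Matrix.mul_one] at e
  have e1 := congrArg (· * Matrix.diagonal (fun a => (d a : F))) e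
  simp only [Matrix.mul_assoc, Matrix.diagonal_mul_diagonal, ← Units.val_mul, inv_mul_cancel, Units.val_one,
    Matrix.diagonal_one, Matrix.mul_one] at e1
  exact e1

/-- The principal submatrix of a unitriangular matrix. -/
theorem exists_block (M : Matrix I I F) (f : Fin k → I) (hd : ∀ i, M (f i) (f i) = 1)
    (h : ∀ i j : Fin k, (j : ℕ) < i → M (f i) (f j) = 0) :
    ∃ x : SpecialLinearGroup (Fin k) F, StrictUpper (x.1 - 1) ∧ ∀ i j, x.1 i j = M (f i) (f j) := by
  have hu : Matrix.BlockTriangular (M.submatrix f f) id := fun i j hij => h i j hij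
  refine ⟨⟨M.submatrix f f, ?_⟩, fun i j hij => ?_, fun i j => rfl⟩
  · rw [Matrix.det_of_upperTriangular hu]
    exact Finset.prod_eq_one fun i _ => hd i
  · rw [Matrix.sub_apply]
    rcases lt_or_eq_of_le hij with hlt | heq
    · rw [Matrix.one_apply_ne (fun e => by subst e; omega), sub_zero]
      exact h i j hlt
    · obtain rfl : j = i := Fin.ext heq
      rw [Matrix.one_apply_eq, sub_eq_zero]
      exact hd j

/-- The principal submatrix of a lower unitriangular matrix. -/
theorem exists_block_low (M : Matrix I I F) (f : Fin k → I) (hd : ∀ i, M (f i) (f i) = 1)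
    (h : ∀ i j : Fin k, (i : ℕ) < j → M (f i) (f j) = 0) :
    ∃ x : SpecialLinearGroup (Fin k) F, StrictUpper (x.1 - 1)ᵀ ∧ ∀ i j, x.1 i j = M (f i) (f j) := by
  obtain ⟨x, h1, h2⟩ := exists_block Mᵀ f hd fun i j hij => h j i hij
  refine ⟨x.transpose, ?_, fun i j => h2 j i⟩
  show StrictUpper (x.1ᵀ - 1)ᵀ
  rw [Matrix.transpose_sub, Matrix.transpose_transpose, Matrix.transpose_one]
  exact h1

theorem prod_zpow_total {G ι : Type*} [CommGroup G] (s : Finset ι) (x : G) (f : ι → ℤ) :
    ∏ i ∈ s, x ^ f i = x ^ ∑ i ∈ s, f i := by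
  classical
  induction s using Finset.induction_on with
  | empty => simp
  | insert a s ha ih => rw [Finset.prod_insert ha, Finset.sum_insert ha, ih, _root_.zpow_add]

end Cfsg.Agent.ClassSquare.Mat
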