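/-
Matrix groups with a hyperbolic pair of index maps and a general linear Levi subgroup: the rank one data
of the symplectic and orthogonal groups, up to the last node.
-/
import Cfsg.Agent.Lib.ClassSquare.TypeA
import Cfsg.Agent.Lib.ClassSquare.Units

set_option autoImplicit false
set_option linter.style.haveILetI false

namespace Cfsg.Agent.ClassSquare.Mat

open Cfsg.Agent.SL2Pres (up low)
open Cfsg.Agent.ClassSquare.TypeA (φA pi' pi'_inj mem_pi' diagA)
open Matrix (SpecialLinearGroup)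
open scoped Matrix

universe u v z

variable {F : Type v} [Field F] {I : Type z} [Fintype I] [DecidableEq I]

section lemmas

variable {k l m : ℕ}

theorem embM_comp (e : Fin m → I) (p : Fin k → Fin m) (X : Matrix (Fin k) (Fin k) F) :
    embM e (embM p X) = embM (e ∘ p) X := by
  have h : sel F e * sel F p = sel F (e ∘ p) := by
    ext a i
    simp [sel, Matrix.mul_apply]
  rw [embM, embM, embM, add_sub_cancel_left, ← h, Matrix.transpose_mul]
  simp only [Matrix.mul_assoc]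

theorem embM_transpose (e : Fin k → I) (X : Matrix (Fin k) (Fin k) F) : (embM e X)ᵀ = embM e Xᵀ := by
  rw [embM, embM, Matrix.transpose_add, Matrix.transpose_one, Matrix.transpose_mul, Matrix.transpose_mul,
    Matrix.transpose_transpose, Matrix.transpose_sub, Matrix.transpose_one, Matrix.mul_assoc]

theorem two_block_left {f : Fin k → I} {g : Fin l → I} (hf : Function.Injective f) (h : ∀ i j, f i ≠ g j)
    (X : Matrix (Fin k) (Fin k) F) (Y : Matrix (Fin l) (Fin l) F) (i j : Fin k) :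
    (embM f X * embM g Y) (f i) (f j) = X i j := by
  rw [mul_embM_apply _ _ _ (fun c => (h j c).symm), embM_apply_mem hf]

theorem two_block_right {f : Fin k → I} {g : Fin l → I} (hg : Function.Injective g) (h : ∀ i j, f i ≠ g j)
    (X : Matrix (Fin k) (Fin k) F) (Y : Matrix (Fin l) (Fin l) F) (i j : Fin l) :
    (embM f X * embM g Y) (g i) (g j) = Y i j := by
  rw [embM_mul_apply _ _ (fun c => h c i), embM_apply_mem hg]

theorem two_block_off {f : Fin k → I} {g : Fin l → I} (X : Matrix (Fin k) (Fin k) F)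
    (Y : Matrix (Fin l) (Fin l) F) {a : I} (ha : ∀ i, f i ≠ a) (hb : ∀ j, g j ≠ a) (b : I) :
    (embM f X * embM g Y) a b = (1 : Matrix I I F) a b := by
  rw [embM_mul_apply _ _ ha, embM_apply_left _ hb]

theorem BL.inv_adjacent {f : I → ℕ} {u u' : Matrix I I F} (hu : BL f u) (hu' : BL f u') (h : u' * u = 1) {a b : I}
    (hab : f a < f b) (hgap : ∀ c, c ≠ a → c ≠ b → ¬(f a < f c ∧ f c < f b)) : u' b a = -u b a := by
  have h1 : uᵀ * u'ᵀ = 1 := by rw [← Matrix.transpose_mul, h, Matrix.transpose_one]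
  have hT : ∀ {M : Matrix I I F}, BL f M → BU f Mᵀ := fun hM x y hxy => by
    rw [Matrix.transpose_apply, hM y x hxy, Matrix.one_apply, Matrix.one_apply]
    exact if_congr eq_comm rfl rfl
  exact BU.inv_adjacent (hT hu) (hT hu') h1 hab hgap

theorem inv_up_val (t : F) : ((up t)⁻¹).1ᵀ = !![1, 0; -t, 1] := by
  show (Matrix.adjugate (up t).1)ᵀ = _
  rw [SL2Pres.up_val, Matrix.adjugate_fin_two]
  ext i j; fin_cases i <;> fin_cases j <;> simp

theorem inv_low_val (t : F) : ((low t)⁻¹).1ᵀ = !![1, -t; 0, 1] := by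
  show (Matrix.adjugate (low t).1)ᵀ = _
  rw [SL2Pres.low_val, Matrix.adjugate_fin_two]
  ext i j; fin_cases i <;> fin_cases j <;> simp

theorem diagA_inv (d : Fin m → Fˣ) (h : ∏ a, d a = 1) :
    ((diagA d h)⁻¹).1 = Matrix.diagonal fun a => (((d a)⁻¹ : Fˣ) : F) := by
  have h1 : diagA d h * diagA (fun a => (d a)⁻¹) (by rw [Finset.prod_inv_distrib, h, inv_one]) = 1 :=
    Subtype.ext (by
      show Matrix.diagonal _ * Matrix.diagonal _ = 1
      rw [Matrix.diagonal_mul_diagonal]; simp)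
  rw [inv_eq_of_mul_eq_one_right h1]
  rfl

end lemmas

/-- A matrix group with a pair of index maps and a general linear Levi subgroup. -/
structure Hy (G : Type u) [Group G] (F : Type v) [Field F] (I : Type z) [Fintype I] [DecidableEq I] (m : ℕ) where
  ρ : G →* Matrix I I F
  ρ_inj : Function.Injective ρ
  e : Fin m → I
  f : Fin m → I
  e_inj : Function.Injective e
  f_inj : Function.Injective f
  disj : ∀ i j, e i ≠ f j
  fine : I → ℕ
  fine_inj : Function.Injective fine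
  fine_e : ∀ i, fine (e i) = i
  fine_f : ∀ i, fine (f i) + i = 2 * m
  fine_mid : ∀ a, (∀ i, e i ≠ a) → (∀ i, f i ≠ a) → fine a = m
  pos : I → ℕ
  pos_mono : ∀ a b, fine a ≤ fine b → pos a ≤ pos b
  pos_e : ∀ i, pos (e i) = i
  tie_U : ∀ g, BU fine (ρ g) → BU pos (ρ g)
  tie_V : ∀ g, BL fine (ρ g) → BL pos (ρ g)
  dual : ∀ g a b, ρ g⁻¹ (e a) (e b) = ρ g (f b) (f a)
  ψ : SpecialLinearGroup (Fin m) F →* G
  ψ_val : ∀ x, ρ (ψ x) = embM e x.1 * embM f (x⁻¹).1ᵀ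

namespace Hy

variable {G : Type u} [Group G] {m : ℕ} (H : Hy G F I m)

theorem cases_a (a : I) : (∃ i, H.e i = a) ∨ (∃ i, H.f i = a) ∨ ((∀ i, H.e i ≠ a) ∧ ∀ i, H.f i ≠ a) := by
  by_cases h1 : ∃ i, H.e i = a
  · exact Or.inl h1
  by_cases h2 : ∃ i, H.f i = a
  · exact Or.inr (Or.inl h2)
  push Not at h1 h2
  exact Or.inr (Or.inr ⟨h1, h2⟩)

/-- a torus function -/
def dd (d : Fin m → Fˣ) (a : I) : Fˣ :=
  (∏ j, if H.e j = a then d j else 1) * ∏ j, if H.f j = a then (d j)⁻¹ else 1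

theorem dd_e (d : Fin m → Fˣ) (i : Fin m) : H.dd d (H.e i) = d i := by
  simp [dd, H.e_inj.eq_iff, fun j => (H.disj i j).symm]

theorem dd_f (d : Fin m → Fˣ) (i : Fin m) : H.dd d (H.f i) = (d i)⁻¹ := by
  simp [dd, H.f_inj.eq_iff, fun j => H.disj j i]

theorem dd_mid (d : Fin m → Fˣ) {a : I} (he : ∀ i, H.e i ≠ a) (hf : ∀ i, H.f i ≠ a) : H.dd d a = 1 := by
  simp [dd, he, hf]

/-- a weight function -/
def wv (v : Fin m → ℤ) (a : I) : ℤ :=
  (∑ j, if H.e j = a then v j else 0) - ∑ j, if H.f j = a then v j else 0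

theorem wv_e (v : Fin m → ℤ) (i : Fin m) : H.wv v (H.e i) = v i := by
  simp [wv, H.e_inj.eq_iff, fun j => (H.disj i j).symm]

theorem wv_f (v : Fin m → ℤ) (i : Fin m) : H.wv v (H.f i) = -v i := by
  simp [wv, H.f_inj.eq_iff, fun j => H.disj j i]

theorem wv_mid (v : Fin m → ℤ) {a : I} (he : ∀ i, H.e i ≠ a) (hf : ∀ i, H.f i ≠ a) : H.wv v a = 0 := by
  simp [wv, he, hf]

theorem dd_zpow (c : Fˣ) (v : Fin m → ℤ) (a : I) : H.dd (fun j => c ^ v j) a = c ^ H.wv v a := by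
  rcases H.cases_a a with ⟨i, rfl⟩ | ⟨i, rfl⟩ | ⟨h1, h2⟩
  · rw [H.dd_e, H.wv_e]
  · rw [H.dd_f, H.wv_f, _root_.zpow_neg]
  · rw [H.dd_mid _ h1 h2, H.wv_mid _ h1 h2, zpow_zero]

theorem dd_mul (d d' : Fin m → Fˣ) (a : I) : H.dd (fun j => d j * d' j) a = H.dd d a * H.dd d' a := by
  rcases H.cases_a a with ⟨i, rfl⟩ | ⟨i, rfl⟩ | ⟨h1, h2⟩
  · simp only [H.dd_e]
  · simp only [H.dd_f, mul_inv]
  · simp only [H.dd_mid _ h1 h2, mul_one]

/-- The Levi subgroup on diagonal elements. -/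
theorem ψ_diag (d : Fin m → Fˣ) (h : ∏ a, d a = 1) :
    H.ρ (H.ψ (diagA d h)) = Matrix.diagonal fun a => (H.dd d a : F) := by
  rw [H.ψ_val, diagA_inv, Matrix.diagonal_transpose]
  show embM H.e (Matrix.diagonal fun a => (d a : F)) * _ = _
  rw [embM_diag H.e_inj, embM_diag H.f_inj, Matrix.diagonal_mul_diagonal]
  congr 1
  funext a
  rcases H.cases_a a with ⟨i, rfl⟩ | ⟨i, rfl⟩ | ⟨h1, h2⟩
  · simp [H.dd_e, H.e_inj.eq_iff, fun j => (H.disj i j).symm]
  · simp [H.dd_f, H.f_inj.eq_iff, fun j => H.disj j i]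
  · simp [H.dd_mid _ h1 h2, h1, h2]

/-- pairs of a node -/
def ep (i : Fin (m - 1)) : Fin 2 → I := H.e ∘ pi' m i

/-- pairs of a node -/
def fp (i : Fin (m - 1)) : Fin 2 → I := H.f ∘ pi' m i

theorem ep_inj (i : Fin (m - 1)) : Function.Injective (H.ep i) := H.e_inj.comp (pi'_inj m i)

theorem fp_inj (i : Fin (m - 1)) : Function.Injective (H.fp i) := H.f_inj.comp (pi'_inj m i)

theorem epfp (i : Fin (m - 1)) (k l : Fin 2) : H.ep i k ≠ H.fp i l := H.disj _ _

theorem fine_ep (i : Fin (m - 1)) (k : Fin 2) : H.fine (H.ep i k) = (i : ℕ) + k := by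
  fin_cases k <;> simp [ep, pi', pr, H.fine_e]

theorem fine_fp (i : Fin (m - 1)) (k : Fin 2) : H.fine (H.fp i k) + (i : ℕ) + k = 2 * m := by
  have h := H.fine_f (pi' m i k)
  fin_cases k <;> simp [fp, pi', pr] at h ⊢ <;> omega

/-- the grading of a node -/
def blkH (i : Fin (m - 1)) (a : I) : ℕ :=
  if H.fine a ≤ i then H.fine a else if H.fine a + i < 2 * m then H.fine a - 1 else H.fine a - 2

theorem blkH_mono (i : Fin (m - 1)) {a b : I} (h : H.fine a ≤ H.fine b) : H.blkH i a ≤ H.blkH i b := by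
  have := i.2
  simp only [blkH]
  split_ifs <;> omega

theorem blkH_ep (i : Fin (m - 1)) (k : Fin 2) : H.blkH i (H.ep i k) = i := by
  have := i.2
  have := H.fine_ep i k
  have := k.2
  simp only [blkH]
  split_ifs <;> omega

theorem blkH_fp (i : Fin (m - 1)) (k : Fin 2) : H.blkH i (H.fp i k) = 2 * m - (i : ℕ) - 2 := by
  have := i.2
  have := H.fine_fp i k
  have := k.2
  simp only [blkH]
  split_ifs <;> omega

theorem blkH_eq {i : Fin (m - 1)} {a b : I} (h : H.blkH i a = H.blkH i b) :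
    a = b ∨ ((∃ k, H.ep i k = a) ∧ ∃ k, H.ep i k = b) ∨ ((∃ k, H.fp i k = a) ∧ ∃ k, H.fp i k = b) := by
  by_cases hab : a = b
  · exact Or.inl hab
  have hne : H.fine a ≠ H.fine b := fun e => hab (H.fine_inj e)
  have := i.2
  have key : ∀ c, (H.fine c = i → H.ep i 0 = c) ∧ (H.fine c = (i : ℕ) + 1 → H.ep i 1 = c) ∧
      (H.fine c + i = 2 * m → H.fp i 0 = c) ∧ (H.fine c + i + 1 = 2 * m → H.fp i 1 = c) := fun c => by
    have := H.fine_ep i 0; have := H.fine_ep i 1; have := H.fine_fp i 0; have := H.fine_fp i 1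
    refine ⟨fun e => H.fine_inj ?_, fun e => H.fine_inj ?_, fun e => H.fine_inj ?_, fun e => H.fine_inj ?_⟩ <;>
      simp at * <;> omega
  simp only [blkH] at h
  rcases (by split_ifs at h <;> omega :
      (H.fine a = i ∧ H.fine b = (i : ℕ) + 1) ∨ (H.fine b = i ∧ H.fine a = (i : ℕ) + 1) ∨
      (H.fine a + i = 2 * m ∧ H.fine b + i + 1 = 2 * m) ∨ (H.fine b + i = 2 * m ∧ H.fine a + i + 1 = 2 * m))
    with ⟨h1, h2⟩ | ⟨h1, h2⟩ | ⟨h1, h2⟩ | ⟨h1, h2⟩
  · exact Or.inr (Or.inl ⟨⟨0, (key a).1 h1⟩, ⟨1, (key b).2.1 h2⟩⟩)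
  · exact Or.inr (Or.inl ⟨⟨1, (key a).2.1 h2⟩, ⟨0, (key b).1 h1⟩⟩)
  · exact Or.inr (Or.inr ⟨⟨0, (key a).2.2.1 h1⟩, ⟨1, (key b).2.2.2 h2⟩⟩)
  · exact Or.inr (Or.inr ⟨⟨1, (key a).2.2.2 h2⟩, ⟨0, (key b).2.2.1 h1⟩⟩)

/-- rank one subgroup of an adjacent node -/
def φH (i : Fin (m - 1)) : SpecialLinearGroup (Fin 2) F →* G := H.ψ.comp (φA F m i)

theorem φH_val (i : Fin (m - 1)) (x : SpecialLinearGroup (Fin 2) F) :
    H.ρ (H.φH i x) = embM (H.ep i) x.1 * embM (H.fp i) (x⁻¹).1ᵀ := by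
  show H.ρ (H.ψ (φA F m i x)) = _
  rw [H.ψ_val, ← map_inv]
  show embM H.e (embM (pi' m i) x.1) * embM H.f (embM (pi' m i) (x⁻¹).1)ᵀ = _
  rw [embM_transpose, embM_comp, embM_comp]
  rfl

/-- adjacent weight -/
def vA (i : ℕ) (j : Fin m) : ℤ := (if (j : ℕ) = i then 1 else 0) - (if (j : ℕ) = i + 1 then 1 else 0)

theorem φH_dg [Finite F] (i : Fin (m - 1)) (c : Fˣ) :
    H.ρ (H.φH i (dg c)) = Matrix.diagonal fun a => ((c ^ H.wv (vA i) a : Fˣ) : F) := by
  have hn : 2 ≤ m := by have := i.2; omega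
  have h0 := (TypeA.matDatum (F := F) (n := m) hn).φ_dg i c
  have hd : ∏ a : Fin m, c ^ vA (i : ℕ) a = 1 := by
    have := congrArg Matrix.det h0
    rw [Matrix.det_diagonal, ← Units.coe_prod] at this
    refine Units.ext (this.symm.trans ?_)
    exact (φA F m i (dg c)).2
  have e : φA F m i (dg c) = diagA (fun a => c ^ vA (i : ℕ) a) hd := Subtype.ext h0
  show H.ρ (H.ψ (φA F m i (dg c))) = _
  rw [e, H.ψ_diag]
  simp only [H.dd_zpow]

theorem φH_bd (i : Fin (m - 1)) (x : SpecialLinearGroup (Fin 2) F) : BD (H.blkH i) (H.ρ (H.φH i x)) := by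
  rw [H.φH_val]
  exact BD.mul (embM_bd (H.ep_inj i) _ fun k l h => absurd (by rw [H.blkH_ep, H.blkH_ep]) h)
    (embM_bd (H.fp_inj i) _ fun k l h => absurd (by rw [H.blkH_fp, H.blkH_fp]) h)

theorem pos_ep (i : Fin (m - 1)) (k : Fin 2) : H.pos (H.ep i k) = (i : ℕ) + k := by
  fin_cases k <;> simp [ep, pi', pr, H.pos_e]

theorem pos_fp (i : Fin (m - 1)) : H.pos (H.fp i 1) ≤ H.pos (H.fp i 0) :=
  H.pos_mono _ _ (by have := H.fine_fp i 0; have := H.fine_fp i 1; simp at *; omega)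

theorem φH_up (i : Fin (m - 1)) (t : F) :
    BU H.pos (H.ρ (H.φH i (up t))) ∧ H.ρ (H.φH i (up t)) (H.ep i 0) (H.ep i 1) = t := by
  refine ⟨H.tie_U _ ?_, ?_⟩
  · rw [H.φH_val, inv_up_val, SL2Pres.up_val]
    refine BU.mul (embM_BU (H.ep_inj i) _ fun k l h => ?_) (embM_BU (H.fp_inj i) _ fun k l h => ?_)
    · rw [H.fine_ep, H.fine_ep] at h
      fin_cases k <;> fin_cases l <;> simp at h ⊢
    · have := H.fine_fp i k; have := H.fine_fp i l
      fin_cases k <;> fin_cases l <;> simp at * <;> omega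
  · rw [H.φH_val, two_block_left (H.ep_inj i) (H.epfp i), SL2Pres.up_val]; rfl

theorem φH_low (i : Fin (m - 1)) (t : F) :
    BL H.pos (H.ρ (H.φH i (low t))) ∧ H.ρ (H.φH i (low t)) (H.ep i 1) (H.ep i 0) = t := by
  refine ⟨H.tie_V _ ?_, ?_⟩
  · rw [H.φH_val, inv_low_val, SL2Pres.low_val]
    refine BL.mul (embM_BL (H.ep_inj i) _ fun k l h => ?_) (embM_BL (H.fp_inj i) _ fun k l h => ?_)
    · rw [H.fine_ep, H.fine_ep] at h
      fin_cases k <;> fin_cases l <;> simp at h ⊢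
    · have := H.fine_fp i k; have := H.fine_fp i l
      fin_cases k <;> fin_cases l <;> simp at * <;> omega
  · rw [H.φH_val, two_block_left (H.ep_inj i) (H.epfp i), SL2Pres.low_val]; rfl

theorem block_eq (i : Fin (m - 1)) (M : Matrix I I F) (x : SpecialLinearGroup (Fin 2) F) (hd : ∀ a, M a a = 1)
    (he : ∀ k l, M (H.ep i k) (H.ep i l) = x.1 k l)
    (hf : ∀ k l, M (H.fp i k) (H.fp i l) = (x⁻¹).1ᵀ k l) {a b : I} (hab : H.blkH i a = H.blkH i b) :
    M a b = H.ρ (H.φH i x) a b := by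
  rw [H.φH_val]
  by_cases ha : ∃ k, H.ep i k = a
  · obtain ⟨k, rfl⟩ := ha
    obtain ⟨l, rfl⟩ : ∃ l, H.ep i l = b := by
      rcases H.blkH_eq hab with rfl | ⟨-, h⟩ | ⟨⟨l, hl⟩, -⟩
      exacts [⟨k, rfl⟩, h, absurd hl.symm (H.epfp i k l)]
    rw [he, two_block_left (H.ep_inj i) (H.epfp i)]
  by_cases ha' : ∃ k, H.fp i k = a
  · obtain ⟨k, rfl⟩ := ha'
    obtain ⟨l, rfl⟩ : ∃ l, H.fp i l = b := by
      rcases H.blkH_eq hab with rfl | ⟨h, -⟩ | ⟨-, h⟩
      exacts [⟨k, rfl⟩, absurd h ha, h]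
    rw [hf, two_block_right (H.fp_inj i) (H.epfp i)]
  rcases H.blkH_eq hab with rfl | ⟨h, -⟩ | ⟨h, -⟩
  · push Not at ha ha'
    rw [two_block_off _ _ ha ha', Matrix.one_apply_eq, hd]
  · exact absurd h ha
  · exact absurd h ha'

theorem gap (i : Fin (m - 1)) (c : I) : ¬(H.pos (H.ep i 0) < H.pos c ∧ H.pos c < H.pos (H.ep i 1)) := by
  rw [H.pos_ep, H.pos_ep]; simp only [Fin.val_zero, Fin.val_one]; omega

variable [Finite G]

theorem splitU (i : Fin (m - 1)) (g : G) (hg : BU H.pos (H.ρ g)) {a b : I} (hab : H.blkH i a = H.blkH i b) :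
    H.ρ g a b = H.ρ (H.φH i (up (H.ρ g (H.ep i 0) (H.ep i 1)))) a b := by
  have hd : ∀ a, H.ρ g a a = 1 := fun a => (hg a a le_rfl).trans (Matrix.one_apply_eq a)
  have hlt : H.pos (H.ep i 0) < H.pos (H.ep i 1) := by rw [H.pos_ep, H.pos_ep]; simp
  have hi : H.ρ g⁻¹ (H.ep i 0) (H.ep i 1) = -H.ρ g (H.ep i 0) (H.ep i 1) :=
    BU.inv_adjacent hg ((buSub H.ρ H.pos).inv_mem hg) (by rw [← map_mul, mul_inv_cancel, map_one]) hlt
      fun c _ _ => H.gap i c
  refine H.block_eq i _ _ hd (fun k l => ?_) (fun k l => ?_) hab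
  · rw [SL2Pres.up_val]
    fin_cases k <;> fin_cases l <;> simp [hd]
    exact (hg _ _ hlt.le).trans (Matrix.one_apply_ne fun e => absurd ((H.ep_inj i) e) (by simp))
  · rw [inv_up_val]
    fin_cases k <;> fin_cases l <;> simp [hd]
    · exact (hg _ _ (H.pos_fp i)).trans (Matrix.one_apply_ne fun e => absurd ((H.fp_inj i) e) (by simp))
    · exact (H.dual g _ _).symm.trans hi

theorem splitV (i : Fin (m - 1)) (g : G) (hg : BL H.pos (H.ρ g)) {a b : I} (hab : H.blkH i a = H.blkH i b) :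
    H.ρ g a b = H.ρ (H.φH i (low (H.ρ g (H.ep i 1) (H.ep i 0)))) a b := by
  have hd : ∀ a, H.ρ g a a = 1 := fun a => (hg a a le_rfl).trans (Matrix.one_apply_eq a)
  have hlt : H.pos (H.ep i 0) < H.pos (H.ep i 1) := by rw [H.pos_ep, H.pos_ep]; simp
  have hi : H.ρ g⁻¹ (H.ep i 1) (H.ep i 0) = -H.ρ g (H.ep i 1) (H.ep i 0) :=
    BL.inv_adjacent hg ((blSub H.ρ H.pos).inv_mem hg) (by rw [← map_mul, inv_mul_cancel, map_one]) hlt
      fun c _ _ => H.gap i c
  refine H.block_eq i _ _ hd (fun k l => ?_) (fun k l => ?_) hab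
  · rw [SL2Pres.low_val]
    fin_cases k <;> fin_cases l <;> simp [hd]
    exact (hg _ _ hlt.le).trans (Matrix.one_apply_ne fun e => absurd ((H.ep_inj i) e) (by simp))
  · rw [inv_low_val]
    fin_cases k <;> fin_cases l <;> simp [hd]
    · exact (H.dual g _ _).symm.trans hi
    · exact (hg _ _ (H.pos_fp i)).trans (Matrix.one_apply_ne fun e => absurd ((H.fp_inj i) e) (by simp))

end Hy

end Cfsg.Agent.ClassSquare.Mat
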