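/-
The rank one data of a matrix group with a hyperbolic pair of index maps, from the data of its last node.
-/
import Cfsg.Agent.Lib.ClassSquare.Hyp

set_option autoImplicit false
set_option linter.style.haveILetI false

namespace Cfsg.Agent.ClassSquare.Mat

open Cfsg.Agent.SL2Pres (up low)
open Cfsg.Agent.ClassSquare.TypeA (φA)
open Matrix (SpecialLinearGroup)
open scoped Matrix

universe u v z

variable {F : Type v} [Field F] {I : Type z} [Fintype I] [DecidableEq I]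
variable {G : Type u} [Group G] {m : ℕ}

/-- The last node. -/
structure Lst (H : Hy G F I m) where
  two : 2 ≤ m
  φl : SpecialLinearGroup (Fin 2) F →* G
  blk : I → ℕ
  blk_mono : ∀ a b, blk b < blk a → H.pos b ≤ H.pos a
  v : Fin m → ℤ
  v_diff : ∀ j k : Fin m, (j : ℕ) + 1 = k →
    (v j - v k).natAbs ≤ (if (j : ℕ) + 2 = m then 2 else 0) + (if (j : ℕ) + 3 = m then 1 else 0)
  p : I
  q : I
  al : (Fin m → ℤ) → ℤ
  al_spec : ∀ u, H.wv u p - H.wv u q = al u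
  al_self : al v = 2
  al_bound : ∀ i : ℕ, i + 1 < m → (al (Hy.vA i)).natAbs ≤ 2
  link : ∃ j k : Fin m, (j : ℕ) + 1 = k ∧ al (Hy.vA j) ≠ 0 ∧ v j - v k ≠ 0
  pq : blk p = blk q
  φ_dg : ∀ c : Fˣ, H.ρ (φl (dg c)) = Matrix.diagonal fun a => ((c ^ H.wv v a : Fˣ) : F)
  φ_bd : ∀ x, BD blk (H.ρ (φl x))
  φ_up : ∀ t, BU H.pos (H.ρ (φl (up t))) ∧ H.ρ (φl (up t)) p q = t
  /-- the coordinate of the lower root subgroup -/
  sc : Fˣ
  φ_low : ∀ t, BL H.pos (H.ρ (φl (low t))) ∧ H.ρ (φl (low t)) q p = sc * t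
  splitU : ∀ g, BU H.pos (H.ρ g) → ∀ a b, blk a = blk b → H.ρ g a b = H.ρ (φl (up (H.ρ g p q))) a b
  splitV : ∀ g, BL H.pos (H.ρ g) → ∀ a b, blk a = blk b → H.ρ g a b = H.ρ (φl (low ((sc⁻¹ : Fˣ) * H.ρ g q p))) a b
  sub_U : ∀ g, BU blk (H.ρ g) → BU H.pos (H.ρ g)
  sub_V : ∀ g, BL blk (H.ρ g) → BL H.pos (H.ρ g)
  w_col : ∃ k l : Fin m, (l : ℕ) + 1 = m ∧ ∃ c : F, c ≠ 0 ∧
    ∀ b, H.ρ (φl (up 1 * low (-1) * up 1)) b (H.e k) = if b = H.f l then c else 0
  gen : ∀ K : Subgroup G, H.ψ.range ≤ K → φl.range ≤ K → K = ⊤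
  rigid : ∀ g, (∀ i b, H.ρ g b (H.e i) = (1 : Matrix I I F) b (H.e i) ∧
    H.ρ g b (H.f i) = (1 : Matrix I I F) b (H.f i)) → (BU H.pos (H.ρ g) ∨ BL H.pos (H.ρ g)) → g = 1

namespace Lst

variable {H : Hy G F I m} (L : Lst H)

/-- the rank one subgroups -/
def φ (i : Fin m) : SpecialLinearGroup (Fin 2) F →* G :=
  if h : (i : ℕ) + 1 < m then H.φH ⟨i, by omega⟩ else L.φl

/-- the gradings -/
def bl (i : Fin m) : I → ℕ :=
  if h : (i : ℕ) + 1 < m then H.blkH ⟨i, by omega⟩ else L.blk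

/-- weight vectors -/
def vv (i : Fin m) : Fin m → ℤ := if (i : ℕ) + 1 < m then Hy.vA i else L.v

/-- the first index -/
def pp (i : Fin m) : I := if h : (i : ℕ) + 1 < m then H.ep ⟨i, by omega⟩ 0 else L.p

/-- the second index -/
def qq (i : Fin m) : I := if h : (i : ℕ) + 1 < m then H.ep ⟨i, by omega⟩ 1 else L.q

theorem adj {i : Fin m} (h : (i : ℕ) + 1 < m) : L.φ i = H.φH ⟨i, by omega⟩ ∧ L.bl i = H.blkH ⟨i, by omega⟩ ∧
    L.vv i = Hy.vA i ∧ L.pp i = H.ep ⟨i, by omega⟩ 0 ∧ L.qq i = H.ep ⟨i, by omega⟩ 1 := by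
  simp [φ, bl, vv, pp, qq, h]

theorem last {i : Fin m} (h : ¬(i : ℕ) + 1 < m) :
    L.φ i = L.φl ∧ L.bl i = L.blk ∧ L.vv i = L.v ∧ L.pp i = L.p ∧ L.qq i = L.q := by
  simp [φ, bl, vv, pp, qq, h]

theorem pair_last {i : Fin m} (h : ¬(i : ℕ) + 1 < m) (u : Fin m → ℤ) :
    H.wv u (L.pp i) - H.wv u (L.qq i) = L.al u := by
  obtain ⟨-, -, -, h4, h5⟩ := L.last h
  rw [h4, h5, L.al_spec]

theorem pair_adj {i j : Fin m} (h : (i : ℕ) + 1 = j) (u : Fin m → ℤ) :
    H.wv u (L.pp i) - H.wv u (L.qq i) = u i - u j := by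
  obtain ⟨-, -, -, h4, h5⟩ := L.adj (i := i) (by have := j.2; omega)
  rw [h4, h5, show H.ep ⟨(i : ℕ), _⟩ 0 = H.e i from rfl,
    show H.ep ⟨(i : ℕ), _⟩ 1 = H.e j from congrArg H.e (Fin.ext h), H.wv_e, H.wv_e]

theorem A_self (i : Fin m) : H.wv (L.vv i) (L.pp i) - H.wv (L.vv i) (L.qq i) = 2 := by
  by_cases h : (i : ℕ) + 1 < m
  · rw [L.pair_adj (j := ⟨i + 1, h⟩) rfl, (L.adj h).2.2.1]
    simp [Hy.vA]
  · rw [L.pair_last h, (L.last h).2.2.1, L.al_self]

theorem A_sum (i : Fin m) : (∑ j, (H.wv (L.vv i) (L.pp j) - H.wv (L.vv i) (L.qq j)).natAbs) ≤ 6 := by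
  by_cases hi : (i : ℕ) + 1 < m
  · refine sum_le_of_support _ (fun j : Fin m => (if (j : ℕ) = i then 2 else 0) +
      (if (j : ℕ) = (i : ℕ) + 1 then 1 else 0) + (if (j : ℕ) + 1 = i then 1 else 0) +
      (if (j : ℕ) = m - 1 then 2 else 0)) 6 (fun j => ?_) ?_
    · rw [(L.adj hi).2.2.1]
      by_cases hj : (j : ℕ) + 1 < m
      · rw [L.pair_adj (j := ⟨j + 1, hj⟩) rfl]
        simp only [Hy.vA]
        split_ifs <;> omega
      · rw [L.pair_last hj]
        have := L.al_bound i hi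
        rw [if_pos (show (j : ℕ) = m - 1 by have := j.2; omega)]
        omega
    · rw [Finset.sum_add_distrib, Finset.sum_add_distrib, Finset.sum_add_distrib]
      have h1 := sum_ite_val_le (N := m) 2 i
      have h2 := sum_ite_val_le (N := m) 1 ((i : ℕ) + 1)
      have h3 : ∑ j : Fin m, (if (j : ℕ) + 1 = i then 1 else 0) ≤ 1 := by
        refine le_trans (Finset.sum_le_sum fun j _ => ?_) (sum_ite_val_le 1 ((i : ℕ) - 1))
        split_ifs <;> omega
      have h4 := sum_ite_val_le (N := m) 2 (m - 1)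
      omega
  · refine sum_le_of_support _ (fun j : Fin m => (if (j : ℕ) = m - 1 then 2 else 0) +
      (if (j : ℕ) = m - 2 then 2 else 0) + (if (j : ℕ) = m - 3 then 1 else 0)) 6 (fun j => ?_) ?_
    · rw [(L.last hi).2.2.1]
      by_cases hj : (j : ℕ) + 1 < m
      · rw [L.pair_adj (j := ⟨j + 1, hj⟩) rfl]
        refine (L.v_diff j ⟨j + 1, hj⟩ rfl).trans ?_
        split_ifs <;> omega
      · rw [L.pair_last hj, L.al_self, if_pos (show (j : ℕ) = m - 1 by have := j.2; omega)]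
        omega
    · rw [Finset.sum_add_distrib, Finset.sum_add_distrib]
      have h1 := sum_ite_val_le (N := m) 2 (m - 1)
      have h2 := sum_ite_val_le (N := m) 2 (m - 2)
      have h3 := sum_ite_val_le (N := m) 1 (m - 3)
      omega

theorem connected (S : Set (Fin m)) (hS : S.Nonempty) (hne : S ≠ Set.univ) :
    ∃ i ∈ S, ∃ j ∉ S, H.wv (L.vv i) (L.pp j) - H.wv (L.vv i) (L.qq j) ≠ 0 := by
  have htwo := L.two
  have hadj : ∀ i j : Fin m, (i : ℕ) + 1 = j → (j : ℕ) + 1 < m →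
      H.wv (L.vv i) (L.pp j) - H.wv (L.vv i) (L.qq j) ≠ 0 ∧ H.wv (L.vv j) (L.pp i) - H.wv (L.vv j) (L.qq i) ≠ 0 := by
    intro i j hij hj
    rw [(L.adj hj).2.2.1, L.pair_adj hij, (L.adj (i := i) (by omega)).2.2.1,
      L.pair_adj (j := ⟨j + 1, hj⟩) rfl]
    simp only [Hy.vA]
    constructor <;> split_ifs <;> omega
  obtain ⟨last, hlast⟩ : ∃ last : Fin m, (last : ℕ) = m - 1 := ⟨⟨m - 1, by omega⟩, rfl⟩
  have hl : ¬(last : ℕ) + 1 < m := by omega
  obtain ⟨j, k, hjk, ha, hv⟩ := L.link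
  have hj : (j : ℕ) + 1 < m := by have := k.2; omega
  have hlj : H.wv (L.vv last) (L.pp j) - H.wv (L.vv last) (L.qq j) ≠ 0 ∧
      H.wv (L.vv j) (L.pp last) - H.wv (L.vv j) (L.qq last) ≠ 0 := by
    rw [(L.last hl).2.2.1, (L.adj hj).2.2.1, L.pair_adj hjk, L.pair_last hl]
    exact ⟨hv, ha⟩
  by_contra hc
  push Not at hc
  obtain ⟨up', hup⟩ : ∃ up' : Fin (m - 1) → Fin m, ∀ a, (up' a : ℕ) = a :=
    ⟨fun a => ⟨a, by have := a.2; omega⟩, fun _ => rfl⟩
  have hchain : up' ⁻¹' S = ∅ ∨ up' ⁻¹' S = Set.univ := by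
    by_contra h
    push Not at h
    obtain ⟨a, ha', b, hb', hab⟩ := chain_connected
      (fun a b : Fin (m - 1) => H.wv (L.vv (up' a)) (L.pp (up' b)) - H.wv (L.vv (up' a)) (L.qq (up' b)) ≠ 0)
      (fun a b hab => hadj (up' a) (up' b) (by rw [hup, hup]; exact hab) (by have := b.2; rw [hup]; omega)) _
      h.1 h.2
    exact hab (hc _ ha' _ hb')
  have hall : ∀ x : Fin m, x = last ∨ ∃ a, up' a = x := fun x => by
    by_cases hx : (x : ℕ) + 1 < m
    · exact Or.inr ⟨⟨x, by omega⟩, Fin.ext (hup _)⟩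
    · exact Or.inl (Fin.ext (by rw [hlast]; have := x.2; omega))
  obtain ⟨a, rfl⟩ := (hall j).resolve_left fun e => hl (e ▸ hj)
  rcases hchain with h | h
  · have hn : ∀ b, up' b ∉ S := fun b hb => by
      have : b ∈ up' ⁻¹' S := hb
      rw [h] at this
      exact this
    obtain ⟨x, hx⟩ := hS
    rcases hall x with rfl | ⟨b, rfl⟩
    · exact hlj.1 (hc _ hx _ (hn a))
    · exact hn b hx
  · have hy : ∀ b, up' b ∈ S := fun b => by
      show b ∈ up' ⁻¹' S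
      rw [h]; trivial
    obtain ⟨x, hx⟩ := (Set.ne_univ_iff_exists_notMem S).1 hne
    rcases hall x with rfl | ⟨b, rfl⟩
    · exact hlj.2 (hc _ (hy a) _ hx)
    · exact hx (hy b)

theorem ψ_mem_nMon {x : SpecialLinearGroup (Fin m) F} (hx : x ∈ nMon (φA F m)) : H.ψ x ∈ nMon L.φ := by
  induction hx using Submonoid.closure_induction with
  | mem y hy =>
    obtain ⟨i, rfl⟩ := hy
    refine Submonoid.subset_closure ⟨⟨i, by have := i.2; omega⟩, ?_⟩
    have h : ((⟨i, by have := i.2; omega⟩ : Fin m) : ℕ) + 1 < m := by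
      have := i.2; show (i : ℕ) + 1 < m; omega
    simp only [(L.adj h).1]
    rfl
  | one => rw [map_one]; exact one_mem _
  | mul a b _ _ ha hb => rw [map_mul]; exact mul_mem ha hb

theorem ψ_col_e (x : SpecialLinearGroup (Fin m) F) (i : Fin m) {k : Fin m} {c : F}
    (hx : ∀ b, x.1 b i = if b = k then c else 0) (b : I) :
    H.ρ (H.ψ x) b (H.e i) = if b = H.e k then c else 0 := by
  rw [H.ψ_val, mul_embM_apply _ _ _ (fun j => (H.disj i j).symm)]
  by_cases hb : ∃ j, H.e j = b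
  · obtain ⟨j, rfl⟩ := hb
    rw [embM_apply_mem H.e_inj, hx]
    exact if_congr H.e_inj.eq_iff.symm rfl rfl
  · push Not at hb
    rw [embM_apply_left _ hb, Matrix.one_apply_ne (Ne.symm (hb i)), if_neg (Ne.symm (hb k))]

theorem orbit_e (i : Fin m) : ∃ x ∈ nMon L.φ, ∃ c : F, c ≠ 0 ∧
    ∀ b, H.ρ x b (H.e ⟨0, by have := L.two; omega⟩) = if b = H.e i then c else 0 := by
  obtain ⟨x, hx, c, hc, hcol⟩ := TypeA.orbit_aux (F := F) L.two i i.2
  exact ⟨H.ψ x, L.ψ_mem_nMon hx, c, hc, fun b => ψ_col_e x _ hcol b⟩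

theorem orbit_f : ∀ d : ℕ, ∀ i : Fin m, (i : ℕ) + d + 1 = m → ∃ x ∈ nMon L.φ, ∃ c : F, c ≠ 0 ∧
    ∀ b, H.ρ x b (H.e ⟨0, by have := L.two; omega⟩) = if b = H.f i then c else 0 := by
  intro d
  induction d with
  | zero =>
    intro i hi
    obtain ⟨k, l, hl, c, hc, hcol⟩ := L.w_col
    obtain rfl : i = l := Fin.ext (by omega)
    obtain ⟨x, hx, c', hc', hcol'⟩ := L.orbit_e k
    refine ⟨L.φl (up 1 * low (-1) * up 1) * x, mul_mem (Submonoid.subset_closure ⟨i, ?_⟩) hx, c * c',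
      mul_ne_zero hc hc', fun b => ?_⟩
    · simp only [(L.last (i := i) (by omega)).1]
    · rw [map_mul, Matrix.mul_apply, Finset.sum_eq_single (H.e k), hcol', if_pos rfl, hcol]
      · split_ifs <;> simp
      · intro y _ hy
        rw [hcol', if_neg hy, mul_zero]
      · simp
  | succ d ih =>
    intro i hi
    have hlt : (i : ℕ) + 1 < m := by omega
    obtain ⟨x, hx, c, hc, hcol⟩ := ih ⟨i + 1, hlt⟩ (by show (i : ℕ) + 1 + d + 1 = m; omega)
    let n : Fin (m - 1) := ⟨i, by omega⟩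
    have e0 : H.fp n 0 = H.f i := rfl
    have e1 : H.fp n 1 = H.f ⟨i + 1, hlt⟩ := rfl
    refine ⟨L.φ i (up 1 * low (-1) * up 1) * x, mul_mem (Submonoid.subset_closure ⟨i, rfl⟩) hx, c, hc,
      fun b => ?_⟩
    rw [map_mul, Matrix.mul_apply, Finset.sum_eq_single (H.f ⟨i + 1, hlt⟩), hcol, if_pos rfl]
    rotate_left
    · intro y _ hy
      rw [hcol, if_neg hy, mul_zero]
    · simp
    rw [(L.adj hlt).1, H.φH_val, embM_comm (H.epfp n), ← e1,
      mul_embM_apply _ _ _ (fun j => H.epfp n j 1), ← e0]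
    by_cases hb : ∃ k, H.fp n k = b
    · obtain ⟨k, rfl⟩ := hb
      rw [embM_apply_mem (H.fp_inj n)]
      have hw : ((up (1 : F) * low (-1) * up 1)⁻¹).1ᵀ = !![0, 1; -1, 0] := by
        show (Matrix.adjugate _)ᵀ = _
        rw [val_mul', val_mul', SL2Pres.up_val, SL2Pres.low_val, Matrix.mul_fin_two, Matrix.mul_fin_two,
          Matrix.adjugate_fin_two]
        ext r s; fin_cases r <;> fin_cases s <;> simp
      rw [hw]
      fin_cases k <;> simp [(H.fp_inj n).eq_iff]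
    · push Not at hb
      rw [embM_apply_left _ hb, Matrix.one_apply_ne (Ne.symm (hb 1)), if_neg (Ne.symm (hb 0)), zero_mul]

theorem top_le (a : I) : H.pos (H.e ⟨0, by have := L.two; omega⟩) ≤ H.pos a := by
  rw [H.pos_e]; exact Nat.zero_le _

theorem le_bot (a : I) : H.pos a ≤ H.pos (H.f ⟨0, by have := L.two; omega⟩) := by
  refine H.pos_mono _ _ ?_
  have h0 : H.fine (H.f ⟨0, by have := L.two; omega⟩) + 0 = 2 * m := H.fine_f _
  rcases H.cases_a a with ⟨i, rfl⟩ | ⟨i, rfl⟩ | ⟨h1, h2⟩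
  · rw [H.fine_e]; have := i.2; omega
  · have := H.fine_f i; omega
  · rw [H.fine_mid a h1 h2]; omega

/-- The rank one data. -/
def matDatum [Finite F] [Finite G] : MatDatum G F (Fin m) I where
  ρ := H.ρ
  ρ_inj := H.ρ_inj
  pos := H.pos
  φ := L.φ
  blk := L.bl
  blk_mono i a b h := by
    by_cases hi : (i : ℕ) + 1 < m
    · rw [(L.adj hi).2.1] at h
      refine H.pos_mono _ _ (le_of_not_gt fun hlt => ?_)
      have := H.blkH_mono (⟨i, by omega⟩ : Fin (m - 1)) hlt.le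
      omega
    · rw [(L.last hi).2.1] at h
      exact L.blk_mono a b h
  w i := H.wv (L.vv i)
  p := L.pp
  q := L.qq
  pq i := by
    by_cases hi : (i : ℕ) + 1 < m
    · obtain ⟨-, h2, -, h4, h5⟩ := L.adj hi
      rw [h2, h4, h5, H.blkH_ep, H.blkH_ep]
    · obtain ⟨-, h2, -, h4, h5⟩ := L.last hi
      rw [h2, h4, h5, L.pq]
  φ_dg i c := by
    by_cases hi : (i : ℕ) + 1 < m
    · rw [(L.adj hi).1, (L.adj hi).2.2.1]; exact H.φH_dg _ c
    · rw [(L.last hi).1, (L.last hi).2.2.1]; exact L.φ_dg c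
  φ_bd i x := by
    by_cases hi : (i : ℕ) + 1 < m
    · rw [(L.adj hi).1, (L.adj hi).2.1]; exact H.φH_bd _ x
    · rw [(L.last hi).1, (L.last hi).2.1]; exact L.φ_bd x
  φ_up i t := by
    by_cases hi : (i : ℕ) + 1 < m
    · rw [(L.adj hi).1, (L.adj hi).2.2.2.1, (L.adj hi).2.2.2.2]; exact H.φH_up _ t
    · rw [(L.last hi).1, (L.last hi).2.2.2.1, (L.last hi).2.2.2.2]; exact L.φ_up t
  sc i := if (i : ℕ) + 1 < m then 1 else L.sc
  φ_low i t := by
    by_cases hi : (i : ℕ) + 1 < m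
    · rw [(L.adj hi).1, (L.adj hi).2.2.2.1, (L.adj hi).2.2.2.2]; rw [if_pos hi, Units.val_one, one_mul]; exact H.φH_low _ t
    · rw [(L.last hi).1, (L.last hi).2.2.2.1, (L.last hi).2.2.2.2]; rw [if_neg hi]; exact L.φ_low t
  splitU i g hg a b hab := by
    by_cases hi : (i : ℕ) + 1 < m
    · rw [(L.adj hi).2.1] at hab
      rw [(L.adj hi).1, (L.adj hi).2.2.2.1, (L.adj hi).2.2.2.2]; exact H.splitU _ g hg hab
    · rw [(L.last hi).2.1] at hab
      rw [(L.last hi).1, (L.last hi).2.2.2.1, (L.last hi).2.2.2.2]; exact L.splitU g hg a b hab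
  splitV i g hg a b hab := by
    by_cases hi : (i : ℕ) + 1 < m
    · rw [(L.adj hi).2.1] at hab
      rw [(L.adj hi).1, (L.adj hi).2.2.2.1, (L.adj hi).2.2.2.2]; rw [if_pos hi, inv_one, Units.val_one, one_mul]; exact H.splitV _ g hg hab
    · rw [(L.last hi).2.1] at hab
      rw [(L.last hi).1, (L.last hi).2.2.2.1, (L.last hi).2.2.2.2]; rw [if_neg hi]; exact L.splitV g hg a b hab
  sub_U i g h := by
    by_cases hi : (i : ℕ) + 1 < m
    · rw [(L.adj hi).2.1] at h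
      exact H.tie_U g fun a b hab => h a b (H.blkH_mono _ hab)
    · rw [(L.last hi).2.1] at h
      exact L.sub_U g h
  sub_V i g h := by
    by_cases hi : (i : ℕ) + 1 < m
    · rw [(L.adj hi).2.1] at h
      exact H.tie_V g fun a b hab => h a b (H.blkH_mono _ hab)
    · rw [(L.last hi).2.1] at h
      exact L.sub_V g h
  A_self := L.A_self
  A_sum := L.A_sum
  connected := L.connected
  gen := by
    have htwo := L.two
    refine L.gen _ ?_ ?_
    · rintro _ ⟨x, rfl⟩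
      have h : Subgroup.closure (⋃ i, (φA F m i).range : Set (SpecialLinearGroup (Fin m) F)) ≤
          Subgroup.comap H.ψ (Subgroup.closure (⋃ i, (L.φ i).range)) := by
        rw [Subgroup.closure_le]
        rintro y hy
        obtain ⟨i, z, rfl⟩ := Set.mem_iUnion.1 hy
        refine Subgroup.subset_closure (Set.mem_iUnion.2 ⟨⟨i, by have := i.2; omega⟩, z, ?_⟩)
        have hlt : ((⟨i, by have := i.2; omega⟩ : Fin m) : ℕ) + 1 < m := by
          have := i.2; show (i : ℕ) + 1 < m; omega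
        rw [(L.adj hlt).1]
        rfl
      exact h ((TypeA.matDatum (F := F) htwo).gen ▸ Subgroup.mem_top x)
    · rintro _ ⟨x, rfl⟩
      refine Subgroup.subset_closure (Set.mem_iUnion.2 ⟨⟨m - 1, by omega⟩, x, ?_⟩)
      rw [(L.last (i := ⟨m - 1, by omega⟩) (by show ¬ m - 1 + 1 < m; omega)).1]
  E := {a | (∀ i, H.e i ≠ a) ∧ ∀ i, H.f i ≠ a}
  top := H.e ⟨0, by have := L.two; omega⟩
  bot := H.f ⟨0, by have := L.two; omega⟩
  bot_nE h := h.2 _ rfl
  top_le := L.top_le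
  le_bot := L.le_bot
  orbit a ha := by
    rcases H.cases_a a with ⟨i, rfl⟩ | ⟨i, rfl⟩ | h
    · exact L.orbit_e i
    · exact L.orbit_f (m - 1 - i) i (by have := i.2; omega)
    · exact absurd h ha
  rigid g h hu := L.rigid g (fun i b => ⟨h _ (fun hh => hh.1 i rfl) b, h _ (fun hh => hh.2 i rfl) b⟩) hu

end Lst

end Cfsg.Agent.ClassSquare.Mat
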