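/-
Principal blocks of unitriangular elements in a hyperbolic matrix group.
-/
import Cfsg.Agent.Lib.ClassSquare.HypDatum

set_option autoImplicit false

namespace Cfsg.Agent.ClassSquare.Mat

open Matrix (SpecialLinearGroup)
open scoped Matrix

universe u v z

variable {F : Type v} [Field F] {I : Type z} [Fintype I] [DecidableEq I] {k : ℕ}

/-- Principal submatrices of inverse matrices, when nothing outside the block interferes. -/
theorem inv_block {M M' : Matrix I I F} (h : M * M' = 1) {f : Fin k → I} (hf : Function.Injective f)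
    (hout : ∀ c, (∀ i, f i ≠ c) → ∀ i j, M (f i) c = 0 ∨ M' c (f j) = 0) :
    M.submatrix f f * M'.submatrix f f = 1 := by
  ext i j
  rw [Matrix.mul_apply]
  have e := congrFun (congrFun h (f i)) (f j)
  rw [Matrix.mul_apply] at e
  rw [show (1 : Matrix (Fin k) (Fin k) F) i j = (1 : Matrix I I F) (f i) (f j) by
    simp [Matrix.one_apply, hf.eq_iff], ← e]
  refine (Finset.sum_of_injOn f hf.injOn (fun _ _ => Finset.mem_univ _) (fun c _ hc => ?_) fun _ _ => rfl)
  have hc' : ∀ i, f i ≠ c := fun i e => hc (e ▸ ⟨i, Finset.mem_coe.2 (Finset.mem_univ _), rfl⟩)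
  rcases hout c hc' i j with h0 | h0 <;> rw [h0] <;> simp

/-- The inverse of a block of a special linear element. -/
theorem block_inv_val {M M' : Matrix I I F} (h : M * M' = 1) {f : Fin k → I} (hf : Function.Injective f)
    (hout : ∀ c, (∀ i, f i ≠ c) → ∀ i j, M (f i) c = 0 ∨ M' c (f j) = 0)
    (x : SpecialLinearGroup (Fin k) F) (hx : ∀ i j, x.1 i j = M (f i) (f j)) :
    (x⁻¹).1 = M'.submatrix f f := by
  have e1 : x.1 = M.submatrix f f := Matrix.ext hx
  have e2 : x.1 * M'.submatrix f f = 1 := e1 ▸ inv_block h hf hout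
  have e3 : (x⁻¹).1 * x.1 = 1 := congrArg Subtype.val (inv_mul_cancel x)
  calc (x⁻¹).1 = (x⁻¹).1 * (x.1 * M'.submatrix f f) := by rw [e2, Matrix.mul_one]
    _ = _ := by rw [← Matrix.mul_assoc, e3, Matrix.one_mul]

variable {G : Type u} [Group G] [Finite G] {m : ℕ} (H : Hy G F I m)

/-- Blocks of an upper element along an interval of the first half. -/
theorem Hy.dual_block_U {g : G} (hg : BU H.pos (H.ρ g)) {p : Fin k → Fin m} (hp : Function.Injective p)
    (hint : ∀ c, (∀ i, H.e (p i) ≠ c) →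
      (∀ i, H.pos c ≤ H.pos (H.e (p i))) ∨ ∀ i, H.pos (H.e (p i)) ≤ H.pos c)
    (x : SpecialLinearGroup (Fin k) F) (hx : ∀ i j, x.1 i j = H.ρ g (H.e (p i)) (H.e (p j))) (i j : Fin k) :
    (x⁻¹).1ᵀ i j = H.ρ g (H.f (p i)) (H.f (p j)) := by
  rw [Matrix.transpose_apply, block_inv_val (M' := H.ρ g⁻¹) (by rw [← map_mul, mul_inv_cancel, map_one])
    (H.e_inj.comp hp) ?_ x hx, Matrix.submatrix_apply, Function.comp_apply, Function.comp_apply, H.dual]
  intro c hc i j
  rcases hint c hc with h | h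
  · exact Or.inl ((hg _ c (h i)).trans (Matrix.one_apply_ne (hc i)))
  · exact Or.inr (((buSub H.ρ H.pos).inv_mem hg c _ (h j)).trans (Matrix.one_apply_ne (Ne.symm (hc j))))

/-- Blocks of a lower element along an interval of the first half. -/
theorem Hy.dual_block_V {g : G} (hg : BL H.pos (H.ρ g)) {p : Fin k → Fin m} (hp : Function.Injective p)
    (hint : ∀ c, (∀ i, H.e (p i) ≠ c) →
      (∀ i, H.pos c ≤ H.pos (H.e (p i))) ∨ ∀ i, H.pos (H.e (p i)) ≤ H.pos c)
    (x : SpecialLinearGroup (Fin k) F) (hx : ∀ i j, x.1 i j = H.ρ g (H.e (p i)) (H.e (p j))) (i j : Fin k) :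
    (x⁻¹).1ᵀ i j = H.ρ g (H.f (p i)) (H.f (p j)) := by
  rw [Matrix.transpose_apply, block_inv_val (M' := H.ρ g⁻¹) (by rw [← map_mul, mul_inv_cancel, map_one])
    (H.e_inj.comp hp) ?_ x hx, Matrix.submatrix_apply, Function.comp_apply, Function.comp_apply, H.dual]
  intro c hc i j
  rcases hint c hc with h | h
  · exact Or.inr (((blSub H.ρ H.pos).inv_mem hg c _ (h j)).trans (Matrix.one_apply_ne (Ne.symm (hc j))))
  · exact Or.inl ((hg _ c (h i)).trans (Matrix.one_apply_ne (hc i)))

end Cfsg.Agent.ClassSquare.Mat
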