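/-
Blocks of a general linear Levi subgroup and torus elements of a hyperbolic matrix group.
-/
import Cfsg.Agent.Lib.ClassSquare.HypBlock

set_option autoImplicit false

namespace Cfsg.Agent.ClassSquare.Mat

open Cfsg.Agent.SL2Pres (up low)
open Cfsg.Agent.ClassSquare.TypeA (diagA)
open Matrix (SpecialLinearGroup)
open scoped Matrix

universe u v z

variable {F : Type v} [Field F] {I : Type z} [Fintype I] [DecidableEq I] {k : ℕ}

theorem conjSL_inv' (P : GL (Fin k) F) (x : SpecialLinearGroup (Fin k) F) :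
    (conjSL P x)⁻¹ = conjSL P x⁻¹ := by
  refine inv_eq_of_mul_eq_one_right (Subtype.ext ?_)
  show P.1 * x.1 * (P⁻¹).1 * (P.1 * (x⁻¹).1 * (P⁻¹).1) = 1
  have e : x.1 * (x⁻¹).1 = 1 := congrArg Subtype.val (mul_inv_cancel x)
  simp only [Matrix.mul_assoc]
  rw [← Matrix.mul_assoc (P⁻¹).1 P.1, Units.inv_mul, Matrix.one_mul, ← Matrix.mul_assoc x.1, e,
    Matrix.one_mul, Units.mul_inv]

theorem diag_units_cancel {J : Type*} [Fintype J] [DecidableEq J] (d : J → Fˣ) :
    Matrix.diagonal (fun a => (((d a)⁻¹ : Fˣ) : F)) * Matrix.diagonal (fun a => (d a : F)) = 1 := by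
  rw [Matrix.diagonal_mul_diagonal]; simp

theorem inv_transpose_inv (x : SpecialLinearGroup (Fin k) F) : (((x⁻¹).transpose)⁻¹).1ᵀ = x.1 := by
  have h1 : ((x⁻¹).transpose)⁻¹ = x.transpose := by
    refine inv_eq_of_mul_eq_one_left (Subtype.ext ?_)
    show x.1ᵀ * (x⁻¹).1ᵀ = 1
    rw [← Matrix.transpose_mul, show (x⁻¹).1 * x.1 = 1 from congrArg Subtype.val (inv_mul_cancel x),
      Matrix.transpose_one]
  rw [h1]
  exact Matrix.transpose_transpose _

variable {G : Type u} [Group G] {m : ℕ} (H : Hy G F I m)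

namespace Hy

variable {p : Fin k → Fin m} (hp : Function.Injective p)

/-- a block of the Levi subgroup -/
def blockHom : SpecialLinearGroup (Fin k) F →* G := H.ψ.comp (emb p hp)

theorem blockHom_val (x : SpecialLinearGroup (Fin k) F) :
    H.ρ (H.blockHom hp x) = embM (H.e ∘ p) x.1 * embM (H.f ∘ p) (x⁻¹).1ᵀ := by
  show H.ρ (H.ψ (emb p hp x)) = _
  rw [H.ψ_val, ← map_inv, emb_val, emb_val, embM_transpose, embM_comp, embM_comp]

theorem blockHom_bd (lev : I → ℕ) (he : ∀ i j, lev (H.e (p i)) = lev (H.e (p j)))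
    (hf : ∀ i j, lev (H.f (p i)) = lev (H.f (p j))) (x : SpecialLinearGroup (Fin k) F) :
    BD lev (H.ρ (H.blockHom hp x)) := by
  rw [H.blockHom_val]
  exact BD.mul (embM_bd (H.e_inj.comp hp) _ fun i j h => absurd (he i j) h)
    (embM_bd (H.f_inj.comp hp) _ fun i j h => absurd (hf i j) h)

/-- A torus element normalises a block. -/
theorem tor_conj_block {t : G} {d : Fin m → Fˣ} (ht : H.ρ t = Matrix.diagonal fun a => (H.dd d a : F))
    (x : SpecialLinearGroup (Fin k) F) :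
    t * H.blockHom hp x = H.blockHom hp (conjSL (dGL fun i => d (p i)) x) * t := by
  apply H.ρ_inj
  rw [map_mul, map_mul, H.blockHom_val, H.blockHom_val, ht, conjSL_inv', conjSL_dGL_val, conjSL_dGL_val,
    Matrix.transpose_mul, Matrix.transpose_mul, Matrix.diagonal_transpose, Matrix.diagonal_transpose]
  have hE := diag_conj_embM (H.e_inj.comp hp) (H.dd d) x.1
  have hF := diag_conj_embM (H.f_inj.comp hp) (H.dd d) (x⁻¹).1ᵀ
  simp only [Function.comp_apply, H.dd_e, H.dd_f, inv_inv] at hE hF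
  rw [← hE, ← Matrix.mul_assoc (Matrix.diagonal fun i => (((d (p i))⁻¹ : Fˣ) : F)), ← hF]
  simp only [Matrix.mul_assoc]
  rw [← Matrix.mul_assoc (Matrix.diagonal fun a => (((H.dd d a)⁻¹ : Fˣ) : F))
    (Matrix.diagonal fun a => (H.dd d a : F)), diag_units_cancel, Matrix.one_mul, Matrix.mul_one]

/-- A permutation exchanging the two halves of a block. -/
theorem pmat_flip_block (σ : Equiv.Perm I) (h1 : ∀ i, σ (H.e (p i)) = H.f (p i))
    (h2 : ∀ i, σ (H.f (p i)) = H.e (p i)) (x : SpecialLinearGroup (Fin k) F) :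
    pmat F σ * H.ρ (H.blockHom hp x) = H.ρ (H.blockHom hp ((x⁻¹).transpose)) * pmat F σ := by
  have e1 : (σ : I → I) ∘ (H.e ∘ p) = H.f ∘ p := funext h1
  have e2 : (σ : I → I) ∘ (H.f ∘ p) = H.e ∘ p := funext h2
  rw [H.blockHom_val, H.blockHom_val, inv_transpose_inv, ← Matrix.mul_assoc, pmat_embM, e1, Matrix.mul_assoc,
    pmat_embM, e2, ← Matrix.mul_assoc, embM_comm (f := H.f ∘ p) (g := H.e ∘ p) fun i j => (H.disj (p j) (p i)).symm]
  rfl

variable [Finite G]

include hp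

/-- The block of an upper element. -/
theorem block_U {u : G} (hu : BU H.pos (H.ρ u)) (hmono : ∀ i j : Fin k, (j : ℕ) < i → H.pos (H.e (p j)) ≤ H.pos (H.e (p i)))
    (hint : ∀ c, (∀ i, H.e (p i) ≠ c) →
      (∀ i, H.pos c ≤ H.pos (H.e (p i))) ∨ ∀ i, H.pos (H.e (p i)) ≤ H.pos c) :
    ∃ x : SpecialLinearGroup (Fin k) F, StrictUpper (x.1 - 1) ∧
      (∀ i j, x.1 i j = H.ρ u (H.e (p i)) (H.e (p j))) ∧
      ∀ i j, (x⁻¹).1ᵀ i j = H.ρ u (H.f (p i)) (H.f (p j)) := by
  obtain ⟨x, hx, hv⟩ := exists_block (H.ρ u) (fun i => H.e (p i))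
    (fun i => (hu _ _ le_rfl).trans (Matrix.one_apply_eq _))
    fun i j hij => (hu _ _ (hmono i j hij)).trans
      (Matrix.one_apply_ne fun e => by have := hp (H.e_inj e); subst this; omega)
  exact ⟨x, hx, hv, H.dual_block_U hu hp hint x hv⟩

/-- The block of a lower element. -/
theorem block_V {u : G} (hu : BL H.pos (H.ρ u)) (hmono : ∀ i j : Fin k, (j : ℕ) < i → H.pos (H.e (p j)) ≤ H.pos (H.e (p i)))
    (hint : ∀ c, (∀ i, H.e (p i) ≠ c) →
      (∀ i, H.pos c ≤ H.pos (H.e (p i))) ∨ ∀ i, H.pos (H.e (p i)) ≤ H.pos c) :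
    ∃ x : SpecialLinearGroup (Fin k) F, StrictUpper (x.1 - 1)ᵀ ∧
      (∀ i j, x.1 i j = H.ρ u (H.e (p i)) (H.e (p j))) ∧
      ∀ i j, (x⁻¹).1ᵀ i j = H.ρ u (H.f (p i)) (H.f (p j)) := by
  obtain ⟨x, hx, hv⟩ := exists_block_low (H.ρ u) (fun i => H.e (p i))
    (fun i => (hu _ _ le_rfl).trans (Matrix.one_apply_eq _))
    fun i j hij => (hu _ _ (hmono j i hij)).trans
      (Matrix.one_apply_ne fun e => by have := hp (H.e_inj e); subst this; omega)
  exact ⟨x, hx, hv, H.dual_block_V hu hp hint x hv⟩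

end Hy

namespace Lst

variable {H} (L : Lst H)

/-- Torus elements. -/
theorem exists_tor [Finite F] (d : Fin m → Fˣ) (c : Fˣ) (h : ∏ j, d j = ∏ j, c ^ L.v j) :
    ∃ t : G, H.ρ t = Matrix.diagonal fun a => (H.dd d a : F) := by
  have hp : ∏ j, d j * (c ^ L.v j)⁻¹ = 1 := by
    rw [Finset.prod_mul_distrib, Finset.prod_inv_distrib, h, mul_inv_cancel]
  refine ⟨H.ψ (diagA (fun j => d j * (c ^ L.v j)⁻¹) hp) * L.φl (dg c), ?_⟩
  rw [map_mul, H.ψ_diag, L.φ_dg, Matrix.diagonal_mul_diagonal]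
  congr 1
  funext a
  rw [← Units.val_mul]
  congr 1
  rw [← H.dd_zpow, ← H.dd_mul]
  congr 1
  funext j
  rw [inv_mul_cancel_right]

end Lst

theorem diag_commute {t s : G} {d e : I → Fˣ} (ht : H.ρ t = Matrix.diagonal fun a => (d a : F))
    (hs : H.ρ s = Matrix.diagonal fun a => (e a : F)) : t * s = s * t := by
  apply H.ρ_inj
  rw [map_mul, map_mul, ht, hs, Matrix.diagonal_mul_diagonal, Matrix.diagonal_mul_diagonal]
  simp only [mul_comm]

end Cfsg.Agent.ClassSquare.Mat
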