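/-
Homomorphisms into the commutator subgroup of an isometry group, and its generation by Siegel elements.
-/
import Cfsg.Agent.Lib.ClassSquare.HypDatum
import Cfsg.Agent.Lib.Orthogonal.POmega
import Cfsg.Agent.Lib.Classical.TwoGenOrth.Basic

set_option autoImplicit false
set_option linter.style.haveILetI false

namespace Cfsg.Agent.ClassSquare.Orth

open Cfsg.Agent.Orth (isoEquiv mem_isometryGroup omegaEquiv omegaEquiv_apply oGroup omg)
open Cfsg.Agent.ClassSquare.Mat
open Matrix (SpecialLinearGroup)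
open scoped Matrix
open QuadraticMap

universe u v

variable {F : Type v} [Field F] {ι : Type} [Fintype ι] [DecidableEq ι] (Q : (ι → F) → F)

/-- matrices of `Omega` -/
def ρO : ↥(Cfsg.Omega F Q) →* Matrix ι ι F :=
  (Units.coeHom (Matrix ι ι F)).comp ((Cfsg.isometryGroup F Q).subtype.comp (Cfsg.Omega F Q).subtype)

theorem ρO_inj : Function.Injective (ρO Q) := fun _ _ h => Subtype.ext (Subtype.ext (Units.ext h))

theorem ρO_iso (g : Cfsg.Omega F Q) (x : ι → F) : Q (ρO Q g *ᵥ x) = Q x := mem_isometryGroup.1 g.1.2 x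

/-- A matrix representation by isometries, into the isometry group. -/
def liftI {S : Type u} [Group S] (f : S →* Matrix ι ι F) (hf : ∀ s x, Q (f s *ᵥ x) = Q x) :
    S →* ↥(Cfsg.isometryGroup F Q) :=
  f.toHomUnits.codRestrict _ fun s => mem_isometryGroup.2 fun x => hf s x

/-- A matrix representation of a perfect group by isometries, into `Omega`. -/
def liftO {S : Type u} [Group S] (f : S →* Matrix ι ι F) (hf : ∀ s x, Q (f s *ᵥ x) = Q x)
    (hS : commutator S = ⊤) : S →* ↥(Cfsg.Omega F Q) :=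
  (liftI Q f hf).codRestrict _ fun s => by
    have h : (commutator S).map (liftI Q f hf) ≤ commutator _ := by
      rw [commutator_def, commutator_def, Subgroup.map_commutator]
      exact Subgroup.commutator_mono le_top le_top
    exact h ⟨s, hS ▸ Subgroup.mem_top s, rfl⟩

theorem liftO_val {S : Type u} [Group S] (f : S →* Matrix ι ι F) (hf : ∀ s x, Q (f s *ᵥ x) = Q x)
    (hS : commutator S = ⊤) (s : S) : ρO Q (liftO Q f hf hS s) = f s := rfl

/-- conjugation by an isometry -/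
def conjO (τ : ↥(Cfsg.isometryGroup F Q)) : ↥(Cfsg.Omega F Q) →* ↥(Cfsg.Omega F Q) :=
  (MulAut.conjNormal τ).toMonoidHom

theorem conjO_val (τ : ↥(Cfsg.isometryGroup F Q)) (g : Cfsg.Omega F Q) :
    ρO Q (conjO Q τ g) = (τ.1 : Matrix ι ι F) * ρO Q g * ((τ⁻¹).1 : Matrix ι ι F) := rfl

theorem polar_inv {Q : (ι → F) → F} (g : Cfsg.Omega F Q) (x y : ι → F) :
    polar Q (ρO Q g *ᵥ x) (ρO Q g *ᵥ y) = polar Q x y := by
  simp only [polar, ← Matrix.mulVec_add, ρO_iso]

/-- Inverse entries of isometries along a hyperbolic pair of index maps. -/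
theorem dual_entries {Q : (ι → F) → F} {m : ℕ} (e f : Fin m → ι)
    (he : ∀ x a, polar Q x (Pi.single (f a) 1) = x (e a)) (hf : ∀ x a, polar Q x (Pi.single (e a) 1) = x (f a))
    (g : Cfsg.Omega F Q) (a b : Fin m) : ρO Q g⁻¹ (e a) (e b) = ρO Q g (f b) (f a) := by
  have h1 : ρO Q g⁻¹ (e a) (e b) = polar Q (ρO Q g⁻¹ *ᵥ Pi.single (e b) 1) (Pi.single (f a) 1) := by
    rw [he, Matrix.mulVec_single_one, Matrix.col_apply]
  have h2 : ρO Q g (f b) (f a) = polar Q (ρO Q g *ᵥ Pi.single (f a) 1) (Pi.single (e b) 1) := by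
    rw [hf, Matrix.mulVec_single_one, Matrix.col_apply]
  rw [h1, h2, ← polar_inv g, Matrix.mulVec_mulVec, ← map_mul, mul_inv_cancel, map_one, Matrix.one_mulVec]
  simp only [polar]
  rw [add_comm]
  ring

end Cfsg.Agent.ClassSquare.Orth

namespace Cfsg.Agent.ClassSquare.Orth

open Cfsg.Agent.Orth (isoEquiv omegaEquiv omegaEquiv_apply oGroup omg siegelGroup siegelGroup_eq)
open Cfsg.Agent.TwoGenOrth (sg sg_apply)
open Cfsg.Agent.ClassSquare.Mat
open Matrix (SpecialLinearGroup)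
open scoped Matrix
open QuadraticMap

variable {F : Type*} [Field F] [Fintype F] {ι : Type} [Fintype ι] [DecidableEq ι] (Q : QuadraticForm F (ι → F))

/-- `Omega` as linear maps -/
noncomputable def toLin : ↥(Cfsg.Omega F (⇑Q)) →* oGroup Q :=
  (omg Q).subtype.comp (omegaEquiv Q).toMonoidHom

theorem toLin_apply (g : Cfsg.Omega F (⇑Q)) (x : ι → F) : (toLin Q g).1 x = ρO (⇑Q) g *ᵥ x := rfl

theorem sg_mem {K : Subgroup ↥(Cfsg.Omega F (⇑Q))} {g : Cfsg.Omega F (⇑Q)} (hg : g ∈ K) {u y : ι → F}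
    (hu : Q u = 0) (hy : polar Q u y = 0)
    (h : ∀ x, ρO (⇑Q) g *ᵥ x = x + polar Q x u • y - (polar Q x y + Q y * polar Q x u) • u) :
    sg Q u y ∈ K.map (toLin Q) :=
  ⟨g, hg, Subtype.ext (LinearEquiv.ext fun x => by rw [toLin_apply, h, sg_apply hu hy])⟩

theorem top_of_siegel (hQ : (polarBilin Q).Nondegenerate) (hn : 5 ≤ Fintype.card ι)
    {K : Subgroup ↥(Cfsg.Omega F (⇑Q))} (h : siegelGroup Q ≤ K.map (toLin Q)) : K = ⊤ := by
  rw [siegelGroup_eq hQ (by rwa [Module.finrank_fintype_fun_eq_card])] at h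
  have hinj : Function.Injective (toLin Q) := Subtype.val_injective.comp (omegaEquiv Q).injective
  refine eq_top_iff.2 fun g _ => ?_
  obtain ⟨g', hg', e⟩ := h ((omegaEquiv Q) g).2
  rwa [← hinj e]

omit [Fintype F] [Fintype ι] in
/-- A monomial element moving two indices to two others. -/
theorem exists_move {m : ℕ} (hm : 3 ≤ m) {r p i j : Fin m} (hrp : r ≠ p) (hij : i ≠ j) :
    ∃ X : SpecialLinearGroup (Fin m) F,
      (X.1 *ᵥ Pi.single r 1 = Pi.single i 1 ∧ X.1 *ᵥ Pi.single p 1 = Pi.single j 1) ∧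
      ((X⁻¹).1ᵀ *ᵥ Pi.single r 1 = Pi.single i 1 ∧ (X⁻¹).1ᵀ *ᵥ Pi.single p 1 = Pi.single j 1) := by
  classical
  obtain ⟨σ, hσ1, hσ2⟩ : ∃ σ : Equiv.Perm (Fin m), σ r = i ∧ σ p = j := by
    refine ⟨(Equiv.swap r i).trans (Equiv.swap (Equiv.swap r i p) j), ?_, ?_⟩
    · rw [Equiv.trans_apply, Equiv.swap_apply_left, Equiv.swap_apply_of_ne_of_ne ?_ hij]
      exact fun e => hrp ((Equiv.swap r i).injective ((Equiv.swap_apply_left r i).trans e))
    · rw [Equiv.trans_apply, Equiv.swap_apply_left]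
  obtain ⟨k, hk⟩ : ∃ k, k ∈ ({i, j} : Finset (Fin m))ᶜ := by
    refine Finset.card_pos.1 ?_
    rw [Finset.card_compl, Finset.card_pair hij, Fintype.card_fin]
    omega
  simp only [Finset.mem_compl, Finset.mem_insert, Finset.mem_singleton, not_or] at hk
  let u : Fˣ := Units.mk0 _ (pmat_det_ne (F := F) σ)
  let c : Fin m → Fˣ := Pi.mulSingle k u⁻¹
  let X : SpecialLinearGroup (Fin m) F := ⟨Matrix.diagonal (fun a => (c a : F)) * pmat F σ, by
    rw [Matrix.det_mul, Matrix.det_diagonal, ← Units.coe_prod, Finset.prod_pi_mulSingle',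
      if_pos (Finset.mem_univ _)]
    exact Units.inv_mul u⟩
  have col : ∀ s t, σ s = t → c t = 1 → X.1 *ᵥ Pi.single s 1 = Pi.single t 1 ∧
      X.1ᵀ *ᵥ Pi.single t 1 = Pi.single s 1 := by
    intro s t hst ht
    constructor
    · rw [Matrix.mulVec_single_one]
      funext a
      show ((Matrix.diagonal fun a => (c a : F)) * pmat F σ) a s = (Pi.single t (1 : F) : Fin m → F) a
      rw [Matrix.diagonal_mul, pmat, Matrix.of_apply, hst, Pi.single_apply]
      by_cases ha : a = t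
      · subst ha; simp [ht]
      · rw [if_neg (Ne.symm ha), if_neg ha, mul_zero]
    · rw [Matrix.mulVec_single_one]
      funext a
      show ((Matrix.diagonal fun a => (c a : F)) * pmat F σ) t a = (Pi.single s (1 : F) : Fin m → F) a
      rw [Matrix.diagonal_mul, pmat, Matrix.of_apply, Pi.single_apply]
      by_cases ha : a = s
      · subst ha; simp [hst, ht]
      · rw [if_neg fun e => ha (σ.injective (e.trans hst.symm)), if_neg ha, mul_zero]
  have back : ∀ s t, X.1ᵀ *ᵥ Pi.single t 1 = Pi.single s 1 → (X⁻¹).1ᵀ *ᵥ Pi.single s 1 = Pi.single t 1 := by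
    intro s t h
    have e : X.1 * (X⁻¹).1 = 1 := congrArg Subtype.val (mul_inv_cancel X)
    rw [← h, Matrix.mulVec_mulVec, ← Matrix.transpose_mul, e, Matrix.transpose_one, Matrix.one_mulVec]
  have h1 := col r i hσ1 (Pi.mulSingle_eq_of_ne (Ne.symm hk.1) _)
  have h2 := col p j hσ2 (Pi.mulSingle_eq_of_ne (Ne.symm hk.2) _)
  exact ⟨X, ⟨h1.1, h2.1⟩, back _ _ h1.2, back _ _ h2.2⟩

omit [Fintype ι] in
theorem sl_perfect (hF : 4 ≤ Fintype.card F) {n : ℕ} (hn : 2 ≤ n) :
    commutator (SpecialLinearGroup (Fin n) F) = ⊤ := by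
  classical
  haveI : Nontrivial (Fin n) := Fin.nontrivial_iff_two_le.2 hn
  obtain ⟨a, ha, ha2⟩ : ∃ a : F, a ≠ 0 ∧ a ^ 2 ≠ 1 := by
    by_contra hno
    push Not at hno
    have : Finset.univ ⊆ ({0, 1, -1} : Finset F) := fun a _ => by
      rcases eq_or_ne a 0 with rfl | ha
      · simp
      · rcases sq_eq_one_iff.1 (hno a ha) with rfl | rfl <;> simp
    have hle := (Finset.card_le_card this).trans Finset.card_le_three
    rw [Finset.card_univ] at hle
    omega
  rw [eq_top_iff, ← Cfsg.Agent.ClassicalSL.closure_elemTransvections, Subgroup.closure_le]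
  rintro g ⟨i, j, h, c, rfl⟩
  rw [SetLike.mem_coe, commutator_eq_closure]
  exact Subgroup.subset_closure (Cfsg.Agent.ClassicalSL.transvection_mem_commutatorSet_of_sq h ha ha2 c)

end Cfsg.Agent.ClassSquare.Orth
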