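/-
The general linear Levi subgroup inside an orthogonal group of a form with a hyperbolic pair of index maps,
and the root elements it moves.
-/
import Cfsg.Agent.Lib.ClassSquare.OmegaLift

set_option autoImplicit false
set_option linter.style.haveILetI false

namespace Cfsg.Agent.ClassSquare.Mat

open Cfsg.Agent.SL2Pres (up low)
open Matrix (SpecialLinearGroup)
open scoped Matrix

universe v z

variable {F : Type v} [Field F] {I : Type z} [Fintype I] [DecidableEq I] {k : ℕ}

theorem embM_mulVec_mem {f : Fin k → I} (hf : Function.Injective f) (X : Matrix (Fin k) (Fin k) F) (x : I → F)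
    (i : Fin k) : (embM f X *ᵥ x) (f i) = (X *ᵥ (x ∘ f)) i := by
  have e : (sel F f)ᵀ *ᵥ x = x ∘ f := by
    funext j
    simp [sel, Matrix.mulVec, dotProduct]
  rw [embM, Matrix.add_mulVec, Matrix.one_mulVec, ← Matrix.mulVec_mulVec, ← Matrix.mulVec_mulVec, e, Pi.add_apply]
  have e2 : ∀ y : Fin k → F, (sel F f *ᵥ y) (f i) = y i := fun y => by
    simp [sel, Matrix.mulVec, dotProduct, hf.eq_iff]
  rw [e2, Matrix.sub_mulVec, Matrix.one_mulVec, Pi.sub_apply]
  show x (f i) + (_ - x (f i)) = _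
  ring

theorem embM_mulVec_off {f : Fin k → I} (X : Matrix (Fin k) (Fin k) F) (x : I → F) {a : I} (ha : ∀ i, f i ≠ a) :
    (embM f X *ᵥ x) a = x a := by
  rw [embM, Matrix.add_mulVec, Matrix.one_mulVec, ← Matrix.mulVec_mulVec, Pi.add_apply, add_eq_left]
  simp [sel, Matrix.mulVec, dotProduct, Matrix.mul_apply, ha]

theorem pmat_mulVec (σ : Equiv.Perm I) (x : I → F) (a : I) : (pmat F σ *ᵥ x) a = x (σ⁻¹ a) := by
  simp only [pmat, Matrix.mulVec, dotProduct, Matrix.of_apply, ite_mul, one_mul, zero_mul]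
  rw [Finset.sum_eq_single (σ⁻¹ a)]
  · simp
  · intro b _ hb
    rw [if_neg]
    intro e
    exact hb (by rw [← e]; simp)
  · simp

theorem pmat_conj_apply (σ : Equiv.Perm I) (M : Matrix I I F) (a b : I) :
    (pmat F σ * M * pmat F σ⁻¹) a b = M (σ⁻¹ a) (σ⁻¹ b) := by
  rw [Matrix.mul_apply, Finset.sum_eq_single (σ⁻¹ b)]
  · rw [Matrix.mul_apply, Finset.sum_eq_single (σ⁻¹ a)]
    · simp [pmat]
    · intro c _ hc
      have : σ c ≠ a := fun e => hc (by rw [← e]; simp)
      simp [pmat, this]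
    · simp
  · intro c _ hc
    rw [show pmat F σ⁻¹ c b = 0 from if_neg (Ne.symm hc), mul_zero]
  · simp

theorem transvection_val {m : ℕ} {i j : Fin m} (h : i ≠ j) (c : F) :
    (SpecialLinearGroup.transvection h c).1 = 1 + Matrix.single i j c := rfl

theorem transvection_mulVec {m : ℕ} {i j : Fin m} (h : i ≠ j) (c : F) (x : Fin m → F) :
    (SpecialLinearGroup.transvection h c).1 *ᵥ x = x + Pi.single i (c * x j) := by
  rw [transvection_val, Matrix.add_mulVec, Matrix.one_mulVec]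
  congr 1
  funext a
  by_cases ha : a = i
  · subst ha; simp [Matrix.mulVec, dotProduct, Matrix.single_apply]
  · simp [Matrix.mulVec, dotProduct, Matrix.single_apply, ha, Ne.symm ha]

theorem transvection_inv_transpose_mulVec {m : ℕ} {i j : Fin m} (h : i ≠ j) (c : F) (x : Fin m → F) :
    ((SpecialLinearGroup.transvection h c)⁻¹).1ᵀ *ᵥ x = x - Pi.single j (c * x i) := by
  have e : (SpecialLinearGroup.transvection h c)⁻¹ = SpecialLinearGroup.transvection h (-c) := by
    refine inv_eq_of_mul_eq_one_right (Subtype.ext ?_)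
    show (1 + Matrix.single i j c) * (1 + Matrix.single i j (-c)) = (1 : Matrix (Fin m) (Fin m) F)
    simp [mul_add, add_mul, h.symm]
    rw [add_assoc, ← Matrix.single_add, add_neg_cancel, Matrix.single_zero, add_zero]
  rw [e, transvection_val, Matrix.transpose_add, Matrix.transpose_one, Matrix.transpose_single, Matrix.add_mulVec,
    Matrix.one_mulVec, sub_eq_add_neg]
  congr 1
  funext a
  by_cases ha : a = j
  · subst ha; simp [Matrix.mulVec, dotProduct, Matrix.single_apply]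
  · simp [Matrix.mulVec, dotProduct, Matrix.single_apply, ha, Ne.symm ha]

theorem φA_up_eq {m : ℕ} (n : Fin (m - 1)) {i j : Fin m} (hi : (i : ℕ) = n) (hj : (j : ℕ) = (n : ℕ) + 1)
    (hij : i ≠ j) (t : F) :
    TypeA.φA F m n (up t) = SpecialLinearGroup.transvection hij t ∧
    TypeA.φA F m n (low t) = SpecialLinearGroup.transvection hij.symm t := by
  constructor <;> apply Subtype.ext
  · show embM _ _ = 1 + Matrix.single i j t
    rw [embM, add_right_inj]
    ext a b
    simp [sel, TypeA.pi', pr, Matrix.mul_apply, Fin.sum_univ_two, SL2Pres.up_val, Matrix.single_apply, Fin.ext_iff]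
    split_ifs <;> simp_all <;> omega
  · show embM _ _ = 1 + Matrix.single j i t
    rw [embM, add_right_inj]
    ext a b
    simp [sel, TypeA.pi', pr, Matrix.mul_apply, Fin.sum_univ_two, SL2Pres.low_val, Matrix.single_apply, Fin.ext_iff]
    split_ifs <;> simp_all <;> omega

end Cfsg.Agent.ClassSquare.Mat

namespace Cfsg.Agent.ClassSquare.Orth

open Cfsg.Agent.Orth (oGroup)
open Cfsg.Agent.TwoGenOrth (sg sg_apply conj_sg_mem sg_zero Hyp)
open Cfsg.Agent.ClassSquare.Mat
open Matrix (SpecialLinearGroup)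
open scoped Matrix
open QuadraticMap

variable {F : Type*} [Field F] {ι : Type} [Fintype ι] [DecidableEq ι] {m : ℕ} {e f : Fin m → ι}

/-- the Levi matrices -/
def leviM (he : Function.Injective e) (hf : Function.Injective f) (hd : ∀ i j, e i ≠ f j) :
    SpecialLinearGroup (Fin m) F →* Matrix ι ι F where
  toFun x := embM e x.1 * embM f (x⁻¹).1ᵀ
  map_one' := by
    rw [inv_one]
    show embM e (1 : Matrix (Fin m) (Fin m) F) * embM f (1 : Matrix (Fin m) (Fin m) F)ᵀ = 1
    rw [Matrix.transpose_one, embM_one, embM_one, one_mul]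
  map_mul' x y := by
    rw [mul_inv_rev]
    show embM e (x.1 * y.1) * embM f ((y⁻¹).1 * (x⁻¹).1)ᵀ = _
    rw [Matrix.transpose_mul, ← embM_mul he, ← embM_mul hf]
    simp only [Matrix.mul_assoc]
    rw [← Matrix.mul_assoc (embM e y.1), embM_comm hd, Matrix.mul_assoc]

/-- Index data of a form with a hyperbolic pair of maps. -/
structure Pairing (Q : (ι → F) → F) (e f : Fin m → ι) : Prop where
  e_inj : Function.Injective e
  f_inj : Function.Injective f
  disj : ∀ i j, e i ≠ f j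
  rest : ∃ R : (ι → F) → F, (∀ x, Q x = (∑ i, x (e i) * x (f i)) + R x) ∧ R 0 = 0 ∧
    ∀ x y, (∀ a, (∀ i, e i ≠ a) → (∀ i, f i ≠ a) → x a = y a) → R x = R y

namespace Pairing

variable {Q : (ι → F) → F} (P : Pairing Q e f)

include P

theorem levi_iso (x : SpecialLinearGroup (Fin m) F) (v : ι → F) :
    Q (leviM P.e_inj P.f_inj P.disj x *ᵥ v) = Q v := by
  obtain ⟨R, hR, -, hR'⟩ := P.rest
  show Q ((embM e x.1 * embM f (x⁻¹).1ᵀ) *ᵥ v) = Q v
  obtain ⟨w, hw⟩ : ∃ w, w = (embM e x.1 * embM f (x⁻¹).1ᵀ) *ᵥ v := ⟨_, rfl⟩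
  have he : ∀ i, w (e i) = (x.1 *ᵥ (v ∘ e)) i := fun i => by
    rw [hw, ← Matrix.mulVec_mulVec, embM_mulVec_mem P.e_inj]
    have e0 : (embM f (x⁻¹).1ᵀ *ᵥ v) ∘ e = v ∘ e := by
      funext j
      exact embM_mulVec_off _ _ fun l => (P.disj j l).symm
    rw [e0]
  have hf : ∀ i, w (f i) = ((x⁻¹).1ᵀ *ᵥ (v ∘ f)) i := fun i => by
    rw [hw, ← Matrix.mulVec_mulVec, embM_mulVec_off _ _ (fun l => P.disj l i), embM_mulVec_mem P.f_inj]
  have ho : ∀ a, (∀ i, e i ≠ a) → (∀ i, f i ≠ a) → w a = v a := fun a h1 h2 => by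
    rw [hw, ← Matrix.mulVec_mulVec, embM_mulVec_off _ _ h1, embM_mulVec_off _ _ h2]
  rw [← hw, hR, hR, hR' w v ho]
  congr 1
  have h1 : (∑ i, w (e i) * w (f i)) = (x.1 *ᵥ (v ∘ e)) ⬝ᵥ ((x⁻¹).1ᵀ *ᵥ (v ∘ f)) :=
    Finset.sum_congr rfl fun i _ => by rw [he, hf]
  rw [h1, Matrix.dotProduct_mulVec, Matrix.vecMul_transpose, Matrix.mulVec_mulVec,
    show (x⁻¹).1 * x.1 = 1 from congrArg Subtype.val (inv_mul_cancel x), Matrix.one_mulVec]
  rfl

theorem polar_e (x : ι → F) (a : Fin m) : polar Q x (Pi.single (e a) 1) = x (f a) := by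
  obtain ⟨R, hR, hR0, hR'⟩ := P.rest
  have h1 : R (x + Pi.single (e a) 1) = R x := hR' _ _ fun b hb _ => by simp [Ne.symm (hb a)]
  have h2 : R (Pi.single (e a) 1) = R 0 := hR' _ _ fun b hb _ => by simp [Ne.symm (hb a)]
  rw [polar, hR, hR, hR (Pi.single (e a) 1), h1, h2, hR0]
  have hs : ∀ i, (Pi.single (e a) (1 : F) : ι → F) (f i) = 0 := fun i => by simp [(P.disj a i).symm]
  simp only [Pi.add_apply, hs, add_zero, mul_zero, Finset.sum_const_zero, add_mul, Finset.sum_add_distrib]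
  rw [Finset.sum_eq_single_of_mem (f := fun i => (Pi.single (e a) (1 : F) : ι → F) (e i) * x (f i)) a
    (Finset.mem_univ _) fun b _ hb => by simp [P.e_inj.eq_iff, hb]]
  simp

theorem polar_f (x : ι → F) (a : Fin m) : polar Q x (Pi.single (f a) 1) = x (e a) := by
  obtain ⟨R, hR, hR0, hR'⟩ := P.rest
  have h1 : R (x + Pi.single (f a) 1) = R x := hR' _ _ fun b _ hb => by simp [Ne.symm (hb a)]
  have h2 : R (Pi.single (f a) 1) = R 0 := hR' _ _ fun b _ hb => by simp [Ne.symm (hb a)]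
  rw [polar, hR, hR, hR (Pi.single (f a) 1), h1, h2, hR0]
  have hs : ∀ i, (Pi.single (f a) (1 : F) : ι → F) (e i) = 0 := fun i => by simp [P.disj i a]
  simp only [Pi.add_apply, hs, add_zero, zero_mul, Finset.sum_const_zero, mul_add, Finset.sum_add_distrib]
  rw [Finset.sum_eq_single_of_mem (f := fun i => x (e i) * (Pi.single (f a) (1 : F) : ι → F) (f i)) a
    (Finset.mem_univ _) fun b _ hb => by simp [P.f_inj.eq_iff, hb]]
  simp

theorem q_e (a : Fin m) : Q (Pi.single (e a) 1) = 0 := by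
  obtain ⟨R, hR, hR0, hR'⟩ := P.rest
  rw [hR, hR' _ 0 (fun b hb _ => by simp [Ne.symm (hb a)]), hR0]
  simp [fun i => (P.disj a i).symm]

theorem q_f (a : Fin m) : Q (Pi.single (f a) 1) = 0 := by
  obtain ⟨R, hR, hR0, hR'⟩ := P.rest
  rw [hR, hR' _ 0 (fun b _ hb => by simp [Ne.symm (hb a)]), hR0]
  simp [fun i => P.disj i a]

theorem levi_single (x : SpecialLinearGroup (Fin m) F) (i j : Fin m) :
    (x.1 *ᵥ Pi.single i 1 = Pi.single j 1 →
      leviM P.e_inj P.f_inj P.disj x *ᵥ Pi.single (e i) 1 = Pi.single (e j) 1) ∧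
    ((x⁻¹).1ᵀ *ᵥ Pi.single i 1 = Pi.single j 1 →
      leviM P.e_inj P.f_inj P.disj x *ᵥ Pi.single (f i) 1 = Pi.single (f j) 1) := by
  constructor <;> intro h <;> funext a <;>
    show ((embM e x.1 * embM f (x⁻¹).1ᵀ) *ᵥ _) a = _ <;> rw [← Matrix.mulVec_mulVec]
  · have e1 : embM f (x⁻¹).1ᵀ *ᵥ (Pi.single (e i) 1 : ι → F) = Pi.single (e i) 1 := by
      funext b
      by_cases hb : ∃ l, f l = b
      · obtain ⟨l, rfl⟩ := hb
        have e0 : ((Pi.single (e i) 1 : ι → F) ∘ f) = 0 := by funext c; simp [(P.disj i c).symm]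
        rw [embM_mulVec_mem P.f_inj, e0]
        simp [(P.disj i l).symm]
      · push Not at hb
        rw [embM_mulVec_off _ _ hb]
    rw [e1]
    by_cases ha : ∃ l, e l = a
    · obtain ⟨l, rfl⟩ := ha
      have e0 : ((Pi.single (e i) 1 : ι → F) ∘ e) = Pi.single i 1 := by
        funext c; simp [Pi.single_apply, P.e_inj.eq_iff]
      rw [embM_mulVec_mem P.e_inj, e0, h]
      simp [Pi.single_apply, P.e_inj.eq_iff]
    · push Not at ha
      rw [embM_mulVec_off _ _ ha]
      simp [Ne.symm (ha i), Ne.symm (ha j)]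
  · by_cases ha : ∃ l, e l = a
    · obtain ⟨l, rfl⟩ := ha
      rw [embM_mulVec_mem P.e_inj]
      have e0 : (embM f (x⁻¹).1ᵀ *ᵥ (Pi.single (f i) 1 : ι → F)) ∘ e = 0 := by
        funext c
        rw [Function.comp_apply, embM_mulVec_off _ _ (fun l => (P.disj c l).symm)]
        simp [P.disj c i]
      rw [e0]
      simp [P.disj l j]
    · push Not at ha
      rw [embM_mulVec_off _ _ ha]
      by_cases hb : ∃ l, f l = a
      · obtain ⟨l, rfl⟩ := hb
        have e0 : ((Pi.single (f i) 1 : ι → F) ∘ f) = Pi.single i 1 := by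
          funext c; simp [Pi.single_apply, P.f_inj.eq_iff]
        rw [embM_mulVec_mem P.f_inj, e0, h]
        simp [Pi.single_apply, P.f_inj.eq_iff]
      · push Not at hb
        rw [embM_mulVec_off _ _ hb]
        simp [Ne.symm (hb i), Ne.symm (hb j)]

theorem levi_transvection {i j : Fin m} (h : i ≠ j) (c : F) (x : ι → F) :
    leviM P.e_inj P.f_inj P.disj (SpecialLinearGroup.transvection h c) *ᵥ x =
      x + Pi.single (e i) (c * x (e j)) - Pi.single (f j) (c * x (f i)) := by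
  funext a
  show ((embM e (SpecialLinearGroup.transvection h c).1 *
    embM f ((SpecialLinearGroup.transvection h c)⁻¹).1ᵀ) *ᵥ x) a = _
  rw [← Matrix.mulVec_mulVec]
  by_cases ha : ∃ l, e l = a
  · obtain ⟨l, rfl⟩ := ha
    rw [embM_mulVec_mem P.e_inj]
    have e0 : (embM f ((SpecialLinearGroup.transvection h c)⁻¹).1ᵀ *ᵥ x) ∘ e = x ∘ e := by
      funext d
      exact embM_mulVec_off _ _ fun l => (P.disj d l).symm
    rw [e0, transvection_mulVec]
    simp [Pi.single_apply, P.e_inj.eq_iff, P.disj l j]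
  · push Not at ha
    rw [embM_mulVec_off _ _ ha]
    by_cases hb : ∃ l, f l = a
    · obtain ⟨l, rfl⟩ := hb
      rw [embM_mulVec_mem P.f_inj, transvection_inv_transpose_mulVec]
      simp [Pi.single_apply, P.f_inj.eq_iff, (P.disj i l).symm]
    · push Not at hb
      rw [embM_mulVec_off _ _ hb]
      simp [Ne.symm (ha i), Ne.symm (hb j)]

end Pairing

end Cfsg.Agent.ClassSquare.Orth
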