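/-
Even products of exchanges of hyperbolic pairs lie in `Omega`.
-/
import Cfsg.Agent.Lib.ClassSquare.OmegaGen

set_option autoImplicit false

namespace Cfsg.Agent.ClassSquare.Orth

open Cfsg.Agent.ClassSquare.Mat
open scoped Matrix commutatorElement

universe v

variable {F : Type v} [Field F] {ι : Type} [Fintype ι] [DecidableEq ι] {Q : (ι → F) → F}

/-- a permutation isometry -/
def permI (σ : Equiv.Perm ι) (h : ∀ x, Q (pmat F σ *ᵥ x) = Q x) : ↥(Cfsg.isometryGroup F Q) :=
  ⟨⟨pmat F σ, pmat F σ⁻¹, by rw [pmat_mul, mul_inv_cancel, pmat_one],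
    by rw [pmat_mul, inv_mul_cancel, pmat_one]⟩, Cfsg.Agent.Orth.mem_isometryGroup.2 h⟩

/-- A commutator of permutation isometries. -/
theorem exists_comm_perm (σ π : Equiv.Perm ι) (h1 : ∀ x, Q (pmat F σ *ᵥ x) = Q x)
    (h2 : ∀ x, Q (pmat F π *ᵥ x) = Q x) :
    ∃ g : ↥(Cfsg.Omega F Q), ρO Q g = pmat F (σ * π * σ⁻¹ * π⁻¹) := by
  refine ⟨⟨⁅permI σ h1, permI π h2⁆,
    Subgroup.commutator_mem_commutator (Subgroup.mem_top _) (Subgroup.mem_top _)⟩, ?_⟩
  show pmat F σ * pmat F π * pmat F σ⁻¹ * pmat F π⁻¹ = _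
  rw [pmat_mul, pmat_mul, pmat_mul]

variable {m : ℕ} {e f : Fin m → ι}

/-- Exchanges of the first `2 l` pairs. -/
theorem exists_swaps (P : Pairing Q e f) :
    ∀ l : ℕ, 2 * l ≤ m → ∃ σ : Equiv.Perm ι, (∃ g : ↥(Cfsg.Omega F Q), ρO Q g = pmat F σ) ∧
      (∀ j : Fin m, (j : ℕ) < 2 * l → σ (e j) = f j ∧ σ (f j) = e j) ∧
      ∀ a, (∀ j : Fin m, (j : ℕ) < 2 * l → a ≠ e j ∧ a ≠ f j) → σ a = a := by
  intro l
  induction l with
  | zero =>
    exact fun _ => ⟨1, ⟨1, by rw [map_one, pmat_one]⟩, fun j hj => absurd hj (by omega), fun a _ => rfl⟩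
  | succ l ih =>
    intro hl
    obtain ⟨σ, ⟨g, hg⟩, hσ, hfix⟩ := ih (by omega)
    obtain ⟨a, ha⟩ : ∃ a : Fin m, (a : ℕ) = 2 * l := ⟨⟨2 * l, by omega⟩, rfl⟩
    obtain ⟨b, hb⟩ : ∃ b : Fin m, (b : ℕ) = 2 * l + 1 := ⟨⟨2 * l + 1, by omega⟩, rfl⟩
    have hab : a ≠ b := fun e' => by rw [e'] at ha; omega
    obtain ⟨R, hR, -, hR'⟩ := P.rest
    -- the exchange of a pair
    have hs : ∀ i : Fin m, ∀ x, Q (pmat F (Equiv.swap (e i) (f i)) *ᵥ x) = Q x := by
      intro i x
      rw [hR, hR]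
      congr 1
      · refine Finset.sum_congr rfl fun j _ => ?_
        rw [pmat_mulVec, pmat_mulVec, Equiv.swap_inv]
        by_cases h : j = i
        · subst h; rw [Equiv.swap_apply_left, Equiv.swap_apply_right, mul_comm]
        · rw [Equiv.swap_apply_of_ne_of_ne (fun e' => h (P.e_inj e')) (P.disj j i),
            Equiv.swap_apply_of_ne_of_ne (P.disj i j).symm (fun e' => h (P.f_inj e'))]
      · refine hR' _ _ fun c h1 h2 => ?_
        rw [pmat_mulVec, Equiv.swap_inv, Equiv.swap_apply_of_ne_of_ne (Ne.symm (h1 i)) (Ne.symm (h2 i))]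
    -- the exchange of two pairs
    let π : Equiv.Perm ι := Equiv.swap (e a) (e b) * Equiv.swap (f a) (f b)
    have hπe : ∀ j, π (e j) = e (Equiv.swap a b j) := fun j => by
      rw [Equiv.Perm.mul_apply, Equiv.swap_apply_of_ne_of_ne (P.disj j a) (P.disj j b), P.e_inj.map_swap]
    have hπf : ∀ j, π (f j) = f (Equiv.swap a b j) := fun j => by
      rw [Equiv.Perm.mul_apply, ← P.f_inj.map_swap, Equiv.swap_apply_of_ne_of_ne (P.disj a _).symm (P.disj b _).symm]
    have hπo : ∀ c, (∀ i, e i ≠ c) → (∀ i, f i ≠ c) → π c = c := fun c h1 h2 => by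
      rw [Equiv.Perm.mul_apply, Equiv.swap_apply_of_ne_of_ne (Ne.symm (h2 a)) (Ne.symm (h2 b)),
        Equiv.swap_apply_of_ne_of_ne (Ne.symm (h1 a)) (Ne.symm (h1 b))]
    have hππ : ∀ c, π (π c) = c := fun c => by
      by_cases h1 : ∃ i, e i = c
      · obtain ⟨i, rfl⟩ := h1; rw [hπe, hπe, Equiv.swap_apply_self]
      by_cases h2 : ∃ i, f i = c
      · obtain ⟨i, rfl⟩ := h2; rw [hπf, hπf, Equiv.swap_apply_self]
      push Not at h1 h2
      rw [hπo c h1 h2, hπo c h1 h2]
    have hπi : π⁻¹ = π := inv_eq_of_mul_eq_one_right (Equiv.ext hππ)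
    have hπQ : ∀ x, Q (pmat F π *ᵥ x) = Q x := by
      intro x
      rw [hR, hR]
      congr 1
      · rw [← Equiv.sum_comp (Equiv.swap a b) fun i => x (e i) * x (f i)]
        refine Finset.sum_congr rfl fun j _ => ?_
        rw [pmat_mulVec, pmat_mulVec, hπi, hπe, hπf]
      · refine hR' _ _ fun c h1 h2 => ?_
        rw [pmat_mulVec, hπi, hπo c h1 h2]
    obtain ⟨g', hg'⟩ := exists_comm_perm _ π (hs a) hπQ
    have hcalc : Equiv.swap (e a) (f a) * π * (Equiv.swap (e a) (f a))⁻¹ * π⁻¹ =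
        Equiv.swap (e a) (f a) * Equiv.swap (e b) (f b) := by
      have h := Equiv.swap_apply_apply π (e a) (f a)
      rw [hπe, hπf, Equiv.swap_apply_left] at h
      rw [Equiv.swap_inv, h]
      simp only [mul_assoc]
    rw [hcalc] at hg'
    refine ⟨Equiv.swap (e a) (f a) * Equiv.swap (e b) (f b) * σ, ⟨g' * g, by rw [map_mul, hg', hg, pmat_mul]⟩,
      fun j hj => ?_, fun c hc => ?_⟩
    · rcases (by omega : (j : ℕ) < 2 * l ∨ (j : ℕ) = 2 * l ∨ (j : ℕ) = 2 * l + 1) with h | h | h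
      · have hja : j ≠ a := fun e' => by rw [e'] at h; omega
        have hjb : j ≠ b := fun e' => by rw [e'] at h; omega
        obtain ⟨s1, s2⟩ := hσ j h
        constructor
        · rw [Equiv.Perm.mul_apply, Equiv.Perm.mul_apply, s1,
            Equiv.swap_apply_of_ne_of_ne (P.disj b j).symm (fun e' => hjb (P.f_inj e')),
            Equiv.swap_apply_of_ne_of_ne (P.disj a j).symm (fun e' => hja (P.f_inj e'))]
        · rw [Equiv.Perm.mul_apply, Equiv.Perm.mul_apply, s2,
            Equiv.swap_apply_of_ne_of_ne (fun e' => hjb (P.e_inj e')) (P.disj j b),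
            Equiv.swap_apply_of_ne_of_ne (fun e' => hja (P.e_inj e')) (P.disj j a)]
      · obtain rfl : j = a := Fin.ext (h.trans ha.symm)
        have q : ∀ c, c = e j ∨ c = f j → σ c = c := fun c hc => hfix c fun i hi => by
          have hij : i ≠ j := fun e' => by rw [e'] at hi; omega
          rcases hc with rfl | rfl
          · exact ⟨fun e' => hij (P.e_inj e').symm, P.disj j i⟩
          · exact ⟨(P.disj i j).symm, fun e' => hij (P.f_inj e').symm⟩
        constructor
        · rw [Equiv.Perm.mul_apply, Equiv.Perm.mul_apply, q _ (Or.inl rfl),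
            Equiv.swap_apply_of_ne_of_ne (fun e' => hab (P.e_inj e')) (P.disj j b), Equiv.swap_apply_left]
        · rw [Equiv.Perm.mul_apply, Equiv.Perm.mul_apply, q _ (Or.inr rfl),
            Equiv.swap_apply_of_ne_of_ne (P.disj b j).symm (fun e' => hab (P.f_inj e')), Equiv.swap_apply_right]
      · obtain rfl : j = b := Fin.ext (h.trans hb.symm)
        have q : ∀ c, c = e j ∨ c = f j → σ c = c := fun c hc => hfix c fun i hi => by
          have hij : i ≠ j := fun e' => by rw [e'] at hi; omega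
          rcases hc with rfl | rfl
          · exact ⟨fun e' => hij (P.e_inj e').symm, P.disj j i⟩
          · exact ⟨(P.disj i j).symm, fun e' => hij (P.f_inj e').symm⟩
        constructor
        · rw [Equiv.Perm.mul_apply, Equiv.Perm.mul_apply, q _ (Or.inl rfl), Equiv.swap_apply_left,
            Equiv.swap_apply_of_ne_of_ne (P.disj a j).symm (fun e' => hab (P.f_inj e').symm)]
        · rw [Equiv.Perm.mul_apply, Equiv.Perm.mul_apply, q _ (Or.inr rfl), Equiv.swap_apply_right,
            Equiv.swap_apply_of_ne_of_ne (fun e' => hab (P.e_inj e').symm) (P.disj j a)]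
    · have h1 := hc a (by omega)
      have h2 := hc b (by omega)
      rw [Equiv.Perm.mul_apply, Equiv.Perm.mul_apply, hfix c (fun j hj => hc j (by omega)),
        Equiv.swap_apply_of_ne_of_ne h2.1 h2.2, Equiv.swap_apply_of_ne_of_ne h1.1 h1.2]

end Cfsg.Agent.ClassSquare.Orth
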