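/-
The parabolic data of `SL n`, and the class square property of `PSL n`.
-/
import Cfsg.Agent.Lib.ClassSquare.TypeA
import Cfsg.Agent.Lib.ClassSquare.Units

set_option autoImplicit false
set_option linter.style.haveILetI false

namespace Cfsg.Agent.ClassSquare.TypeA

open Cfsg.Agent.ClassSquare.Mat
open Matrix (SpecialLinearGroup)
open scoped Matrix

universe v

variable {F : Type v} [Field F] {n : ℕ}

/-- block size -/
def bk (n : ℕ) : ℕ := (n - 1) / 2

theorem bk_le (n : ℕ) : bk n ≤ n := by unfold bk; omega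

theorem two_bk_lt {n : ℕ} (hn : 2 ≤ n) : 2 * bk n < n ∧ n ≤ 2 * bk n + 2 := by unfold bk; omega

/-- exponents -/
def ex (n : ℕ) (a : Fin n) : ℤ :=
  if (a : ℕ) < bk n then 1 else if n - bk n ≤ (a : ℕ) then -1 else if n = 2 * bk n + 1 then 0 else
    if (a : ℕ) = bk n then 3 else -3

/-- levels -/
def levA (n : ℕ) (a : Fin n) : ℕ :=
  if (a : ℕ) < bk n then 0 else if n - bk n ≤ (a : ℕ) then 3 else 1 + ((a : ℕ) - bk n)

theorem lev_ex (hn : 2 ≤ n) (a b : Fin n) (h : levA n a ≠ levA n b) : ex n a ≠ ex n b := by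
  have := two_bk_lt hn; have := a.2; have := b.2
  simp only [levA] at h
  simp only [ex]
  split_ifs at h ⊢ <;> omega

theorem lev_ex_eq (hn : 2 ≤ n) (a b : Fin n) (h : levA n a = levA n b) : ex n a = ex n b := by
  have := two_bk_lt hn; have := a.2; have := b.2
  simp only [levA] at h
  simp only [ex]
  split_ifs at h ⊢ <;> omega

/-- the exchange of the two blocks -/
def swapA (n : ℕ) (a : Fin n) : Fin n :=
  if h : (a : ℕ) < bk n then ⟨(a : ℕ) + (n - bk n), by omega⟩
  else if n - bk n ≤ (a : ℕ) then ⟨(a : ℕ) - (n - bk n), by omega⟩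
  else ⟨n - 1 - (a : ℕ), by omega⟩

theorem swapA_val (a : Fin n) : (swapA n a : ℕ) = if (a : ℕ) < bk n then (a : ℕ) + (n - bk n)
    else if n - bk n ≤ (a : ℕ) then (a : ℕ) - (n - bk n) else n - 1 - (a : ℕ) := by
  unfold swapA; split_ifs <;> rfl

theorem swapA_invol (hn : 2 ≤ n) : Function.Involutive (swapA n) := by
  intro a
  have := two_bk_lt hn; have := a.2
  apply Fin.ext
  rw [swapA_val, swapA_val]
  split_ifs <;> omega

theorem ex_swap (hn : 2 ≤ n) (a : Fin n) : ex n (swapA n a) = -ex n a := by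
  have := two_bk_lt hn; have := a.2
  simp only [ex, swapA_val]
  split_ifs <;> omega

/-- top block -/
def fT (n : ℕ) (i : Fin (bk n)) : Fin n := ⟨i, lt_of_lt_of_le i.2 (bk_le n)⟩

/-- bottom block -/
def fB (n : ℕ) (i : Fin (bk n)) : Fin n := ⟨n - bk n + i, by have := i.2; have := bk_le n; omega⟩

theorem fT_inj : Function.Injective (fT n) := fun a b h => Fin.ext (by simpa [fT] using h)

theorem fB_inj : Function.Injective (fB n) := fun a b h => Fin.ext (by simpa [fB] using h)

theorem fT_ne_fB (hn : 2 ≤ n) (i j : Fin (bk n)) : fT n i ≠ fB n j := by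
  intro h
  have := two_bk_lt hn; have := i.2
  simp only [fT, fB, Fin.ext_iff] at h
  omega

theorem swap_fT (hn : 2 ≤ n) (i : Fin (bk n)) : swapA n (fT n i) = fB n i := by
  apply Fin.ext
  rw [swapA_val, if_pos (show (fT n i : ℕ) < bk n from i.2)]
  simp only [fT, fB]
  omega

theorem swap_fB (hn : 2 ≤ n) (i : Fin (bk n)) : swapA n (fB n i) = fT n i := by
  rw [← swap_fT hn, swapA_invol hn]

theorem exists_fT {a : Fin n} (h : (a : ℕ) < bk n) : ∃ i, fT n i = a := ⟨⟨a, h⟩, Fin.ext rfl⟩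

theorem exists_fB {a : Fin n} (h : n - bk n ≤ (a : ℕ)) : ∃ i, fB n i = a :=
  ⟨⟨(a : ℕ) - (n - bk n), by have := a.2; have := bk_le n; omega⟩, Fin.ext (by simp [fB]; omega)⟩

variable (F) in
/-- the Levi homomorphism -/
def PsiA (hn : 2 ≤ n) : ((_ : Fin 2) → SpecialLinearGroup (Fin (bk n)) F) →* SpecialLinearGroup (Fin n) F :=
  MonoidHom.mk' (fun x => emb (fT n) fT_inj (x 0) * emb (fB n) fB_inj (x 1)) fun x y => by
    have hc : emb (fB n) fB_inj (x 1) * emb (fT n) fT_inj (y 0) = emb (fT n) fT_inj (y 0) * emb (fB n) fB_inj (x 1) :=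
      Subtype.ext (embM_comm (fun i j => (fT_ne_fB hn j i).symm) _ _)
    simp only [Pi.mul_apply, map_mul, mul_assoc]
    rw [← mul_assoc (emb (fB n) fB_inj (x 1)), hc, mul_assoc]

theorem PsiA_val (hn : 2 ≤ n) (x : (_ : Fin 2) → SpecialLinearGroup (Fin (bk n)) F) :
    ρA F n (PsiA F hn x) = embM (fT n) (x 0).1 * embM (fB n) (x 1).1 := rfl

theorem PsiA_block (hn : 2 ≤ n) (x : (_ : Fin 2) → SpecialLinearGroup (Fin (bk n)) F) (M : Matrix (Fin n) (Fin n) F)
    (hd : ∀ a, M a a = 1) (h0 : ∀ i j, (x 0).1 i j = M (fT n i) (fT n j))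
    (h1 : ∀ i j, (x 1).1 i j = M (fB n i) (fB n j)) (a b : Fin n) (hab : levA n a = levA n b) :
    ρA F n (PsiA F hn x) a b = M a b := by
  have := two_bk_lt hn; have := a.2; have := b.2
  rw [PsiA_val]
  simp only [levA] at hab
  by_cases ha : (a : ℕ) < bk n
  · have hb : (b : ℕ) < bk n := by rw [if_pos ha] at hab; split_ifs at hab <;> omega
    obtain ⟨i, rfl⟩ := exists_fT ha
    obtain ⟨j, rfl⟩ := exists_fT hb
    rw [mul_embM_apply _ _ _ (fun l => (fT_ne_fB hn j l).symm), embM_apply_mem fT_inj, h0]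
  by_cases ha' : n - bk n ≤ (a : ℕ)
  · have hb : n - bk n ≤ (b : ℕ) := by rw [if_neg ha, if_pos ha'] at hab; split_ifs at hab <;> omega
    obtain ⟨i, rfl⟩ := exists_fB ha'
    obtain ⟨j, rfl⟩ := exists_fB hb
    rw [embM_mul_apply _ _ (fun l => fT_ne_fB hn l i), embM_apply_mem fB_inj, h1]
  · have e : b = a := by
      apply Fin.ext
      rw [if_neg ha, if_neg ha'] at hab
      split_ifs at hab <;> omega
    subst e
    rw [embM_mul_apply _ _ (fun l e => ha (by rw [← e]; exact l.2)),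
      embM_apply_left _ (fun l e => ha' (by rw [← e]; simp [fB])), Matrix.one_apply_eq, hd]

theorem ex_sum (hn : 2 ≤ n) : ∑ a, ex n a = 0 := by
  have e : ∑ a, ex n a = ∑ a, ex n (swapA n a) :=
    (Equiv.sum_comp (Function.Involutive.toPerm _ (swapA_invol hn)) (ex n)).symm
  simp only [ex_swap hn, Finset.sum_neg_distrib] at e
  omega

/-- the torus element -/
def hA (hn : 2 ≤ n) (ξ : Fˣ) : SpecialLinearGroup (Fin n) F :=
  diagA (fun a => ξ ^ ex n a) (by rw [prod_zpow_total, ex_sum hn, zpow_zero])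

theorem exists_flip (hn : 2 ≤ n) (ξ : Fˣ) :
    ∃ N : SpecialLinearGroup (Fin n) F, N * hA hn ξ * N⁻¹ = (hA hn ξ)⁻¹ ∧
      ∀ X : SpecialLinearGroup (Fin (bk n)) F, N * PsiA F hn (fun _ => X) * N⁻¹ = PsiA F hn (fun _ => X) := by
  have hb := two_bk_lt hn
  let σ : Equiv.Perm (Fin n) := Function.Involutive.toPerm _ (swapA_invol hn)
  have hσ : σ⁻¹ = σ := Function.Involutive.toPerm_symm (swapA_invol hn)
  have hσv : ∀ a, σ a = swapA n a := fun a => rfl
  let u : Fˣ := Units.mk0 _ (pmat_det_ne (F := F) σ)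
  let c : Fin n → Fˣ := Pi.mulSingle ⟨bk n, by omega⟩ u⁻¹
  let N : SpecialLinearGroup (Fin n) F := ⟨Matrix.diagonal (fun a => (c a : F)) * pmat F σ, by
    rw [Matrix.det_mul, Matrix.det_diagonal, ← Units.coe_prod, Finset.prod_pi_mulSingle', if_pos (Finset.mem_univ _)]
    exact Units.inv_mul u⟩
  have hcT : ∀ i, c (fT n i) = 1 := fun i => Pi.mulSingle_eq_of_ne (fun e => by
    have he : (i : ℕ) = bk n := congrArg Fin.val e; have := i.2; omega) _
  have hcB : ∀ i, c (fB n i) = 1 := fun i => Pi.mulSingle_eq_of_ne (fun e => by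
    have he : n - bk n + (i : ℕ) = bk n := congrArg Fin.val e; omega) _
  refine ⟨N, ?_, fun X => ?_⟩
  · rw [mul_inv_eq_iff_eq_mul]
    apply Subtype.ext
    have hi : ((hA hn ξ)⁻¹).1 = Matrix.diagonal fun a => ((ξ ^ (-ex n a) : Fˣ) : F) := by
      have h1 : hA hn ξ * diagA (fun a => ξ ^ (-ex n a)) (by
          rw [prod_zpow_total, Finset.sum_neg_distrib, ex_sum hn, neg_zero, zpow_zero]) = 1 := by
        apply Subtype.ext
        show Matrix.diagonal _ * Matrix.diagonal _ = 1
        rw [Matrix.diagonal_mul_diagonal, ← Matrix.diagonal_one]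
        congr 1
        funext a
        rw [← Units.val_mul, ← _root_.zpow_add, add_neg_cancel, zpow_zero, Units.val_one]
      rw [inv_eq_of_mul_eq_one_right h1]
      rfl
    show Matrix.diagonal (fun a => (c a : F)) * pmat F σ * Matrix.diagonal (fun a => ((ξ ^ ex n a : Fˣ) : F)) =
      ((hA hn ξ)⁻¹).1 * (Matrix.diagonal (fun a => (c a : F)) * pmat F σ)
    rw [hi, Matrix.mul_assoc, pmat_diag, ← Matrix.mul_assoc, ← Matrix.mul_assoc, Matrix.diagonal_mul_diagonal,
      Matrix.diagonal_mul_diagonal]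
    congr 2
    funext a
    rw [hσ, hσv, ex_swap hn, mul_comm]
  · rw [mul_inv_eq_iff_eq_mul]
    apply Subtype.ext
    show Matrix.diagonal (fun a => (c a : F)) * pmat F σ * (embM (fT n) X.1 * embM (fB n) X.1) =
      embM (fT n) X.1 * embM (fB n) X.1 * (Matrix.diagonal (fun a => (c a : F)) * pmat F σ)
    have e1 : (σ : Fin n → Fin n) ∘ fT n = fB n := funext fun i => swap_fT hn i
    have e2 : (σ : Fin n → Fin n) ∘ fB n = fT n := funext fun i => swap_fB hn i
    rw [Matrix.mul_assoc, ← Matrix.mul_assoc (pmat F σ), pmat_embM, e1, Matrix.mul_assoc (embM (fB n) X.1),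
      pmat_embM, e2, ← Matrix.mul_assoc (embM (fB n) X.1),
      ← embM_comm (fun i j => fT_ne_fB hn i j), ← Matrix.mul_assoc, ← Matrix.mul_assoc,
      diag_embM_comm fT_inj c hcT, Matrix.mul_assoc (embM (fT n) X.1), diag_embM_comm fB_inj c hcB]
    simp only [Matrix.mul_assoc]

theorem surjA (hn : 2 ≤ n) (hk : 1 ≤ bk n) (ξ : Fˣ) (d : Fin 2 → Fˣ) :
    ∃ t : SpecialLinearGroup (Fin n) F, t * hA hn ξ = hA hn ξ * t ∧
      ∃ (Dg : (_ : Fin 2) → GL (Fin (bk n)) F) (c : Fin 2 → F),
        (∀ b, c b ≠ 0 ∧ (Dg b).1.det = (d b : F) * c b ^ bk n) ∧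
        ∀ x, t * PsiA F hn x * t⁻¹ = PsiA F hn fun b => conjSL (Dg b) (x b) := by
  have hb := two_bk_lt hn
  let d' : Fin n → Fˣ := Pi.mulSingle ⟨0, by omega⟩ (d 0) * Pi.mulSingle ⟨n - 1, by omega⟩ (d 1) *
    Pi.mulSingle ⟨bk n, by omega⟩ (d 0 * d 1)⁻¹
  have hd' : ∏ a, d' a = 1 := by
    simp only [d', Pi.mul_apply, Finset.prod_mul_distrib, Finset.prod_pi_mulSingle', Finset.mem_univ, if_true,
      mul_inv_cancel]
  let f : Fin 2 → Fin (bk n) → Fin n := ![fT n, fB n]
  refine ⟨diagA d' hd', ?_, fun b => dGL fun i => d' (f b i), fun _ => 1, fun b => ⟨one_ne_zero, ?_⟩, fun x => ?_⟩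
  · apply Subtype.ext
    show Matrix.diagonal _ * Matrix.diagonal _ = Matrix.diagonal _ * Matrix.diagonal _
    rw [Matrix.diagonal_mul_diagonal, Matrix.diagonal_mul_diagonal]
    simp only [mul_comm]
  · rw [dGL_det, one_pow, mul_one]
    congr 1
    fin_cases b
    · rw [Finset.prod_eq_single (⟨0, hk⟩ : Fin (bk n))]
      · simp [d', f, fT, Pi.mulSingle_apply, Fin.ext_iff]
        rw [if_neg (by omega), if_neg (by omega)]
      · intro i _ hi
        have : (i : ℕ) ≠ 0 := fun e => hi (Fin.ext e)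
        have := i.2
        simp [d', f, fT, Pi.mulSingle_apply, Fin.ext_iff]
        rw [if_neg (by omega), if_neg (by omega), if_neg (by omega)]
      · simp
    · rw [Finset.prod_eq_single (⟨bk n - 1, by omega⟩ : Fin (bk n))]
      · simp [d', f, fB, Pi.mulSingle_apply, Fin.ext_iff]
        rw [if_neg (by omega), if_pos (by omega), if_neg (by omega)]
      · intro i _ hi
        have : (i : ℕ) ≠ bk n - 1 := fun e => hi (Fin.ext e)
        have := i.2
        simp [d', f, fB, Pi.mulSingle_apply, Fin.ext_iff]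
        rw [if_neg (by omega), if_neg (by omega), if_neg (by omega)]
      · simp
  · apply Subtype.ext
    rw [diagA_conj]
    show Matrix.diagonal (fun a => (d' a : F)) * (embM (fT n) (x 0).1 * embM (fB n) (x 1).1) *
      Matrix.diagonal (fun a => (((d' a)⁻¹ : Fˣ) : F)) =
      embM (fT n) (conjSL (dGL fun i => d' (f 0 i)) (x 0)).1 * embM (fB n) (conjSL (dGL fun i => d' (f 1 i)) (x 1)).1
    rw [conjSL_dGL_val, conjSL_dGL_val]
    show _ = embM (fT n) (Matrix.diagonal (fun i => (d' (fT n i) : F)) * (x 0).1 *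
      Matrix.diagonal (fun i => (((d' (fT n i))⁻¹ : Fˣ) : F))) * embM (fB n) (Matrix.diagonal (fun i => (d' (fB n i) : F)) *
      (x 1).1 * Matrix.diagonal (fun i => (((d' (fB n i))⁻¹ : Fˣ) : F)))
    rw [← diag_conj_embM fT_inj d', ← diag_conj_embM fB_inj d']
    have e : Matrix.diagonal (fun a => (((d' a)⁻¹ : Fˣ) : F)) * Matrix.diagonal (fun a => (d' a : F)) = 1 := by
      rw [Matrix.diagonal_mul_diagonal]; simp
    simp only [Matrix.mul_assoc]
    rw [← Matrix.mul_assoc (Matrix.diagonal (fun a => (((d' a)⁻¹ : Fˣ) : F))) (Matrix.diagonal (fun a => (d' a : F))),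
      e, Matrix.one_mul]

variable [Finite F]

theorem blocks_upper (hn : 2 ≤ n) (u : Matrix (Fin n) (Fin n) F) (hu : BU (fun a : Fin n => (a : ℕ)) u) :
    ∃ x : (_ : Fin 2) → SpecialLinearGroup (Fin (bk n)) F, (∀ b, StrictUpper ((x b).1 - 1)) ∧
      ∀ a b, levA n a = levA n b → ρA F n (PsiA F hn x) a b = u a b := by
  have hd : ∀ a, u a a = 1 := fun a => (hu a a le_rfl).trans (Matrix.one_apply_eq a)
  obtain ⟨x0, s0, v0⟩ := exists_block u (fT n) (fun i => hd _) fun i j hij =>
    (hu (fT n i) (fT n j) (by simpa [fT] using hij.le)).trans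
      (Matrix.one_apply_ne fun e => by have := fT_inj e; subst this; omega)
  obtain ⟨x1, s1, v1⟩ := exists_block u (fB n) (fun i => hd _) fun i j hij =>
    (hu (fB n i) (fB n j) (by simpa [fB] using hij.le)).trans
      (Matrix.one_apply_ne fun e => by have := fB_inj e; subst this; omega)
  exact ⟨![x0, x1], fun b => by fin_cases b <;> assumption, PsiA_block hn ![x0, x1] _ hd v0 v1⟩

theorem blocks_lower (hn : 2 ≤ n) (u : Matrix (Fin n) (Fin n) F) (hu : BL (fun a : Fin n => (a : ℕ)) u) :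
    ∃ x : (_ : Fin 2) → SpecialLinearGroup (Fin (bk n)) F, (∀ b, StrictUpper ((x b).1 - 1)ᵀ) ∧
      ∀ a b, levA n a = levA n b → ρA F n (PsiA F hn x) a b = u a b := by
  have hd : ∀ a, u a a = 1 := fun a => (hu a a le_rfl).trans (Matrix.one_apply_eq a)
  obtain ⟨x0, s0, v0⟩ := exists_block_low u (fT n) (fun i => hd _) fun i j hij =>
    (hu (fT n i) (fT n j) (by simpa [fT] using hij.le)).trans
      (Matrix.one_apply_ne fun e => by have := fT_inj e; subst this; omega)
  obtain ⟨x1, s1, v1⟩ := exists_block_low u (fB n) (fun i => hd _) fun i j hij =>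
    (hu (fB n i) (fB n j) (by simpa [fB] using hij.le)).trans
      (Matrix.one_apply_ne fun e => by have := fB_inj e; subst this; omega)
  exact ⟨![x0, x1], fun b => by fin_cases b <;> assumption, PsiA_block hn ![x0, x1] _ hd v0 v1⟩

theorem exists_matLevi [Fintype F] (hn : 2 ≤ n) (hF : 9 ≤ Fintype.card F) :
    Nonempty (MatLevi (matDatum (F := F) (n := n) hn)) := by
  obtain ⟨ξ, hξ⟩ := exists_sep (F := F) hF
  have hbk := two_bk_lt hn
  have hne : ∀ a b, levA n a ≠ levA n b → ξ ^ ex n a ≠ ξ ^ ex n b := fun a b h e => lev_ex hn a b h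
    (hξ _ _ (by simp only [ex]; split_ifs <;> omega) e)
  have hmono : ∀ a b : Fin n, levA n b < levA n a → (b : ℕ) ≤ a := fun a b h => by
    have := a.2; have := b.2; simp only [levA] at h; split_ifs at h <;> omega
  obtain ⟨N, hNh, hNP⟩ := exists_flip hn ξ
  rcases Nat.eq_zero_or_pos (bk n) with hk | hk
  · -- no blocks
    have hinj : ∀ a b : Fin n, levA n a = levA n b → a = b := fun a b h => by
      have := a.2; have := b.2; apply Fin.ext
      simp only [levA] at h; split_ifs at h <;> omega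
    refine ⟨{
      r := 0
      kk := fun b => b.elim0
      Ψ := 1
      lev := levA n
      lev_mono := hmono
      hd := fun a => ξ ^ ex n a
      hd_eq := fun a b h => by rw [lev_ex_eq hn a b h]
      hd_ne := hne
      h := hA hn ξ
      h_val := rfl
      Ψ_bd := fun x a b h => by
        rw [MonoidHom.one_apply, map_one]; exact Matrix.one_apply_ne fun e => h (congrArg _ e)
      sU := fun u hu => ⟨1, fun b => b.elim0, fun a b h => by
        obtain rfl := hinj a b h
        rw [MonoidHom.one_apply, map_one, hu a a le_rfl]⟩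
      sV := fun u hu => ⟨1, fun b => b.elim0, fun a b h => by
        obtain rfl := hinj a b h
        rw [MonoidHom.one_apply, map_one, hu a a le_rfl]⟩
      surj := fun d => ⟨1, by rw [one_mul, mul_one], fun b => b.elim0, fun b => b.elim0, fun b => b.elim0,
        fun x => by simp⟩
      flip := ⟨fun b => b.elim0, fun b => b.elim0, ?_⟩ }⟩
    refine (isConj_iff.2 ⟨N, ?_⟩).symm
    simp only [MonoidHom.one_apply, mul_one]
    exact hNh
  · refine ⟨{
      r := 2
      kk := fun _ => bk n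
      Ψ := PsiA F hn
      lev := levA n
      lev_mono := hmono
      hd := fun a => ξ ^ ex n a
      hd_eq := fun a b h => by rw [lev_ex_eq hn a b h]
      hd_ne := hne
      h := hA hn ξ
      h_val := rfl
      Ψ_bd := fun x => ?_
      sU := fun u hu => blocks_upper hn _ hu
      sV := fun u hu => blocks_lower hn _ hu
      surj := surjA hn hk ξ
      flip := ⟨fun _ => jSL F (bk n), fun _ => isReg_jordan _, ?_⟩ }⟩
    · have h0 : ∀ i, levA n (fT n i) = 0 := fun i => by simp [levA, fT]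
      have h3 : ∀ i, levA n (fB n i) = 3 := fun i => by
        have := i.2; have hv : (fB n i : ℕ) = n - bk n + i := rfl; unfold levA; rw [if_neg (by omega), if_pos (by omega)]
      show BD _ (ρA F n (PsiA F hn x))
      rw [PsiA_val]
      exact BD.mul (embM_bd fT_inj _ fun i j h => absurd (by rw [h0, h0]) h)
        (embM_bd fB_inj _ fun i j h => absurd (by rw [h3, h3]) h)
    · refine (isConj_iff.2 ⟨N, ?_⟩).symm
      rw [← hNh]
      conv_rhs => rw [← hNP (jSL F (bk n))]
      group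

/-- **The class square property of `PSL n`.** -/
theorem class_square [Fintype F] (hn : 2 ≤ n) (hF : 9 ≤ Fintype.card F) {H : Type*} [Group H]
    (e : H ≃* Matrix.ProjectiveSpecialLinearGroup (Fin n) F) :
    ∃ c : H, ∀ g : H, ∃ x y : H, g = (x * c * x⁻¹) * (y * c * y⁻¹) := by
  obtain ⟨L⟩ := exists_matLevi (F := F) hn hF
  haveI : Nonempty (Fin (n - 1)) := ⟨⟨0, by omega⟩⟩
  exact L.class_square hF e

end Cfsg.Agent.ClassSquare.TypeA
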