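/-
The rank one data of `Omega 2m+1` in odd characteristic.
-/
import Cfsg.Agent.Lib.ClassSquare.OmegaGen
import Cfsg.Agent.Lib.Orthogonal.Counts

set_option autoImplicit false
set_option linter.style.haveILetI false

namespace Cfsg.Agent.ClassSquare.TypeB

open Cfsg.Agent.SL2Pres (up low)
open Cfsg.Agent.Orth (qOdd coe_qOdd qOdd_nondeg)
open Cfsg.Agent.TwoGenOrth (sg Hyp conj_sg_mem InW)
open Cfsg.Agent.ClassSquare.Mat
open Cfsg.Agent.ClassSquare.Orth
open Matrix (SpecialLinearGroup)
open scoped Matrix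
open QuadraticMap

universe v

variable {F : Type v} [Field F] {m : ℕ}

/-- the index type -/
abbrev IB (m : ℕ) : Type := Unit ⊕ (Fin m ⊕ Fin m)

/-- the group -/
abbrev GB (m : ℕ) (F : Type v) [Field F] : Type v := ↥(Cfsg.Omega F (⇑(qOdd F m)))

/-- first half -/
def eB (i : Fin m) : IB m := Sum.inr (Sum.inl i)

/-- second half -/
def fB (i : Fin m) : IB m := Sum.inr (Sum.inr i)

/-- middle -/
def zB : IB m := Sum.inl ()

theorem qOdd_eq (x : IB m → F) : qOdd F m x = x zB ^ 2 + ∑ i, x (eB i) * x (fB i) := by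
  rw [coe_qOdd]; rfl

theorem pairing : Pairing (⇑(qOdd F m)) (eB : Fin m → IB m) fB where
  e_inj a b h := Sum.inl_injective (Sum.inr_injective h)
  f_inj a b h := Sum.inr_injective (Sum.inr_injective h)
  disj a b h := Sum.inl_ne_inr (Sum.inr_injective h)
  rest := ⟨fun x => x zB ^ 2, fun x => by rw [qOdd_eq, add_comm], by simp,
    fun x y h => by show x zB ^ 2 = y zB ^ 2; rw [h zB (fun i => Sum.inr_ne_inl) (fun i => Sum.inr_ne_inl)]⟩

theorem polar_eq (x y : IB m → F) :
    polar (qOdd F m) x y = 2 * x zB * y zB + ∑ i, (x (eB i) * y (fB i) + y (eB i) * x (fB i)) := by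
  rw [polar, qOdd_eq, qOdd_eq, qOdd_eq]
  have e : ∀ i : Fin m, (x + y) (eB i) * (x + y) (fB i) =
      x (eB i) * x (fB i) + y (eB i) * y (fB i) + (x (eB i) * y (fB i) + y (eB i) * x (fB i)) := fun i => by
    simp only [Pi.add_apply]; ring
  rw [Finset.sum_congr rfl fun i _ => e i]
  simp only [Finset.sum_add_distrib, Pi.add_apply]
  ring

/-- order of the basis -/
def fineB (m : ℕ) : IB m → ℕ := Sum.elim (fun _ => m) (Sum.elim (fun i => (i : ℕ)) fun i => 2 * m - i)

theorem fine_eB (i : Fin m) : fineB m (eB i) = i := rfl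

theorem fine_fB (i : Fin m) : fineB m (fB i) = 2 * m - i := rfl

theorem fine_zB : fineB m (zB : IB m) = m := rfl

theorem fineB_inj (m : ℕ) : Function.Injective (fineB m) := by
  rintro (a | a | a) (b | b | b) h <;> simp [fineB, Fin.ext_iff] at h ⊢ <;> omega

/-- the triple of the last node -/
def tri (r : Fin m) : Fin 3 → IB m := ![eB r, zB, fB r]

theorem tri_inj (r : Fin m) : Function.Injective (tri r) := by
  intro i j h
  fin_cases i <;> fin_cases j <;> simp [tri, eB, fB, zB] at h ⊢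

/-- the adjoint matrices -/
def adM (x : Matrix (Fin 2) (Fin 2) F) : Matrix (Fin 3) (Fin 3) F :=
  !![x 0 0 ^ 2, -2 * x 0 0 * x 0 1, -x 0 1 ^ 2;
     -(x 0 0 * x 1 0), x 0 0 * x 1 1 + x 0 1 * x 1 0, x 0 1 * x 1 1;
     -x 1 0 ^ 2, 2 * x 1 0 * x 1 1, x 1 1 ^ 2]

/-- the adjoint representation on a triple -/
def adHom (r : Fin m) : SpecialLinearGroup (Fin 2) F →* Matrix (IB m) (IB m) F where
  toFun x := embM (tri r) (adM x.1)
  map_one' := by
    rw [show adM (1 : SpecialLinearGroup (Fin 2) F).1 = (1 : Matrix (Fin 3) (Fin 3) F) from ?_, embM_one]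
    show adM (1 : Matrix (Fin 2) (Fin 2) F) = 1
    ext i j; fin_cases i <;> fin_cases j <;> simp [adM]
  map_mul' x y := by
    rw [embM_mul (tri_inj r)]
    congr 1
    show adM (x.1 * y.1) = _
    ext i j
    fin_cases i <;> fin_cases j <;>
      simp [adM, Matrix.mul_apply, Fin.sum_univ_three, Fin.sum_univ_two] <;> ring

theorem adHom_iso (r : Fin m) (x : SpecialLinearGroup (Fin 2) F) (v : IB m → F) :
    qOdd F m (adHom r x *ᵥ v) = qOdd F m v := by
  have hdet : x.1 0 0 * x.1 1 1 - x.1 0 1 * x.1 1 0 = 1 := by rw [← Matrix.det_fin_two]; exact x.2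
  show qOdd F m (embM (tri r) (adM x.1) *ᵥ v) = _
  obtain ⟨w, hw⟩ : ∃ w, w = embM (tri r) (adM x.1) *ᵥ v := ⟨_, rfl⟩
  have h1 : ∀ i, w (tri r i) = (adM x.1 *ᵥ (v ∘ tri r)) i := fun i => by rw [hw, embM_mulVec_mem (tri_inj r)]
  have h2 : ∀ i, i ≠ r → w (eB i) = v (eB i) ∧ w (fB i) = v (fB i) := fun i hi => by
    constructor <;> rw [hw] <;> apply embM_mulVec_off <;> intro j <;> fin_cases j <;>
      simp [tri, eB, fB, zB, Ne.symm hi]
  rw [← hw, qOdd_eq, qOdd_eq, ← Finset.add_sum_erase _ _ (Finset.mem_univ r),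
    ← Finset.add_sum_erase (f := fun i => v (eB i) * v (fB i)) _ (Finset.mem_univ r),
    Finset.sum_congr rfl fun i hi => by rw [(h2 i (Finset.ne_of_mem_erase hi)).1, (h2 i (Finset.ne_of_mem_erase hi)).2],
    show w zB = _ from h1 1, show w (eB r) = _ from h1 0, show w (fB r) = _ from h1 2]
  simp [adM, Matrix.mulVec, dotProduct, Fin.sum_univ_three, tri]
  linear_combination ((v zB ^ 2 + v (eB r) * v (fB r)) * (x.1 0 0 * x.1 1 1 - x.1 0 1 * x.1 1 0 + 1)) * hdet

/-- the grading of the last node -/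
def blkB (m : ℕ) (a : IB m) : ℕ :=
  if fineB m a < m then fineB m a else if fineB m a ≤ m + 1 then m - 1 else fineB m a - 2

theorem blkB_mono {a b : IB m} (h : fineB m a ≤ fineB m b) : blkB m a ≤ blkB m b := by
  simp only [blkB]; split_ifs <;> omega

theorem blkB_tri (r : Fin m) (hr : (r : ℕ) + 1 = m) (k : Fin 3) : blkB m (tri r k) = m - 1 := by
  fin_cases k
  · show blkB m (eB r) = _
    have := fine_eB r
    unfold blkB; rw [if_pos (by omega)]; omega
  · show blkB m zB = _
    have := fine_zB (m := m)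
    unfold blkB; rw [if_neg (by omega), if_pos (by omega)]
  · show blkB m (fB r) = _
    have := fine_fB r
    unfold blkB; rw [if_neg (by omega), if_pos (by omega)]

theorem blkB_eq (r : Fin m) (hr : (r : ℕ) + 1 = m) {a b : IB m} (h : blkB m a = blkB m b) :
    a = b ∨ ((∃ k, tri r k = a) ∧ ∃ k, tri r k = b) := by
  rw [or_iff_not_imp_left]
  intro hne
  have hf : fineB m a ≠ fineB m b := fun e => hne (fineB_inj m e)
  have key : ∀ c : IB m, fineB m c + 1 = m ∨ fineB m c = m ∨ fineB m c = m + 1 → ∃ k, tri r k = c := by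
    intro c hc
    have := fine_eB r; have := fine_fB r; have := fine_zB (m := m)
    rcases hc with hc | hc | hc
    · exact ⟨0, fineB_inj m (by show fineB m (eB r) = fineB m c; omega)⟩
    · exact ⟨1, fineB_inj m (by show fineB m zB = fineB m c; omega)⟩
    · exact ⟨2, fineB_inj m (by show fineB m (fB r) = fineB m c; omega)⟩
  simp only [blkB] at h
  exact ⟨key a (by split_ifs at h <;> omega), key b (by split_ifs at h <;> omega)⟩

theorem split_last (r : Fin m) (hr : (r : ℕ) + 1 = m) (M : Matrix (IB m) (IB m) F)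
    (X : Matrix (Fin 3) (Fin 3) F) (hd : ∀ a, M a a = 1) (h : ∀ k l, M (tri r k) (tri r l) = X k l)
    {a b : IB m} (hab : blkB m a = blkB m b) : M a b = embM (tri r) X a b := by
  by_cases ha : ∃ k, tri r k = a
  · obtain ⟨k, rfl⟩ := ha
    obtain ⟨l, rfl⟩ : ∃ l, tri r l = b := by
      rcases blkB_eq r hr hab with rfl | ⟨-, h'⟩
      exacts [⟨k, rfl⟩, h']
    rw [embM_apply_mem (tri_inj r), h]
  · obtain rfl : a = b := (blkB_eq r hr hab).resolve_right fun h' => ha h'.1
    push Not at ha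
    rw [embM_apply_left _ ha, Matrix.one_apply_eq, hd]

theorem upper_entries (r : Fin m) (hr : (r : ℕ) + 1 = m) (g : GB m F) (hg : BU (fineB m) (ρO _ g)) :
    ρO _ g (eB r) zB = -2 * ρO _ g zB (fB r) ∧ ρO _ g (eB r) (fB r) = -(ρO _ g zB (fB r)) ^ 2 := by
  have hz : ∀ i : Fin m, ρO _ g (fB i) zB = 0 := fun i =>
    (hg _ _ (by rw [fine_fB, fine_zB]; have := i.2; omega)).trans (Matrix.one_apply_ne Sum.inr_ne_inl)
  have hf : ∀ i : Fin m, ρO _ g (fB i) (fB r) = if i = r then 1 else 0 := fun i => by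
    rw [hg _ _ (by rw [fine_fB, fine_fB]; have := i.2; omega), Matrix.one_apply]
    exact if_congr ⟨fun e => pairing (F := F).f_inj e, fun e => e ▸ rfl⟩ rfl rfl
  have hzz : ρO (⇑(qOdd F m)) g zB zB = 1 := (hg _ _ le_rfl).trans (Matrix.one_apply_eq _)
  constructor
  · have h := polar_inv g (Pi.single zB 1) (Pi.single (fB r) 1)
    rw [polar_eq, polar_eq] at h
    simp [Matrix.mulVec_single_one, hz, hf, hzz] at h
    simp [eB, fB, zB] at h ⊢
    linear_combination h
  · have h := ρO_iso (⇑(qOdd F m)) g (Pi.single (fB r) 1)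
    rw [pairing.q_f, qOdd_eq] at h
    simp [Matrix.mulVec_single_one, hf] at h
    linear_combination h

theorem lower_entries (r : Fin m) (hr : (r : ℕ) + 1 = m) (g : GB m F) (hg : BL (fineB m) (ρO _ g)) :
    2 * ρO _ g zB (eB r) = -ρO _ g (fB r) zB ∧ ρO _ g (fB r) (eB r) = -(ρO _ g zB (eB r)) ^ 2 := by
  have hz : ∀ i : Fin m, ρO _ g (eB i) zB = 0 := fun i =>
    (hg _ _ (by rw [fine_eB, fine_zB]; have := i.2; omega)).trans (Matrix.one_apply_ne Sum.inr_ne_inl)
  have he : ∀ i : Fin m, ρO _ g (eB i) (eB r) = if i = r then 1 else 0 := fun i => by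
    rw [hg _ _ (by rw [fine_eB, fine_eB]; have := i.2; omega), Matrix.one_apply]
    exact if_congr ⟨fun e => pairing (F := F).e_inj e, fun e => e ▸ rfl⟩ rfl rfl
  have hzz : ρO (⇑(qOdd F m)) g zB zB = 1 := (hg _ _ le_rfl).trans (Matrix.one_apply_eq _)
  constructor
  · have h := polar_inv g (Pi.single zB 1) (Pi.single (eB r) 1)
    rw [polar_eq, polar_eq] at h
    simp [Matrix.mulVec_single_one, hz, he, hzz] at h
    simp [eB, fB, zB] at h ⊢
    linear_combination h
  · have h := ρO_iso (⇑(qOdd F m)) g (Pi.single (eB r) 1)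
    rw [pairing.q_e, qOdd_eq] at h
    simp [Matrix.mulVec_single_one, he] at h
    linear_combination h

variable [Fintype F]

/-- The hyperbolic data. -/
noncomputable def hy (hF : 4 ≤ Fintype.card F) (hm : 2 ≤ m) : Hy (GB m F) F (IB m) m where
  ρ := ρO _
  ρ_inj := ρO_inj _
  e := eB
  f := fB
  e_inj := (pairing (F := F) (m := m)).e_inj
  f_inj := (pairing (F := F) (m := m)).f_inj
  disj := (pairing (F := F) (m := m)).disj
  fine := fineB m
  fine_inj := fineB_inj m
  fine_e _ := rfl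
  fine_f i := by have := i.2; show 2 * m - (i : ℕ) + i = 2 * m; omega
  fine_mid a h1 h2 := by rcases a with a | a | a; exacts [rfl, absurd rfl (h1 a), absurd rfl (h2 a)]
  pos := fineB m
  pos_mono _ _ h := h
  pos_e _ := rfl
  tie_U _ h := h
  tie_V _ h := h
  dual := dual_entries (Q := ⇑(qOdd F m)) _ _ (pairing (F := F) (m := m)).polar_f (pairing (F := F) (m := m)).polar_e
  ψ := liftO (⇑(qOdd F m)) (leviM (pairing (F := F) (m := m)).e_inj (pairing (F := F) (m := m)).f_inj
    (pairing (F := F) (m := m)).disj) (pairing (F := F) (m := m)).levi_iso (sl_perfect hF hm)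
  ψ_val _ := rfl

/-- the rank one subgroup of the last node -/
noncomputable def φlB (hF : 4 ≤ Fintype.card F) (r : Fin m) : SpecialLinearGroup (Fin 2) F →* GB m F :=
  liftO (⇑(qOdd F m)) (adHom r) (adHom_iso r) (sl_perfect hF le_rfl)

theorem φlB_val (hF : 4 ≤ Fintype.card F) (r : Fin m) (x : SpecialLinearGroup (Fin 2) F) :
    ρO _ (φlB hF r x) = embM (tri r) (adM x.1) := rfl

theorem gen_eq_top (hF : 4 ≤ Fintype.card F) (h2 : (2 : F) ≠ 0) (hm : 3 ≤ m) (hm2 : 2 ≤ m) (r : Fin m)
    (K : Subgroup (GB m F)) (hψ : (hy hF hm2).ψ.range ≤ K) (hl : (φlB hF r).range ≤ K) : K = ⊤ := by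
  classical
  have P : Pairing (⇑(qOdd F m)) (eB : Fin m → IB m) fB := pairing
  refine top_of_siegel _ (qOdd_nondeg h2 m) (by simp; omega) ?_
  let e : ℕ → (IB m → F) := fun i => if h : i < m then Pi.single (eB ⟨i, h⟩) 1 else 0
  let f : ℕ → (IB m → F) := fun i => if h : i < m then Pi.single (fB ⟨i, h⟩) 1 else 0
  have he : ∀ i : Fin m, e i = Pi.single (eB i) 1 := fun i => dif_pos i.2
  have hf : ∀ i : Fin m, f i = Pi.single (fB i) 1 := fun i => dif_pos i.2
  have pee : ∀ i j : Fin m, polar (qOdd F m) (e i) (e j) = 0 := fun i j => by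
    rw [he, he, P.polar_e]; simp [eB, fB]
  have pff : ∀ i j : Fin m, polar (qOdd F m) (f i) (f j) = 0 := fun i j => by
    rw [hf, hf, P.polar_f]; simp [eB, fB]
  have pef : ∀ i j : Fin m, polar (qOdd F m) (e i) (f j) = if (i : ℕ) = j then 1 else 0 := fun i j => by
    rw [he, hf, P.polar_f]; simp [eB, Pi.single_apply, Fin.ext_iff, eq_comm]
  have H : Hyp (qOdd F m) m e f :=
    { qe := fun i hi => by rw [he ⟨i, hi⟩]; exact P.q_e _
      qf := fun i hi => by rw [hf ⟨i, hi⟩]; exact P.q_f _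
      ee := fun i hi j hj => pee ⟨i, hi⟩ ⟨j, hj⟩
      ff := fun i hi j hj => pff ⟨i, hi⟩ ⟨j, hj⟩
      ef := fun i hi j hj => pef ⟨i, hi⟩ ⟨j, hj⟩ }
  obtain ⟨z, hz⟩ : ∃ z : IB m → F, z = Pi.single zB 1 := ⟨_, rfl⟩
  have hqz : qOdd F m z = 1 := by rw [hz, qOdd_eq]; simp [eB, fB, zB]
  have hpz : ∀ x, polar (qOdd F m) x z = 2 * x zB := fun x => by rw [hz, polar_eq]; simp [eB, fB, zB]
  have hWz : InW (qOdd F m) m e f z := fun i hi => by
    rw [he ⟨i, hi⟩, hf ⟨i, hi⟩, P.polar_e, P.polar_f, hz]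
    simp [eB, fB, zB]
  have hsp : ∀ w, InW (qOdd F m) m e f w → ∃ s t : F, w = s • z + t • z := fun w hw => by
    refine ⟨w zB, 0, ?_⟩
    funext a
    rcases a with a | i | i
    · subst hz; simp [zB]
    · have := (hw i i.2).2
      rw [hf, P.polar_f] at this
      subst hz; simpa [zB, eB] using this
    · have := (hw i i.2).1
      rw [he, P.polar_e] at this
      subst hz; simpa [zB, fB] using this
  have hperp : ∀ (i : Fin m) (c : F), polar (qOdd F m) (e i) (c • z) = 0 ∧ polar (qOdd F m) (f i) (c • z) = 0 := by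
    intro i c
    rw [Cfsg.Agent.Orth.b_smul_right, Cfsg.Agent.Orth.b_smul_right, hpz, hpz, he, hf]
    simp [eB, fB, zB]
  have hA0 : ∀ c : F, sg (qOdd F m) (e r) (c • z) ∈ K.map (toLin (qOdd F m)) := by
    intro c
    refine sg_mem _ (hl ⟨up c, rfl⟩) (H.qe r r.2) (hperp r c).1 fun x => ?_
    rw [φlB_val, Cfsg.Agent.Orth.b_smul_right, Cfsg.Agent.Orth.q_smul, hqz, hpz, he, P.polar_e, SL2Pres.up_val]
    funext a
    by_cases ha : ∃ k, tri r k = a
    · obtain ⟨k, rfl⟩ := ha
      rw [embM_mulVec_mem (tri_inj r)]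
      fin_cases k <;> simp [hz, adM, tri, eB, fB, zB, Matrix.mulVec, dotProduct, Fin.sum_univ_three] <;> ring
    · push Not at ha
      rw [embM_mulVec_off _ _ ha]
      have a0 : a ≠ eB r := fun e => ha 0 e.symm
      have a1 : a ≠ zB := fun e => ha 1 e.symm
      simp [hz, a0, a1]
  have hB0 : ∀ c : F, sg (qOdd F m) (f r) (c • z) ∈ K.map (toLin (qOdd F m)) := by
    intro c
    refine sg_mem _ (hl ⟨low (-c), rfl⟩) (H.qf r r.2) (hperp r c).2 fun x => ?_
    rw [φlB_val, Cfsg.Agent.Orth.b_smul_right, Cfsg.Agent.Orth.q_smul, hqz, hpz, hf, P.polar_f, SL2Pres.low_val]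
    funext a
    by_cases ha : ∃ k, tri r k = a
    · obtain ⟨k, rfl⟩ := ha
      rw [embM_mulVec_mem (tri_inj r)]
      fin_cases k <;> simp [hz, adM, tri, eB, fB, zB, Matrix.mulVec, dotProduct, Fin.sum_univ_three] <;> ring
    · push Not at ha
      rw [embM_mulVec_off _ _ ha]
      have a0 : a ≠ fB r := fun e => ha 2 e.symm
      have a1 : a ≠ zB := fun e => ha 1 e.symm
      simp [hz, a0, a1]
  have hzfix : ∀ X : SpecialLinearGroup (Fin m) F, (toLin (qOdd F m) ((hy hF hm2).ψ X)).1 z = z := by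
    intro X
    rw [toLin_apply]
    show leviM P.e_inj P.f_inj P.disj X *ᵥ z = z
    funext a
    show ((embM eB X.1 * embM fB (X⁻¹).1ᵀ) *ᵥ z) a = z a
    have h0 : embM fB (X⁻¹).1ᵀ *ᵥ z = z := by
      funext b
      by_cases hb : ∃ l, fB l = b
      · obtain ⟨l, rfl⟩ := hb
        rw [embM_mulVec_mem P.f_inj, show z ∘ fB = 0 from funext fun c => by simp [hz, fB, zB]]
        simp [hz, fB, zB]
      · push Not at hb
        rw [embM_mulVec_off _ _ hb]
    rw [← Matrix.mulVec_mulVec, h0]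
    by_cases ha : ∃ l, eB l = a
    · obtain ⟨l, rfl⟩ := ha
      rw [embM_mulVec_mem P.e_inj, show z ∘ eB = 0 from funext fun c => by simp [hz, eB, zB]]
      simp [hz, eB, zB]
    · push Not at ha
      rw [embM_mulVec_off _ _ ha]
  refine H.of_pair (qOdd_nondeg h2 m) hm2 hWz hWz (by rw [hqz]; exact one_ne_zero)
    (by rw [hqz]; exact one_ne_zero) (by rw [hpz, hz]; simpa using h2) hsp ?_ ?_
  all_goals
    intro i hi c
    obtain ⟨p, hp⟩ : ∃ p : Fin m, p ≠ r := ⟨⟨if (r : ℕ) = 0 then 1 else 0, by split_ifs <;> omega⟩, fun e => by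
      have := congrArg Fin.val e; simp at this; split_ifs at this <;> omega⟩
    obtain ⟨j, hj⟩ : ∃ j : Fin m, (⟨i, hi⟩ : Fin m) ≠ j := ⟨⟨if i = 0 then 1 else 0, by split_ifs <;> omega⟩, fun e => by
      have := congrArg Fin.val e; simp at this; split_ifs at this <;> omega⟩
    obtain ⟨X, ⟨h1, -⟩, h3, -⟩ := exists_move (F := F) hm hp.symm hj
    have hg : toLin (qOdd F m) ((hy hF hm2).ψ X) ∈ K.map (toLin (qOdd F m)) :=
      Subgroup.mem_map_of_mem _ (hψ ⟨X, rfl⟩)
  · have h := conj_sg_mem hg (H.qe r r.2) (hperp r c).1 (hA0 c)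
    rw [map_smul, hzfix] at h
    have a1 : (toLin (qOdd F m) ((hy hF hm2).ψ X)).1 (e r) = e i := by
      rw [toLin_apply, he, he ⟨i, hi⟩]; exact (P.levi_single X r ⟨i, hi⟩).1 h1
    rwa [a1] at h
  · have h := conj_sg_mem hg (H.qf r r.2) (hperp r c).2 (hB0 c)
    rw [map_smul, hzfix] at h
    have a1 : (toLin (qOdd F m) ((hy hF hm2).ψ X)).1 (f r) = f i := by
      rw [toLin_apply, hf, hf ⟨i, hi⟩]; exact (P.levi_single X r ⟨i, hi⟩).2 h3
    rwa [a1] at h

/-- The last node. -/
noncomputable def lst (hF : 4 ≤ Fintype.card F) (h2 : (2 : F) ≠ 0) (hm : 3 ≤ m) :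
    Lst (hy (m := m) hF (Nat.le_of_succ_le hm)) :=
  let r : Fin m := ⟨m - 1, Nat.sub_lt (by omega) Nat.one_pos⟩
  have hr : (r : ℕ) + 1 = m := by show m - 1 + 1 = m; omega
  have hrm : (r : ℕ) = m - 1 := rfl
  let H := hy (m := m) hF (Nat.le_of_succ_le hm)
  have hdiag : ∀ {g : GB m F}, BU (fineB m) (ρO _ g) ∨ BL (fineB m) (ρO _ g) → ∀ a, ρO _ g a a = 1 :=
    fun hg a => hg.elim (fun h => (h a a le_rfl).trans (Matrix.one_apply_eq a))
      (fun h => (h a a le_rfl).trans (Matrix.one_apply_eq a))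
  { two := Nat.le_of_succ_le hm
    φl := φlB hF r
    blk := blkB m
    blk_mono := fun a b h => le_of_not_gt fun hlt => absurd (blkB_mono hlt.le) (by omega)
    v := fun j => if j = r then 2 else 0
    v_diff := fun j k h => by
      have := k.2
      simp only [Fin.ext_iff, hrm]
      split_ifs <;> omega
    p := zB
    q := fB r
    al := fun u => u r
    al_spec := fun u => by
      show H.wv u zB - H.wv u (H.f r) = u r
      rw [H.wv_mid u (a := zB) (fun i => Sum.inr_ne_inl) (fun i => Sum.inr_ne_inl), H.wv_f]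
      ring
    al_self := if_pos rfl
    al_bound := fun i _ => by simp only [Hy.vA]; split_ifs <;> omega
    link := ⟨⟨m - 2, by omega⟩, r, by show m - 2 + 1 = m - 1; omega, by
      show Hy.vA (m - 2) r ≠ 0
      simp only [Hy.vA, hrm]; split_ifs <;> omega, by
      show (if (⟨m - 2, _⟩ : Fin m) = r then (2 : ℤ) else 0) - (if r = r then 2 else 0) ≠ 0
      rw [if_pos rfl, if_neg (fun e => by have : m - 2 = m - 1 := congrArg Fin.val e; omega)]; decide⟩
    pq := (blkB_tri r hr 1).trans (blkB_tri r hr 2).symm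
    φ_dg := fun c => by
      show ρO _ (φlB hF r (dg c)) = _
      rw [φlB_val, dg_val, show adM !![(c : F), 0; 0, ((c⁻¹ : Fˣ) : F)] =
        Matrix.diagonal ![(c : F) ^ 2, 1, ((c⁻¹ : Fˣ) : F) ^ 2] by
        ext k l; fin_cases k <;> fin_cases l <;> simp [adM], embM_diag (tri_inj r)]
      congr 1
      funext a
      rcases a with a | i | i
      · rw [show H.wv _ (Sum.inl a) = _ from H.wv_mid _ (fun i => Sum.inr_ne_inl) (fun i => Sum.inr_ne_inl)]
        simp [Fin.sum_univ_three, tri, eB, fB, zB]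
      · rw [show H.wv _ (Sum.inr (Sum.inl i)) = _ from H.wv_e _ i]
        by_cases h : i = r
        · subst h; simp [Fin.sum_univ_three, tri, eB, fB, zB] <;> norm_cast
        · simp [Fin.sum_univ_three, tri, eB, fB, zB, h, Ne.symm h]
      · rw [show H.wv _ (Sum.inr (Sum.inr i)) = _ from H.wv_f _ i]
        by_cases h : i = r
        · subst h; simp [Fin.sum_univ_three, tri, eB, fB, zB] <;> norm_cast
        · simp [Fin.sum_univ_three, tri, eB, fB, zB, h, Ne.symm h]
    φ_bd := fun x => by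
      show BD _ (ρO _ (φlB hF r x))
      rw [φlB_val]
      exact embM_bd (tri_inj r) _ fun k l h => absurd ((blkB_tri r hr k).trans (blkB_tri r hr l).symm) h
    φ_up := fun t => by
      refine ⟨?_, ?_⟩
      · show BU (fineB m) (ρO _ (φlB hF r (up t)))
        rw [φlB_val, SL2Pres.up_val]
        refine embM_BU (tri_inj r) _ fun k l h => ?_
        fin_cases k <;> fin_cases l <;> simp [tri, adM, fine_eB, fine_fB, fine_zB] at h ⊢ <;> omega
      · show ρO _ (φlB hF r (up t)) (tri r 1) (tri r 2) = t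
        rw [φlB_val, embM_apply_mem (tri_inj r), SL2Pres.up_val]; simp [adM]
    sc := Units.mk0 2 h2
    φ_low := fun t => by
      refine ⟨?_, ?_⟩
      · show BL (fineB m) (ρO _ (φlB hF r (low t)))
        rw [φlB_val, SL2Pres.low_val]
        refine embM_BL (tri_inj r) _ fun k l h => ?_
        fin_cases k <;> fin_cases l <;> simp [tri, adM, fine_eB, fine_fB, fine_zB] at h ⊢ <;> omega
      · show ρO _ (φlB hF r (low t)) (tri r 2) (tri r 1) = _
        rw [φlB_val, embM_apply_mem (tri_inj r), SL2Pres.low_val]; simp [adM]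
    splitU := fun g hg a b hab => by
      show ρO _ g a b = ρO _ (φlB hF r _) a b
      rw [φlB_val]
      obtain ⟨h1, h3⟩ := upper_entries r hr g hg
      have hd := hdiag (Or.inl hg)
      refine split_last r hr _ _ hd (fun k l => ?_) hab
      rw [SL2Pres.up_val]
      fin_cases k <;> fin_cases l <;> simp [tri, adM, hd, h1, h3, H, hy]
      all_goals
        refine (hg _ _ ?_).trans (Matrix.one_apply_ne (by simp [eB, fB, zB]))
        simp only [H, hy, fine_eB, fine_fB, fine_zB]
        omega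
    splitV := fun g hg a b hab => by
      show ρO _ g a b = ρO _ (φlB hF r _) a b
      rw [φlB_val]
      obtain ⟨h1, h3⟩ := lower_entries r hr g hg
      have hd := hdiag (Or.inr hg)
      obtain ⟨s, hs⟩ : ∃ s, ((Units.mk0 2 h2)⁻¹ : Fˣ) * ρO (⇑(qOdd F m)) g (fB r) zB = s := ⟨_, rfl⟩
      show _ = embM (tri r) (adM (low (((Units.mk0 2 h2)⁻¹ : Fˣ) * ρO (⇑(qOdd F m)) g (fB r) zB)).1) a b
      rw [hs]
      have h4 : ρO (⇑(qOdd F m)) g (fB r) zB = 2 * s := by
        rw [← hs, Units.val_inv_eq_inv_val, Units.val_mk0, mul_inv_cancel_left₀ h2]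
      have h5 : ρO (⇑(qOdd F m)) g zB (eB r) = -s := mul_left_cancel₀ h2 (by rw [h1, h4, mul_neg])
      refine split_last r hr _ _ hd (fun k l => ?_) hab
      rw [SL2Pres.low_val]
      fin_cases k <;> fin_cases l <;> simp [tri, adM, hd, h3, h4, h5]
      all_goals
        refine (hg _ _ ?_).trans (Matrix.one_apply_ne (by simp [eB, fB, zB]))
        simp only [H, hy, fine_eB, fine_fB, fine_zB]
        omega
    sub_U := fun g h a b hab => h a b (blkB_mono hab)
    sub_V := fun g h a b hab => h a b (blkB_mono hab)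
    w_col := ⟨r, r, hr, -1, neg_ne_zero.2 one_ne_zero, fun b => by
      show ρO _ (φlB hF r _) b (tri r 0) = if b = tri r 2 then -1 else 0
      rw [φlB_val]
      by_cases hb : ∃ k, tri r k = b
      · obtain ⟨k, rfl⟩ := hb
        rw [embM_apply_mem (tri_inj r)]
        fin_cases k <;> simp [val_mul', SL2Pres.up_val, SL2Pres.low_val, Matrix.mul_fin_two, adM,
          (tri_inj r).eq_iff]
      · push Not at hb
        rw [embM_apply_left _ hb, Matrix.one_apply_ne (fun e => hb 0 e.symm), if_neg (fun e => hb 2 e.symm)]⟩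
    gen := fun K a b => gen_eq_top hF h2 hm (Nat.le_of_succ_le hm) r K a b
    rigid := fun g h hu => by
      apply ρO_inj
      rw [map_one]
      have hg : ∀ i, ρO _ g *ᵥ Pi.single (eB i) 1 = Pi.single (eB i) 1 ∧
          ρO _ g *ᵥ Pi.single (fB i) 1 = Pi.single (fB i) 1 := fun i => by
        constructor <;> rw [Matrix.mulVec_single_one] <;> funext b <;> rw [Matrix.col_apply, Pi.single_apply]
        · exact ((h i b).1).trans (Matrix.one_apply ..)
        · exact ((h i b).2).trans (Matrix.one_apply ..)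
      ext a b
      rcases b with b | i | i
      · rcases a with a | i | i
        · exact (hdiag hu _).trans (Matrix.one_apply_eq _).symm
        · have q := polar_inv g (Pi.single zB 1) (Pi.single (fB i) 1)
          rw [(hg i).2, pairing.polar_f, pairing.polar_f, Matrix.mulVec_single_one, Matrix.col_apply] at q
          refine q.trans ?_
          simp [eB, zB]
        · have q := polar_inv g (Pi.single zB 1) (Pi.single (eB i) 1)
          rw [(hg i).1, pairing.polar_e, pairing.polar_e, Matrix.mulVec_single_one, Matrix.col_apply] at q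
          refine q.trans ?_
          simp [fB, zB]
      · exact (h i a).1
      · exact (h i a).2 }

end Cfsg.Agent.ClassSquare.TypeB
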