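/-
The parabolic data of `Omega 2m+1` and the class square property of `POmega 2m+1`.
-/
import Cfsg.Agent.Lib.ClassSquare.TypeB
import Cfsg.Agent.Lib.ClassSquare.HypLevi
import Cfsg.Agent.Lib.ClassSquare.SwapPerm

set_option autoImplicit false
set_option linter.style.haveILetI false

namespace Cfsg.Agent.ClassSquare.TypeB

open Cfsg.Agent.SL2Pres (up low)
open Cfsg.Agent.Orth (qOdd coe_qOdd)
open Cfsg.Agent.ClassSquare.Mat
open Cfsg.Agent.ClassSquare.Orth
open Matrix (SpecialLinearGroup)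
open scoped Matrix

universe v

variable {F : Type v} [Field F] {m : ℕ}

/-- levels -/
def levB (m : ℕ) : IB m → ℕ :=
  Sum.elim (fun _ => 2) (Sum.elim (fun i => if (i : ℕ) = 0 then 0 else 1) fun i => if (i : ℕ) = 0 then 4 else 3)

/-- exponents -/
def exB (m : ℕ) (i : Fin m) : ℤ :=
  if m % 2 = 0 then (if (i : ℕ) = 0 then 1 else 3) else (if (i : ℕ) = 0 then 2 else 1)

/-- the signs -/
def sg3 (z : Fin m) (a : IB m) : Fˣ := if a = eB z ∨ a = zB ∨ a = fB z then -1 else 1

theorem adM_w : adM (up (1 : F) * low (-1) * up 1).1 = !![0, 0, -1; 0, -1, 0; -1, 0, 0] := by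
  rw [val_mul', val_mul', SL2Pres.up_val, SL2Pres.low_val, Matrix.mul_fin_two, Matrix.mul_fin_two]
  ext i j
  fin_cases i <;> fin_cases j <;> simp [adM]

theorem embM_w (z : Fin m) :
    embM (tri z) (!![0, 0, -1; 0, -1, 0; -1, 0, 0] : Matrix (Fin 3) (Fin 3) F) =
      Matrix.diagonal (fun a => ((sg3 z a : Fˣ) : F)) * pmat F (Equiv.swap (eB z) (fB z)) := by
  ext a b
  rw [Matrix.diagonal_mul]
  by_cases ha : ∃ k, tri z k = a
  · obtain ⟨k, rfl⟩ := ha
    by_cases hb : ∃ l, tri z l = b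
    · obtain ⟨l, rfl⟩ := hb
      rw [embM_apply_mem (tri_inj z)]
      fin_cases k <;> fin_cases l <;> simp [tri, pmat, sg3, eB, fB, zB, Equiv.swap_apply_def]
    · push Not at hb
      have b0 : b ≠ eB z := fun e => hb 0 e.symm
      have b2 : b ≠ fB z := fun e => hb 2 e.symm
      rw [embM_apply_right _ _ hb, Matrix.one_apply_ne (hb k), pmat, Matrix.of_apply,
        Equiv.swap_apply_of_ne_of_ne b0 b2, if_neg (Ne.symm (hb k)), mul_zero]
  · push Not at ha
    have a0 : a ≠ eB z := fun e => ha 0 e.symm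
    have a2 : a ≠ fB z := fun e => ha 2 e.symm
    rw [embM_apply_left _ ha, sg3, if_neg (by
      rintro (e | e | e)
      exacts [ha 0 e.symm, ha 1 e.symm, ha 2 e.symm]), Units.val_one, one_mul, pmat, Matrix.of_apply,
      Matrix.one_apply]
    refine if_congr ⟨fun e => ?_, fun e => ?_⟩ rfl rfl
    · subst e; exact Equiv.swap_apply_of_ne_of_ne a0 a2
    · have := congrArg (Equiv.swap (eB z) (fB z)) e
      rw [Equiv.swap_apply_self, Equiv.swap_apply_of_ne_of_ne a0 a2] at this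
      exact this.symm

variable [Fintype F]

/-- The element exchanging the halves. -/
theorem exists_flipB (hF : 4 ≤ Fintype.card F) (hm : 3 ≤ m) :
    ∃ (N : GB m F) (σ : Equiv.Perm (IB m)) (d : IB m → Fˣ),
      ρO _ N = Matrix.diagonal (fun a => (d a : F)) * pmat F σ ∧
      (∀ j, σ (eB j) = fB j ∧ σ (fB j) = eB j) ∧ σ zB = zB ∧
      ∀ j : Fin m, (j : ℕ) ≠ 0 → d (eB j) = 1 ∧ d (fB j) = 1 := by
  have P : Pairing (⇑(qOdd F m)) (eB : Fin m → IB m) fB := pairing
  rcases Nat.even_or_odd' m with ⟨k, hk | hk⟩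
  · obtain ⟨σ, ⟨N, hN⟩, hσ, hfix⟩ := exists_swaps P k (by omega)
    exact ⟨N, σ, 1, by rw [hN]; simp, fun j => hσ j (by have := j.2; omega),
      hfix _ fun j _ => ⟨Sum.inl_ne_inr, Sum.inl_ne_inr⟩, fun j _ => ⟨rfl, rfl⟩⟩
  · obtain ⟨z, hz⟩ : ∃ z : Fin m, (z : ℕ) = 0 := ⟨⟨0, by omega⟩, rfl⟩
    obtain ⟨r, hr⟩ : ∃ r : Fin m, (r : ℕ) + 1 = m := ⟨⟨m - 1, by omega⟩, by show m - 1 + 1 = m; omega⟩
    have hrz : r ≠ z := fun e => by rw [e] at hr; omega
    obtain ⟨τ, hτ⟩ : ∃ τ, τ = Equiv.swap z r := ⟨_, rfl⟩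
    have P' : Pairing (⇑(qOdd F m)) (eB ∘ τ) (fB ∘ τ) :=
      { e_inj := P.e_inj.comp τ.injective
        f_inj := P.f_inj.comp τ.injective
        disj := fun i j => P.disj _ _
        rest := by
          obtain ⟨R, h1, h2, h3⟩ := P.rest
          exact ⟨R, fun x => by rw [h1, ← Equiv.sum_comp τ fun i => x (eB i) * x (fB i)]; rfl, h2,
            fun x y h => h3 x y fun a ha hb => h a (fun i => ha _) (fun i => hb _)⟩ }
    obtain ⟨σ, ⟨N, hN⟩, hσ, hfix⟩ := exists_swaps P' k (by omega)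
    obtain ⟨M, hM⟩ : ∃ M : GB m F, ρO _ M = Matrix.diagonal (fun a => ((sg3 z a : Fˣ) : F)) *
        pmat F (Equiv.swap (eB z) (fB z)) :=
      ⟨φlB hF z (up 1 * low (-1) * up 1), by rw [φlB_val, adM_w, embM_w]⟩
    refine ⟨M * N, Equiv.swap (eB z) (fB z) * σ, sg3 z, by rw [map_mul, hM, hN, Matrix.mul_assoc, pmat_mul],
      fun j => ?_, ?_, fun j hj => ?_⟩
    · by_cases hjz : j = z
      · subst hjz
        have hj' : ∀ i : Fin m, (i : ℕ) < 2 * k → τ i ≠ j := fun i hi e => by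
          have : i = r := by
            rw [← τ.injective.eq_iff, e, hτ, Equiv.swap_apply_right]
          rw [this] at hi; omega
        have q1 : σ (eB j) = eB j := hfix _ fun i hi =>
          ⟨fun e => hj' i hi (P.e_inj e).symm, P.disj j (τ i)⟩
        have q2 : σ (fB j) = fB j := hfix _ fun i hi =>
          ⟨(P.disj (τ i) j).symm, fun e => hj' i hi (P.f_inj e).symm⟩
        rw [Equiv.Perm.mul_apply, Equiv.Perm.mul_apply, q1, q2, Equiv.swap_apply_left, Equiv.swap_apply_right]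
        exact ⟨rfl, rfl⟩
      · have hlt : (τ j : ℕ) < 2 * k := by
          have := (τ j).2
          have : (τ j : ℕ) ≠ r := fun e => by
            have e' : τ j = r := Fin.ext e
            rw [hτ] at e'
            exact hjz ((Equiv.swap z r).injective (e'.trans (Equiv.swap_apply_left z r).symm))
          omega
        have q := hσ (τ j) hlt
        have e : τ (τ j) = j := by rw [hτ, Equiv.swap_apply_self]
        simp only [Function.comp_apply, e] at q
        rw [Equiv.Perm.mul_apply, Equiv.Perm.mul_apply, q.1, q.2,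
          Equiv.swap_apply_of_ne_of_ne (P.disj z j).symm (fun e => hjz (P.f_inj e)),
          Equiv.swap_apply_of_ne_of_ne (fun e => hjz (P.e_inj e)) (P.disj j z)]
        exact ⟨rfl, rfl⟩
    · have q : σ (zB : IB m) = zB := hfix _ fun j _ => ⟨Sum.inl_ne_inr, Sum.inl_ne_inr⟩
      have q0 : (zB : IB m) ≠ eB z := Sum.inl_ne_inr
      have q2 : (zB : IB m) ≠ fB z := Sum.inl_ne_inr
      rw [Equiv.Perm.mul_apply, q, Equiv.swap_apply_of_ne_of_ne q0 q2]
    · have hjz : j ≠ z := fun e => hj (by rw [e]; exact hz)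
      simp [sg3, eB, fB, zB, hjz]

set_option maxHeartbeats 2000000 in
theorem exists_matLevi (h2 : (2 : F) ≠ 0) (hm : 3 ≤ m) (hF : 9 ≤ Fintype.card F) :
    Nonempty (MatLevi (lst (m := m) (F := F) (show 4 ≤ Fintype.card F by omega) h2 hm).matDatum) := by
  obtain ⟨ξ, hξ⟩ := exists_sep (F := F) hF
  obtain ⟨r, hr⟩ : ∃ r : Fin m, (r : ℕ) + 1 = m := ⟨⟨m - 1, by omega⟩, by show m - 1 + 1 = m; omega⟩
  let L := lst (F := F) (show 4 ≤ Fintype.card F by omega) h2 hm
  let H := hy (F := F) (m := m) (show 4 ≤ Fintype.card F by omega) (Nat.le_of_succ_le hm)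
  have hv : ∀ c : Fˣ, ∏ j, c ^ L.v j = c ^ (2 : ℤ) := fun c => by
    rw [prod_zpow_total]
    congr 1
    show ∑ j : Fin m, (if j = (⟨m - 1, _⟩ : Fin m) then (2 : ℤ) else 0) = 2
    rw [Finset.sum_ite_eq', if_pos (Finset.mem_univ _)]
  obtain ⟨n, hn⟩ : ∃ n : ℤ, ∑ i, exB m i = 2 * n := by
    have e : ∀ i : Fin m, exB m i = (if m % 2 = 0 then 3 else 1) +
        (if i = (⟨0, by omega⟩ : Fin m) then (if m % 2 = 0 then -2 else 1) else 0) := fun i => by
      simp only [exB, Fin.ext_iff]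
      split_ifs <;> omega
    simp only [e, Finset.sum_add_distrib, Finset.sum_ite_eq', Finset.mem_univ, if_true, Finset.sum_const,
      Finset.card_univ, Fintype.card_fin, nsmul_eq_mul]
    rcases Nat.even_or_odd' m with ⟨k, hk | hk⟩
    · simp only [show m % 2 = 0 by omega, if_true]
      exact ⟨3 * k - 1, by rw [hk]; push_cast; ring⟩
    · simp only [show ¬(m % 2 = 0) by omega, if_false]
      exact ⟨k + 1, by rw [hk]; push_cast; ring⟩
  obtain ⟨h, hh⟩ := L.exists_tor (fun i => ξ ^ exB m i) (ξ ^ n) (by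
    rw [hv, prod_zpow_total, hn, ← _root_.zpow_mul, mul_comm])
  have hp : Function.Injective (fun i : Fin (m - 1) => (⟨i + 1, by omega⟩ : Fin m)) := fun a b h => by
    have := congrArg Fin.val h
    exact Fin.ext (by simpa using this)
  have hP : ∀ i : Fin m, (i : ℕ) ≠ 0 → ∃ j : Fin (m - 1), (⟨j + 1, by omega⟩ : Fin m) = i :=
    fun i hi => ⟨⟨i - 1, by omega⟩, Fin.ext (by show (i : ℕ) - 1 + 1 = i; omega)⟩
  have hint : ∀ c, (∀ i : Fin (m - 1), H.e (⟨i + 1, by omega⟩ : Fin m) ≠ c) →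
      (∀ i : Fin (m - 1), fineB m c ≤ fineB m (H.e (⟨i + 1, by omega⟩ : Fin m))) ∨
        ∀ i : Fin (m - 1), fineB m (H.e (⟨i + 1, by omega⟩ : Fin m)) ≤ fineB m c := by
    intro c hc
    rcases c with c | c | c
    · refine Or.inr fun i => ?_
      have := i.2
      show (i : ℕ) + 1 ≤ m
      omega
    · by_cases h0 : (c : ℕ) = 0
      · refine Or.inl fun i => ?_
        show (c : ℕ) ≤ (i : ℕ) + 1
        omega
      · obtain ⟨j, hj⟩ := hP c h0
        exact absurd (congrArg eB hj) (hc j)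
    · refine Or.inr fun i => ?_
      have := i.2; have := c.2
      show (i : ℕ) + 1 ≤ 2 * m - c
      omega
  have k1 : ∀ c : IB m, levB m c = 1 → ∃ i : Fin (m - 1), eB (⟨i + 1, by omega⟩ : Fin m) = c := by
    rintro (c | c | c) hc <;> simp [levB] at hc
    · obtain ⟨i, rfl⟩ := hP c (by omega)
      exact ⟨i, rfl⟩
    · split_ifs at hc <;> omega
  have k3 : ∀ c : IB m, levB m c = 3 → ∃ i : Fin (m - 1), fB (⟨i + 1, by omega⟩ : Fin m) = c := by
    rintro (c | c | c) hc <;> simp [levB] at hc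
    · split_ifs at hc <;> omega
    · obtain ⟨i, rfl⟩ := hP c (by omega)
      exact ⟨i, rfl⟩
  have hblk : ∀ {u : GB m F} {x : SpecialLinearGroup (Fin (m - 1)) F}, (∀ a, ρO _ u a a = 1) →
      (∀ i j, x.1 i j = ρO _ u (eB (⟨i + 1, by omega⟩ : Fin m)) (eB ⟨j + 1, by omega⟩)) →
      (∀ i j, (x⁻¹).1ᵀ i j = ρO _ u (fB (⟨i + 1, by omega⟩ : Fin m)) (fB ⟨j + 1, by omega⟩)) →
      ∀ a b, levB m a = levB m b → H.ρ (H.blockHom hp x) a b = ρO _ u a b := by
    intro u x hd he hf a b hab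
    rw [H.blockHom_val]
    by_cases ha : levB m a = 1 ∨ levB m a = 3
    · rcases ha with ha | ha
      · obtain ⟨i, rfl⟩ := k1 a ha
        obtain ⟨j, rfl⟩ := k1 b (hab ▸ ha)
        exact (two_block_left (H.e_inj.comp hp) (fun i j => H.disj _ _) _ _ i j).trans (he i j)
      · obtain ⟨i, rfl⟩ := k3 a ha
        obtain ⟨j, rfl⟩ := k3 b (hab ▸ ha)
        exact (two_block_right (H.f_inj.comp hp) (fun i j => H.disj _ _) _ _ i j).trans (hf i j)
    · push Not at ha
      have hab' : a = b := by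
        rcases a with a | a | a <;> rcases b with b | b | b <;> simp [levB] at ha hab ⊢ <;>
          split_ifs at ha hab <;> first | omega | simp_all | (apply Fin.ext; omega)
      subst hab'
      rw [two_block_off _ _ (fun i e => ?_) (fun i e => ?_), Matrix.one_apply_eq, hd]
      · rw [← e] at ha; simp [H, hy, levB, eB] at ha
      · rw [← e] at ha; simp [H, hy, levB, fB] at ha
  obtain ⟨N, σ, s, hN, hσ, hσz, hs⟩ := exists_flipB (m := m) (F := F) (show 4 ≤ Fintype.card F by omega) hm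
  refine ⟨{
    r := 1
    kk := fun _ => m - 1
    Ψ := (H.blockHom hp).comp (Pi.evalMonoidHom (fun _ : Fin 1 => SpecialLinearGroup (Fin (m - 1)) F) 0)
    lev := levB m
    lev_mono := ?_
    hd := fun a => H.dd (fun i => ξ ^ exB m i) a
    hd_eq := ?_
    hd_ne := ?_
    h := h
    h_val := hh
    Ψ_bd := fun x => H.blockHom_bd hp _ (fun i j => ?_) (fun i j => ?_) _
    sU := ?_
    sV := ?_
    surj := ?_
    flip := ⟨fun _ => ((jSL F (m - 1))⁻¹).transpose, ?_, ?_⟩ }⟩
  · intro a b hab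
    show fineB m b ≤ fineB m a
    rcases a with a | a | a <;> rcases b with b | b | b <;> simp [levB, fineB] at hab ⊢ <;>
      (try split_ifs at hab) <;> omega
  · intro a b hab
    rw [H.dd_zpow, H.dd_zpow]
    congr 1
    rcases a with a | a | a <;> rcases b with b | b | b <;>
      simp [H, hy, levB, Hy.wv, exB, eB, fB] at hab ⊢ <;> (try split_ifs at hab ⊢) <;> omega
  · intro a b hab
    rw [H.dd_zpow, H.dd_zpow]
    intro e
    have e' := hξ _ _ ?_ e
    · rcases a with a | a | a <;> rcases b with b | b | b <;>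
        simp [H, hy, levB, Hy.wv, exB, eB, fB] at hab e' <;> (try split_ifs at hab e') <;> omega
    · rcases a with a | a | a <;> rcases b with b | b | b <;>
        simp [H, hy, Hy.wv, exB, eB, fB] <;> (try split_ifs) <;> omega
  · simp [H, hy, levB, eB]
  · simp [H, hy, levB, fB]
  · intro u hu
    have hu' : BU H.pos (H.ρ u) := hu
    obtain ⟨x, hx, he, hf⟩ := H.block_U hp hu' (fun i j hij => by
      show (j : ℕ) + 1 ≤ (i : ℕ) + 1
      omega) hint
    exact ⟨fun _ => x, fun _ => hx, hblk (fun a => (hu a a le_rfl).trans (Matrix.one_apply_eq a)) he hf⟩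
  · intro u hu
    have hu' : BL H.pos (H.ρ u) := hu
    obtain ⟨x, hx, he, hf⟩ := H.block_V hp hu' (fun i j hij => by
      show (j : ℕ) + 1 ≤ (i : ℕ) + 1
      omega) hint
    exact ⟨fun _ => x, fun _ => hx, hblk (fun a => (hu a a le_rfl).trans (Matrix.one_apply_eq a)) he hf⟩
  · intro d
    let z : Fin m := ⟨0, by omega⟩
    let o : Fin m := ⟨1, by omega⟩
    let d' : Fin m → Fˣ := Pi.mulSingle z (d 0) * Pi.mulSingle o (d 0)
    obtain ⟨t, ht⟩ := L.exists_tor d' (d 0) (by
      rw [hv]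
      simp [d', Finset.prod_mul_distrib]
      exact (pow_two _).symm)
    refine ⟨t, diag_commute H ht hh, fun _ => dGL fun i => d' ⟨i + 1, by omega⟩, fun _ => 1,
      fun b => ⟨one_ne_zero, ?_⟩, fun x => ?_⟩
    · rw [dGL_det, one_pow, mul_one, Fin.fin_one_eq_zero b, Finset.prod_eq_single (⟨0, by omega⟩ : Fin (m - 1))]
      · simp [d', z, o, Pi.mulSingle_apply]
      · intro i _ hi
        have h0 : (i : ℕ) ≠ 0 := fun e => hi (Fin.ext e)
        simp [d', z, o, Pi.mulSingle_apply, h0]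
      · simp
    · exact mul_inv_eq_iff_eq_mul.2 (H.tor_conj_block hp ht _)
  · intro b
    refine isReg_transpose ?_
    exact (isReg_jordan (F := F) (m - 1)).inv _ (SpecialLinearGroup.toGL (jSL F (m - 1))) rfl
  · refine (isConj_iff.2 ⟨N, ?_⟩).symm
    have hσd : ∀ a, H.dd (fun i => ξ ^ exB m i) (σ a) = (H.dd (fun i => ξ ^ exB m i) a)⁻¹ := by
      intro a
      rw [H.dd_zpow, H.dd_zpow, ← _root_.zpow_neg]
      congr 1
      rcases a with ⟨⟩ | i | i
      · rw [show (Sum.inl () : IB m) = zB from rfl, hσz,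
          H.wv_mid _ (a := zB) (fun i => Sum.inr_ne_inl) (fun i => Sum.inr_ne_inl), neg_zero]
      · rw [show (Sum.inr (Sum.inl i) : IB m) = eB i from rfl, (hσ i).1]
        exact (H.wv_f _ i).trans (congrArg Neg.neg (H.wv_e _ i).symm)
      · rw [show (Sum.inr (Sum.inr i) : IB m) = fB i from rfl, (hσ i).2]
        refine (H.wv_e _ i).trans ?_
        rw [show H.wv _ (fB i) = _ from H.wv_f _ i, neg_neg]
    have e1 : N * h = h⁻¹ * N := by
      rw [eq_inv_mul_iff_mul_eq]
      apply H.ρ_inj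
      show ρO _ (h * (N * h)) = ρO _ N
      rw [map_mul, map_mul, hN, show ρO _ h = Matrix.diagonal _ from hh, Matrix.mul_assoc, pmat_diag,
        ← Matrix.mul_assoc, ← Matrix.mul_assoc, Matrix.diagonal_mul_diagonal, Matrix.diagonal_mul_diagonal]
      refine congrArg (· * pmat F σ) ?_
      congr 1
      funext a
      have q := hσd (σ⁻¹ a)
      rw [show σ (σ⁻¹ a) = a from σ.apply_symm_apply a] at q
      rw [q, mul_comm _ (s a : F), mul_assoc, ← Units.val_mul (H.dd (fun i => ξ ^ exB m i) (σ⁻¹ a))⁻¹,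
        inv_mul_cancel, Units.val_one, mul_one]
    have e2 : N * H.blockHom hp (jSL F (m - 1)) = H.blockHom hp (((jSL F (m - 1))⁻¹).transpose) * N := by
      apply H.ρ_inj
      rw [map_mul, map_mul, show H.ρ N = _ from hN, Matrix.mul_assoc,
        H.pmat_flip_block hp σ (fun i => (hσ _).1) (fun i => (hσ _).2), ← Matrix.mul_assoc, ← Matrix.mul_assoc]
      refine congrArg (· * pmat F σ) ?_
      rw [H.blockHom_val, ← Matrix.mul_assoc,
        diag_embM_comm (H.e_inj.comp hp) s (fun i => (hs _ (Nat.succ_ne_zero _)).1), Matrix.mul_assoc,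
        diag_embM_comm (H.f_inj.comp hp) s (fun i => (hs _ (Nat.succ_ne_zero _)).2), ← Matrix.mul_assoc]
    show N * (h * H.blockHom hp (jSL F (m - 1))) * N⁻¹ = h⁻¹ * H.blockHom hp (((jSL F (m - 1))⁻¹).transpose)
    rw [mul_inv_eq_iff_eq_mul, ← mul_assoc, e1, mul_assoc, e2, mul_assoc]

/-- **The class square property of `POmega 2m+1`.** -/
theorem class_square (hm : 3 ≤ m) (hodd : Odd (Fintype.card F)) (hF : 9 ≤ Fintype.card F) {H : Type*} [Group H]
    (e : H ≃* Cfsg.POmega F (Cfsg.quadFormOdd m F)) :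
    ∃ c : H, ∀ g : H, ∃ x y : H, g = (x * c * x⁻¹) * (y * c * y⁻¹) := by
  have h2 : (2 : F) ≠ 0 := by
    intro h2
    haveI : CharP F 2 := CharTwo.of_one_ne_zero_of_two_eq_zero one_ne_zero h2
    have h := FiniteField.cast_card_eq_zero F
    obtain ⟨k, hk⟩ := hodd
    rw [hk, Nat.cast_add, Nat.cast_mul, Nat.cast_ofNat, h2, zero_mul, zero_add, Nat.cast_one] at h
    exact one_ne_zero h
  obtain ⟨L⟩ := exists_matLevi (F := F) h2 hm hF
  haveI : Nonempty (Fin m) := ⟨⟨0, by omega⟩⟩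
  rw [← coe_qOdd] at e
  exact L.class_square hF e

end Cfsg.Agent.ClassSquare.TypeB
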