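/-
The rank one data of `Sp 2m`.
-/
import Cfsg.Agent.Lib.ClassSquare.HypDatum
import Cfsg.Agent.Lib.Classical.SpTwoGen.Closure

set_option autoImplicit false
set_option linter.style.haveILetI false

namespace Cfsg.Agent.ClassSquare.TypeC

open Cfsg.Agent.SL2Pres (up low)
open Cfsg.Agent.ClassSquare.Mat
open Matrix (SpecialLinearGroup)
open scoped Matrix

universe v

variable {F : Type v} [Field F] {m : ℕ}

/-- order of the basis -/
def fineC (m : ℕ) : Fin m ⊕ Fin m → ℕ := Sum.elim (fun i => (i : ℕ)) fun i => 2 * m - i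

/-- matrices of the symplectic group -/
def ρC : Matrix.symplecticGroup (Fin m) F →* Matrix (Fin m ⊕ Fin m) (Fin m ⊕ Fin m) F :=
  (Matrix.symplecticGroup (Fin m) F).subtype

theorem levi_mem (x : SpecialLinearGroup (Fin m) F) :
    Matrix.fromBlocks x.1 0 0 (x⁻¹).1ᵀ ∈ Matrix.symplecticGroup (Fin m) F := by
  have e1 : x.1 * (x⁻¹).1 = 1 := congrArg Subtype.val (mul_inv_cancel x)
  have e2 : (x⁻¹).1ᵀ * x.1ᵀ = 1 := by rw [← Matrix.transpose_mul, e1, Matrix.transpose_one]
  rw [SymplecticGroup.mem_iff, Matrix.J, Matrix.fromBlocks_transpose, Matrix.fromBlocks_multiply,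
    Matrix.fromBlocks_multiply]
  simp
  exact ⟨e1, e2⟩

theorem embM_pair_eq (X Y : Matrix (Fin m) (Fin m) F) :
    embM (Sum.inl : Fin m → Fin m ⊕ Fin m) X * embM Sum.inr Y = Matrix.fromBlocks X 0 0 Y := by
  have h : ∀ i j : Fin m, (Sum.inl i : Fin m ⊕ Fin m) ≠ Sum.inr j := fun i j => Sum.inl_ne_inr
  ext a b
  rcases a with a | a <;> rcases b with b | b
  · rw [two_block_left Sum.inl_injective h, Matrix.fromBlocks_apply₁₁]
  · rw [Matrix.fromBlocks_apply₁₂, embM_comm h, embM_mul_apply _ _ (fun i => Ne.symm (h a i)),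
      embM_apply_right _ _ (fun i => h i b), Matrix.one_apply_ne (h a b)]
    rfl
  · rw [Matrix.fromBlocks_apply₂₁, embM_mul_apply _ _ (fun i => h i a),
      embM_apply_right _ _ (fun i => Ne.symm (h b i)), Matrix.one_apply_ne (Ne.symm (h b a))]
    rfl
  · rw [two_block_right Sum.inr_injective h, Matrix.fromBlocks_apply₂₂]

/-- the Levi homomorphism -/
def ψC : SpecialLinearGroup (Fin m) F →* Matrix.symplecticGroup (Fin m) F :=
  MonoidHom.mk' (fun x => ⟨_, levi_mem x⟩) fun x y => by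
    apply Subtype.ext
    show Matrix.fromBlocks (x * y).1 0 0 ((x * y)⁻¹).1ᵀ =
      Matrix.fromBlocks x.1 0 0 (x⁻¹).1ᵀ * Matrix.fromBlocks y.1 0 0 (y⁻¹).1ᵀ
    rw [Matrix.fromBlocks_multiply]
    simp [mul_inv_rev, Matrix.transpose_mul]

theorem dualC (g : Matrix.symplecticGroup (Fin m) F) (a b : Fin m) :
    ρC g⁻¹ (Sum.inl a) (Sum.inl b) = ρC g (Sum.inr b) (Sum.inr a) := by
  show (g⁻¹ : Matrix.symplecticGroup (Fin m) F).1 (Sum.inl a) (Sum.inl b) = g.1 (Sum.inr b) (Sum.inr a)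
  rw [SymplecticGroup.coe_inv]
  simp [Matrix.J, Matrix.mul_apply, Fintype.sum_sum_type, Matrix.one_apply]

/-- The hyperbolic data. -/
def hy (m : ℕ) : Hy (Matrix.symplecticGroup (Fin m) F) F (Fin m ⊕ Fin m) m where
  ρ := ρC
  ρ_inj := fun _ _ h => Subtype.ext h
  e := Sum.inl
  f := Sum.inr
  e_inj := Sum.inl_injective
  f_inj := Sum.inr_injective
  disj _ _ := Sum.inl_ne_inr
  fine := fineC m
  fine_inj := by
    rintro (a | a) (b | b) h <;> have := a.2 <;> have := b.2 <;> simp [fineC, Fin.ext_iff] at h ⊢ <;> omega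
  fine_e _ := rfl
  fine_f i := by have := i.2; show 2 * m - (i : ℕ) + i = 2 * m; omega
  fine_mid a h1 h2 := by rcases a with a | a; exacts [absurd rfl (h1 a), absurd rfl (h2 a)]
  pos := fineC m
  pos_mono _ _ h := h
  pos_e _ := rfl
  tie_U _ h := h
  tie_V _ h := h
  dual := dualC
  ψ := ψC
  ψ_val x := (embM_pair_eq x.1 (x⁻¹).1ᵀ).symm

/-- a diagonal of a plane -/
def dl (l : Fin m) (a b : F) : Matrix (Fin m) (Fin m) F := Matrix.diagonal (Function.update (fun _ => b) l a)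

theorem dl_mul (l : Fin m) (a b c d : F) : dl l a b * dl l c d = dl l (a * c) (b * d) := by
  rw [dl, dl, dl, Matrix.diagonal_mul_diagonal]
  congr 1; funext i
  by_cases h : i = l <;> simp [Function.update, h]

theorem dl_add (l : Fin m) (a b c d : F) : dl l a b + dl l c d = dl l (a + c) (b + d) := by
  rw [dl, dl, dl, Matrix.diagonal_add]
  congr 1; funext i
  by_cases h : i = l <;> simp [Function.update, h]

theorem dl_neg (l : Fin m) (a b : F) : -dl l a b = dl l (-a) (-b) := by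
  rw [dl, dl, Matrix.diagonal_neg]
  congr 1; funext i
  by_cases h : i = l <;> simp [Function.update, h]

theorem dl_tr (l : Fin m) (a b : F) : (dl l a b)ᵀ = dl l a b := by rw [dl, Matrix.diagonal_transpose]

theorem dl_const (l : Fin m) (a : F) : dl l a a = Matrix.diagonal fun _ => a := by
  rw [dl]
  congr 1; funext i
  by_cases h : i = l <;> simp [Function.update, h]

theorem plane_mem (l : Fin m) (x : SpecialLinearGroup (Fin 2) F) :
    Matrix.fromBlocks (dl l (x.1 0 0) 1) (dl l (x.1 0 1) 0) (dl l (x.1 1 0) 0) (dl l (x.1 1 1) 1) ∈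
      Matrix.symplecticGroup (Fin m) F := by
  have hdet : x.1 0 0 * x.1 1 1 - x.1 0 1 * x.1 1 0 = 1 := by rw [← Matrix.det_fin_two]; exact x.2
  have h0 : (0 : Matrix (Fin m) (Fin m) F) = dl l 0 0 := by rw [dl_const, Matrix.diagonal_zero]
  have h1 : (1 : Matrix (Fin m) (Fin m) F) = dl l 1 1 := by rw [dl_const, Matrix.diagonal_one]
  rw [SymplecticGroup.mem_iff, Matrix.J, Matrix.fromBlocks_transpose, Matrix.fromBlocks_multiply,
    Matrix.fromBlocks_multiply]
  simp only [Matrix.mul_one, Matrix.mul_zero, Matrix.mul_neg, zero_add, add_zero, dl_tr, Matrix.neg_mul, dl_mul,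
    dl_neg, dl_add]
  rw [h0, h1, dl_neg, Matrix.fromBlocks_inj]
  refine ⟨?_, ?_, ?_, ?_⟩ <;> congr 1 <;> first
    | ring1
    | linear_combination -hdet
    | linear_combination hdet

theorem plane_eq (l : Fin m) (X : Matrix (Fin 2) (Fin 2) F) :
    Matrix.fromBlocks (dl l (X 0 0) 1) (dl l (X 0 1) 0) (dl l (X 1 0) 0) (dl l (X 1 1) 1) =
      embM (pr (Sum.inl l) (Sum.inr l)) X := by
  have hne : (Sum.inl l : Fin m ⊕ Fin m) ≠ Sum.inr l := Sum.inl_ne_inr
  ext a b
  by_cases ha : ∃ k, pr (Sum.inl l : Fin m ⊕ Fin m) (Sum.inr l) k = a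
  · obtain ⟨k, rfl⟩ := ha
    by_cases hb : ∃ k, pr (Sum.inl l : Fin m ⊕ Fin m) (Sum.inr l) k = b
    · obtain ⟨k', rfl⟩ := hb
      rw [embM_apply_mem (pr_inj hne)]
      fin_cases k <;> fin_cases k' <;> simp [pr, dl]
    · push Not at hb
      have hb0 := hb 0; have hb1 := hb 1
      rw [embM_apply_right _ _ hb, Matrix.one_apply_ne (hb k)]
      fin_cases k <;> rcases b with b | b <;> simp [pr, dl, Matrix.diagonal_apply] at hb0 hb1 ⊢ <;>
        simp [hb0, hb1]
  · push Not at ha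
    have ha0 := ha 0; have ha1 := ha 1
    rw [embM_apply_left _ ha]
    rcases a with a | a <;> rcases b with b | b <;>
      simp [pr, dl, Matrix.diagonal_apply, Matrix.one_apply, Function.update] at ha0 ha1 ⊢ <;>
      (rcases eq_or_ne a b with rfl | h <;> simp_all [eq_comm])

/-- the rank one subgroup of the last node -/
def φlC (l : Fin m) : SpecialLinearGroup (Fin 2) F →* Matrix.symplecticGroup (Fin m) F :=
  MonoidHom.mk' (fun x => ⟨_, plane_mem l x⟩) fun x y => by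
    apply Subtype.ext
    refine (plane_eq l _).trans ?_
    show _ = Matrix.fromBlocks _ _ _ _ * Matrix.fromBlocks _ _ _ _
    rw [plane_eq, plane_eq, embM_mul (pr_inj Sum.inl_ne_inr)]
    rfl

theorem φlC_val (l : Fin m) (x : SpecialLinearGroup (Fin 2) F) :
    ρC (φlC l x) = embM (pr (Sum.inl l) (Sum.inr l)) x.1 := plane_eq l x.1

theorem sl_transitive (l : Fin m) {x : Fin m → F} (hx : x ≠ 0) :
    ∃ X : SpecialLinearGroup (Fin m) F, ∃ a : F, a ≠ 0 ∧ X.1 *ᵥ Pi.single l 1 = a • x := by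
  have key : ∀ (j : Fin m) (u : Fin m → F), u j = 1 →
      ∃ X : SpecialLinearGroup (Fin m) F, X.1 *ᵥ Pi.single j 1 = u := by
    intro j u hu
    refine ⟨⟨1 + Matrix.replicateCol Unit (u - Pi.single j (1 : F)) * Matrix.replicateRow Unit (Pi.single j (1 : F)), ?_⟩, ?_⟩
    · rw [Matrix.det_one_add_replicateCol_mul_replicateRow]
      simp [hu]
    · funext a
      simp [Matrix.mulVec, Matrix.mul_apply, Matrix.one_apply, Pi.single_apply]
  obtain ⟨j, hj⟩ := Function.ne_iff.1 hx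
  simp only [Pi.zero_apply] at hj
  let w : Fin m → F := fun a => if a = l ∨ a = j then 1 else 0
  obtain ⟨X1, h1⟩ := key l w (by simp [w])
  obtain ⟨X2, h2⟩ := key j w (by simp [w])
  obtain ⟨X3, h3⟩ := key j ((x j)⁻¹ • x) (by simp [hj])
  refine ⟨X3 * X2⁻¹ * X1, (x j)⁻¹, inv_ne_zero hj, ?_⟩
  have e : (X2⁻¹).1 *ᵥ w = Pi.single j 1 := by
    rw [← h2, Matrix.mulVec_mulVec]
    show (X2⁻¹ * X2).1 *ᵥ _ = _
    rw [inv_mul_cancel]
    exact Matrix.one_mulVec _
  show ((X3.1 * (X2⁻¹).1) * X1.1) *ᵥ _ = _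
  rw [← Matrix.mulVec_mulVec, h1, ← Matrix.mulVec_mulVec, e, h3]

section gen

open Cfsg.Agent.SpTwoGen

theorem gen_eq_top (hm : 0 < m) (l : Fin m) (K : Subgroup (Matrix.symplecticGroup (Fin m) F))
    (hψ : (ψC (F := F) (m := m)).range ≤ K) (hl : (φlC (F := F) l).range ≤ K) : K = ⊤ := by
  classical
  have hB : ∀ (x : Fin m ⊕ Fin m → F) (i : Fin m),
      B x (Pi.single (Sum.inl i) 1) = x (Sum.inr i) ∧ B x (Pi.single (Sum.inr i) 1) = -x (Sum.inl i) := fun x i => by
    constructor <;> rw [B_eq_sum] <;> simp [Pi.single_apply]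
  have hsmul : ∀ (k : F) (w : Fin m ⊕ Fin m → F), k ≠ 0 → FullT K (k • w) → FullT K w := by
    intro k w hk h c
    have := h ((k ^ 2)⁻¹ * c)
    rwa [T_smul, ← mul_assoc, mul_inv_cancel₀ (pow_ne_zero 2 hk), one_mul] at this
  have hlin : ∀ a : Fin 2, FullT K (Pi.single (pr (Sum.inl l) (Sum.inr l) a) 1 : Fin m ⊕ Fin m → F) := by
    intro a c
    let t : SpecialLinearGroup (Fin 2) F := ![up c, low (-c)] a
    have e : φlC l t = T (Pi.single (pr (Sum.inl l) (Sum.inr l) a) 1) c := by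
      refine ext_act fun x => ?_
      rw [act_T]
      show (Matrix.fromBlocks (dl l (t.1 0 0) 1) (dl l (t.1 0 1) 0) (dl l (t.1 1 0) 0) (dl l (t.1 1 1) 1)) *ᵥ x = _
      rw [Matrix.fromBlocks_mulVec]
      funext i
      fin_cases a <;> rcases i with i | i <;> by_cases h : i = l <;>
        simp [t, dl, Matrix.mulVec_diagonal, hB, pr, h, SL2Pres.up_val, SL2Pres.low_val, add_comm]
    exact e ▸ hl ⟨t, rfl⟩
  have hx : ∀ x : Fin m → F, x ≠ 0 → FullT K (Sum.elim x (0 : Fin m → F)) ∧ FullT K (Sum.elim (0 : Fin m → F) x) := by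
    intro x hx
    obtain ⟨X, a, ha, hX⟩ := sl_transitive l hx
    constructor
    · refine hsmul a _ ha ?_
      have h := (hlin 0).conj (hψ ⟨X, rfl⟩)
      have e : act (ψC X) (Pi.single (Sum.inl l) 1) = a • Sum.elim x 0 := by
        show Matrix.fromBlocks X.1 0 0 _ *ᵥ _ = _
        rw [Matrix.fromBlocks_mulVec]
        have e1 : (Pi.single (Sum.inl l) 1 : Fin m ⊕ Fin m → F) ∘ Sum.inl = Pi.single l 1 := by
          funext i; simp [Pi.single_apply]
        have e2 : (Pi.single (Sum.inl l) 1 : Fin m ⊕ Fin m → F) ∘ Sum.inr = 0 := by funext i; simp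
        rw [e1, e2, hX]
        funext i; rcases i with i | i <;> simp
      exact e ▸ h
    · refine hsmul a _ ha ?_
      have h := (hlin 1).conj (hψ ⟨(X.transpose)⁻¹, rfl⟩)
      have e : act (ψC (X.transpose)⁻¹) (Pi.single (Sum.inr l) 1) = a • Sum.elim (0 : Fin m → F) x := by
        show Matrix.fromBlocks _ 0 0 ((X.transpose)⁻¹⁻¹).1ᵀ *ᵥ _ = _
        rw [inv_inv, show X.transpose.1ᵀ = X.1 from Matrix.transpose_transpose _, Matrix.fromBlocks_mulVec]
        have e1 : (Pi.single (Sum.inr l) 1 : Fin m ⊕ Fin m → F) ∘ Sum.inr = Pi.single l 1 := by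
          funext i; simp [Pi.single_apply]
        have e2 : (Pi.single (Sum.inr l) 1 : Fin m ⊕ Fin m → F) ∘ Sum.inl = 0 := by funext i; simp
        rw [e1, e2, hX]
        funext i; rcases i with i | i <;> simp
      exact e ▸ h
  have hax : ∀ i, FullT K (Pi.single (Sum.inl i) 1 : Fin m ⊕ Fin m → F) ∧
      FullT K (Pi.single (Sum.inr i) 1 : Fin m ⊕ Fin m → F) := by
    intro i
    obtain ⟨h1, h2⟩ := hx (Pi.single i 1) (fun e => by simpa using congrFun e i)
    have e1 : Sum.elim (Pi.single i 1) (0 : Fin m → F) = Pi.single (Sum.inl i) 1 := by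
      funext a; rcases a with a | a <;> simp [Pi.single_apply]
    have e2 : Sum.elim (0 : Fin m → F) (Pi.single i 1) = Pi.single (Sum.inr i) 1 := by
      funext a; rcases a with a | a <;> simp [Pi.single_apply]
    exact ⟨e1 ▸ h1, e2 ▸ h2⟩
  have hclear : ∀ (v : Fin m ⊕ Fin m → F) (s : Finset (Fin m)), ∃ g ∈ K,
      ∀ i ∈ s, act g v (Sum.inr i) = 0 := by
    intro v s
    induction s using Finset.induction_on with
    | empty => exact ⟨1, one_mem _, by simp⟩
    | insert i s his ih =>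
      obtain ⟨g, hg, hz⟩ := ih
      obtain ⟨y, hy⟩ : ∃ y, y = act g v := ⟨_, rfl⟩
      rw [← hy] at hz
      by_cases h0 : y (Sum.inr i) = 0
      · refine ⟨g, hg, fun a ha => ?_⟩
        rw [← hy]
        rcases Finset.mem_insert.1 ha with rfl | ha
        exacts [h0, hz a ha]
      obtain ⟨g', hg', hx0, hy0⟩ : ∃ g' ∈ K, act g' y (Sum.inl i) ≠ 0 ∧
          ∀ a, act g' y (Sum.inr a) = y (Sum.inr a) := by
        by_cases hx0 : y (Sum.inl i) = 0
        · refine ⟨T (Pi.single (Sum.inl i) 1) 1, (hax i).1 1, ?_, fun a => ?_⟩ <;>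
            rw [act_T] <;> simp [hB, hx0, h0]
        · exact ⟨1, one_mem _, by rwa [act_one], fun a => by rw [act_one]⟩
      obtain ⟨y', hy'⟩ : ∃ y', y' = act g' y := ⟨_, rfl⟩
      rw [← hy'] at hx0 hy0
      refine ⟨T (Pi.single (Sum.inr i) 1) (y (Sum.inr i) / y' (Sum.inl i)) * g' * g,
        mul_mem (mul_mem ((hax i).2 _) hg') hg, fun a ha => ?_⟩
      rw [act_mul, ← hy, act_mul, ← hy', act_T]
      rcases Finset.mem_insert.1 ha with rfl | ha
      · simp [hB, hy0, div_mul_cancel₀ _ hx0]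
      · have hne : a ≠ i := fun e => his (e ▸ ha)
        simp [hy0, hz a ha, hne]
  rw [eq_top_iff, ← ClassicalSp.closure_transvections (m := m) (F := F), Subgroup.closure_le]
  rintro A ⟨w, c, hA⟩
  have eA : A = T w c := Subtype.ext hA
  rw [eA]
  by_cases hw : w = 0
  · subst hw
    have : T (0 : Fin m ⊕ Fin m → F) c = 1 := ext_act fun x => by simp [act_T, act_one]
    rw [this]; exact one_mem _
  obtain ⟨g, hg, hz⟩ := hclear w Finset.univ
  have e : act g w = Sum.elim (act g w ∘ Sum.inl) 0 := by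
    funext a; rcases a with a | a
    · rfl
    · exact hz a (Finset.mem_univ _)
  have hne : act g w ∘ Sum.inl ≠ 0 := fun h0 => hw (by
    rw [← act_inv g w, e, h0]
    funext a; simp [act, Matrix.mulVec_zero])
  have h := ((hx _ hne).1).conj (inv_mem hg)
  rw [← e, act_inv] at h
  exact h c

end gen

/-- the grading of the last node -/
def blkC (m : ℕ) (a : Fin m ⊕ Fin m) : ℕ := if fineC m a + 1 ≤ m then fineC m a else fineC m a - 2

theorem fineC_inj (m : ℕ) : Function.Injective (fineC m) := (hy (F := ZMod 2) m).fine_inj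

theorem fineC_ne (a : Fin m ⊕ Fin m) : fineC m a ≠ m ∧ fineC m a ≤ 2 * m := by
  rcases a with i | i <;> have := i.2 <;> simp [fineC] <;> omega

theorem pair_lt (l : Fin m) : fineC m (Sum.inl l) ≤ fineC m (Sum.inr l) := by
  have := l.2; simp [fineC]; omega

theorem split_last (g : Matrix.symplecticGroup (Fin m) F) (x : SpecialLinearGroup (Fin 2) F) (l : Fin m)
    (hl : (l : ℕ) + 1 = m) (hd : ∀ c, ρC g c c = 1) (h00 : x.1 0 0 = 1) (h11 : x.1 1 1 = 1)
    (h01 : ρC g (Sum.inl l) (Sum.inr l) = x.1 0 1) (h10 : ρC g (Sum.inr l) (Sum.inl l) = x.1 1 0)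
    {a b : Fin m ⊕ Fin m} (hab : blkC m a = blkC m b) : ρC g a b = ρC (φlC l x) a b := by
  rw [φlC_val]
  have key : a = b ∨ ((∃ k, pr (Sum.inl l) (Sum.inr l) k = a) ∧ ∃ k, pr (Sum.inl l) (Sum.inr l) k = b) := by
    rw [or_iff_not_imp_left]
    intro hne
    have hf : fineC m a ≠ fineC m b := fun e => hne (fineC_inj m e)
    have hP : ∀ c : Fin m ⊕ Fin m, fineC m c + 1 = m ∨ fineC m c = m + 1 →
        ∃ k, pr (Sum.inl l) (Sum.inr l) k = c := by
      intro c hc
      have h0 : fineC m (Sum.inl l) = l := rfl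
      have h1 : fineC m (Sum.inr l) = 2 * m - l := rfl
      rcases hc with hc | hc
      · refine ⟨0, fineC_inj m ?_⟩
        show fineC m (Sum.inl l) = fineC m c
        omega
      · refine ⟨1, fineC_inj m ?_⟩
        show fineC m (Sum.inr l) = fineC m c
        omega
    have := fineC_ne a; have := fineC_ne b
    simp only [blkC] at hab
    exact ⟨hP a (by split_ifs at hab <;> omega), hP b (by split_ifs at hab <;> omega)⟩
  by_cases hm' : ∃ k, pr (Sum.inl l) (Sum.inr l) k = a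
  · obtain ⟨k, rfl⟩ := hm'
    obtain ⟨k', rfl⟩ : ∃ k', pr (Sum.inl l) (Sum.inr l) k' = b := by
      rcases key with rfl | ⟨-, h'⟩
      exacts [⟨k, rfl⟩, h']
    rw [embM_apply_mem (pr_inj Sum.inl_ne_inr)]
    fin_cases k <;> fin_cases k'
    exacts [(hd _).trans h00.symm, h01, h10, (hd _).trans h11.symm]
  · obtain rfl : a = b := key.resolve_right fun h' => hm' h'.1
    push Not at hm'
    rw [embM_apply_left _ hm', Matrix.one_apply_eq, hd]

variable [Finite F]

/-- The last node. -/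
def lst (hm : 2 ≤ m) : Lst (hy (F := F) m) where
  two := hm
  φl := φlC ⟨m - 1, by omega⟩
  blk := blkC m
  blk_mono a b h := by
    show fineC m b ≤ fineC m a
    have := fineC_ne a; have := fineC_ne b
    simp only [blkC] at h
    split_ifs at h <;> omega
  v j := if (j : ℕ) + 1 = m then 1 else 0
  v_diff j k h := by have := k.2; split_ifs <;> omega
  p := Sum.inl ⟨m - 1, by omega⟩
  q := Sum.inr ⟨m - 1, by omega⟩
  al u := 2 * u ⟨m - 1, by omega⟩
  al_spec u := by
    show (hy (F := F) m).wv u ((hy (F := F) m).e _) - (hy (F := F) m).wv u ((hy (F := F) m).f _) = _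
    rw [Hy.wv_e, Hy.wv_f]; ring
  al_self := by simp [show m - 1 + 1 = m by omega]
  al_bound i hi := by simp only [Hy.vA]; split_ifs <;> omega
  link := ⟨⟨m - 2, by omega⟩, ⟨m - 1, by omega⟩, by simp; omega, by
    simp only [Hy.vA]; split_ifs <;> omega, by split_ifs <;> simp_all <;> omega⟩
  pq := by
    have h0 : fineC m (Sum.inl (⟨m - 1, by omega⟩ : Fin m)) = m - 1 := rfl
    have h1 : fineC m (Sum.inr (⟨m - 1, by omega⟩ : Fin m)) = 2 * m - (m - 1) := rfl
    unfold blkC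
    rw [if_pos (by omega), if_neg (by omega)]
    omega
  φ_dg c := by
    show ρC (φlC _ (dg c)) = _
    rw [φlC_val, dg_val, show !![(c : F), 0; 0, ((c⁻¹ : Fˣ) : F)] = Matrix.diagonal ![(c : F), ((c⁻¹ : Fˣ) : F)] by
      ext k l; fin_cases k <;> fin_cases l <;> simp, embM_diag (pr_inj Sum.inl_ne_inr)]
    congr 1
    funext a
    rcases a with i | i
    · rw [show (hy (F := F) m).wv _ (Sum.inl i) = _ from Hy.wv_e _ _ i]
      by_cases h : (i : ℕ) + 1 = m
      · have e : ∀ h' : m - 1 < m, (⟨m - 1, h'⟩ : Fin m) = i := fun _ => Fin.ext (by show m - 1 = (i : ℕ); omega)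
        simp [Fin.sum_univ_two, pr, h, e]
      · have : (⟨m - 1, by omega⟩ : Fin m) ≠ i := fun e => h (by subst e; show m - 1 + 1 = m; omega)
        simp [Fin.sum_univ_two, pr, h, this]
    · rw [show (hy (F := F) m).wv _ (Sum.inr i) = _ from Hy.wv_f _ _ i]
      by_cases h : (i : ℕ) + 1 = m
      · have e : ∀ h' : m - 1 < m, (⟨m - 1, h'⟩ : Fin m) = i := fun _ => Fin.ext (by show m - 1 = (i : ℕ); omega)
        simp [Fin.sum_univ_two, pr, h, e]
      · have : (⟨m - 1, by omega⟩ : Fin m) ≠ i := fun e => h (by subst e; show m - 1 + 1 = m; omega)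
        simp [Fin.sum_univ_two, pr, h, this]
  φ_bd x := by
    show BD _ (ρC (φlC _ x))
    rw [φlC_val]
    refine embM_bd (pr_inj Sum.inl_ne_inr) _ fun k l h => absurd ?_ h
    fin_cases k <;> fin_cases l <;> simp only [blkC, fineC, pr] <;> simp <;> split_ifs <;> omega
  φ_up t := by
    refine ⟨?_, ?_⟩
    · show BU (fineC m) (ρC (φlC _ (up t)))
      rw [φlC_val]
      refine embM_BU (pr_inj Sum.inl_ne_inr) _ fun k l h => ?_
      fin_cases k <;> fin_cases l <;> simp [pr, fineC, SL2Pres.up_val] at h ⊢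
      omega
    · show ρC (φlC (⟨m - 1, Nat.sub_lt (Nat.lt_of_lt_of_le Nat.two_pos hm) Nat.one_pos⟩ : Fin m) (up t)) (pr (Sum.inl (⟨m - 1, Nat.sub_lt (Nat.lt_of_lt_of_le Nat.two_pos hm) Nat.one_pos⟩ : Fin m)) (Sum.inr (⟨m - 1, Nat.sub_lt (Nat.lt_of_lt_of_le Nat.two_pos hm) Nat.one_pos⟩ : Fin m)) 0) (pr (Sum.inl (⟨m - 1, Nat.sub_lt (Nat.lt_of_lt_of_le Nat.two_pos hm) Nat.one_pos⟩ : Fin m)) (Sum.inr (⟨m - 1, Nat.sub_lt (Nat.lt_of_lt_of_le Nat.two_pos hm) Nat.one_pos⟩ : Fin m)) 1) = t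
      rw [φlC_val, embM_apply_mem (pr_inj Sum.inl_ne_inr)]; rfl
  sc := 1
  φ_low t := by
    rw [Units.val_one, one_mul]
    refine ⟨?_, ?_⟩
    · show BL (fineC m) (ρC (φlC _ (low t)))
      rw [φlC_val]
      refine embM_BL (pr_inj Sum.inl_ne_inr) _ fun k l h => ?_
      fin_cases k <;> fin_cases l <;> simp [pr, fineC, SL2Pres.low_val] at h ⊢
      omega
    · show ρC (φlC (⟨m - 1, Nat.sub_lt (Nat.lt_of_lt_of_le Nat.two_pos hm) Nat.one_pos⟩ : Fin m) (low t)) (pr (Sum.inl (⟨m - 1, Nat.sub_lt (Nat.lt_of_lt_of_le Nat.two_pos hm) Nat.one_pos⟩ : Fin m)) (Sum.inr (⟨m - 1, Nat.sub_lt (Nat.lt_of_lt_of_le Nat.two_pos hm) Nat.one_pos⟩ : Fin m)) 1) (pr (Sum.inl (⟨m - 1, Nat.sub_lt (Nat.lt_of_lt_of_le Nat.two_pos hm) Nat.one_pos⟩ : Fin m)) (Sum.inr (⟨m - 1, Nat.sub_lt (Nat.lt_of_lt_of_le Nat.two_pos hm) Nat.one_pos⟩ : Fin m)) 0) = t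
      rw [φlC_val, embM_apply_mem (pr_inj Sum.inl_ne_inr)]; rfl
  splitU g hg a b hab := split_last g _ _ (by show m - 1 + 1 = m; omega)
    (fun c => (hg c c le_rfl).trans (Matrix.one_apply_eq c)) (by simp [SL2Pres.up_val]) (by simp [SL2Pres.up_val])
    (by rw [SL2Pres.up_val]; rfl)
    (((hg (Sum.inr (⟨m - 1, Nat.sub_lt (Nat.lt_of_lt_of_le Nat.two_pos hm) Nat.one_pos⟩ : Fin m)) (Sum.inl (⟨m - 1, Nat.sub_lt (Nat.lt_of_lt_of_le Nat.two_pos hm) Nat.one_pos⟩ : Fin m)) (pair_lt (⟨m - 1, Nat.sub_lt (Nat.lt_of_lt_of_le Nat.two_pos hm) Nat.one_pos⟩ : Fin m))).trans (Matrix.one_apply_ne Sum.inr_ne_inl)).trans (by simp [SL2Pres.up_val])) hab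
  splitV g hg a b hab := split_last g _ _ (by show m - 1 + 1 = m; omega)
    (fun c => (hg c c le_rfl).trans (Matrix.one_apply_eq c)) (by simp [SL2Pres.low_val]) (by simp [SL2Pres.low_val])
    (((hg (Sum.inl (⟨m - 1, Nat.sub_lt (Nat.lt_of_lt_of_le Nat.two_pos hm) Nat.one_pos⟩ : Fin m)) (Sum.inr (⟨m - 1, Nat.sub_lt (Nat.lt_of_lt_of_le Nat.two_pos hm) Nat.one_pos⟩ : Fin m)) (pair_lt (⟨m - 1, Nat.sub_lt (Nat.lt_of_lt_of_le Nat.two_pos hm) Nat.one_pos⟩ : Fin m))).trans (Matrix.one_apply_ne Sum.inl_ne_inr)).trans (by simp [SL2Pres.low_val]))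
    (by rw [inv_one, Units.val_one, one_mul, SL2Pres.low_val]; rfl) hab
  sub_U g h a b hab := h a b (by
    have hab' : fineC m b ≤ fineC m a := hab
    have := fineC_ne a; have := fineC_ne b
    simp only [blkC]; split_ifs <;> omega)
  sub_V g h a b hab := h a b (by
    have hab' : fineC m a ≤ fineC m b := hab
    have := fineC_ne a; have := fineC_ne b
    simp only [blkC]; split_ifs <;> omega)
  w_col := ⟨⟨m - 1, by omega⟩, ⟨m - 1, by omega⟩, by show m - 1 + 1 = m; omega, -1, neg_ne_zero.2 one_ne_zero,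
    fun b => by
      show ρC (φlC (⟨m - 1, by omega⟩ : Fin m) (up 1 * low (-1) * up 1)) b (Sum.inl (⟨m - 1, by omega⟩ : Fin m)) =
        if b = Sum.inr (⟨m - 1, by omega⟩ : Fin m) then -1 else 0
      refine (congrFun (congrFun (φlC_val _ _) b) _).trans ?_
      by_cases hb : ∃ k, pr (Sum.inl (⟨m - 1, by omega⟩ : Fin m)) (Sum.inr (⟨m - 1, by omega⟩ : Fin m)) k = b
      · obtain ⟨k, rfl⟩ := hb
        refine (embM_apply_mem (pr_inj Sum.inl_ne_inr) _ k 0).trans ?_
        fin_cases k <;> simp [val_mul', SL2Pres.up_val, SL2Pres.low_val, Matrix.mul_fin_two, pr]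
      · push Not at hb
        rw [embM_apply_left _ hb, if_neg (fun e => hb 1 e.symm)]
        exact Matrix.one_apply_ne (fun e => hb 0 e.symm)⟩
  gen K h1 h2 := gen_eq_top (by omega) _ K h1 h2
  rigid g h _ := Subtype.ext (Matrix.ext fun b a => by
    rcases a with i | i
    exacts [(h i b).1, (h i b).2])

end Cfsg.Agent.ClassSquare.TypeC
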