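/-
The parabolic data of `Sp 2m` and the class square property of `PSp 2m`.
-/
import Cfsg.Agent.Lib.ClassSquare.TypeC
import Cfsg.Agent.Lib.ClassSquare.HypBlock

set_option autoImplicit false
set_option linter.style.haveILetI false

namespace Cfsg.Agent.ClassSquare.TypeC

open Cfsg.Agent.ClassSquare.Mat
open Matrix (SpecialLinearGroup)
open scoped Matrix

universe v

variable {F : Type v} [Field F] {m : ℕ}

theorem tor_mem (d : Fin m → Fˣ) :
    Matrix.fromBlocks (Matrix.diagonal fun i => (d i : F)) 0 0 (Matrix.diagonal fun i => (((d i)⁻¹ : Fˣ) : F)) ∈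
      Matrix.symplecticGroup (Fin m) F := by
  rw [SymplecticGroup.mem_iff, Matrix.J, Matrix.fromBlocks_transpose, Matrix.fromBlocks_multiply,
    Matrix.fromBlocks_multiply]
  simp [Matrix.diagonal_mul_diagonal]
  rw [← Matrix.diagonal_one, Matrix.diagonal_neg]

/-- torus element -/
def tC (d : Fin m → Fˣ) : Matrix.symplecticGroup (Fin m) F := ⟨_, tor_mem d⟩

theorem conjSL_inv (P : GL (Fin m) F) (x : SpecialLinearGroup (Fin m) F) :
    (conjSL P x)⁻¹ = conjSL P x⁻¹ := by
  refine inv_eq_of_mul_eq_one_right (Subtype.ext ?_)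
  show P.1 * x.1 * (P⁻¹).1 * (P.1 * (x⁻¹).1 * (P⁻¹).1) = 1
  have e : x.1 * (x⁻¹).1 = 1 := congrArg Subtype.val (mul_inv_cancel x)
  simp only [Matrix.mul_assoc]
  rw [← Matrix.mul_assoc (P⁻¹).1 P.1, Units.inv_mul, Matrix.one_mul, ← Matrix.mul_assoc x.1, e,
    Matrix.one_mul, Units.mul_inv]

theorem surjC (hm : 2 ≤ m) (hd : Fin m → Fˣ) (d : Fin 1 → Fˣ) :
    ∃ t : Matrix.symplecticGroup (Fin m) F, t * tC hd = tC hd * t ∧
      ∃ (Dg : (_ : Fin 1) → GL (Fin m) F) (c : Fin 1 → F),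
        (∀ b, c b ≠ 0 ∧ (Dg b).1.det = (d b : F) * c b ^ m) ∧
        ∀ x : (_ : Fin 1) → SpecialLinearGroup (Fin m) F,
          t * ψC (x 0) * t⁻¹ = ψC (conjSL (Dg 0) (x 0)) := by
  let d' : Fin m → Fˣ := Pi.mulSingle ⟨0, by omega⟩ (d 0)
  refine ⟨tC d', ?_, fun _ => dGL d', fun _ => 1, fun b => ⟨one_ne_zero, ?_⟩, fun x => ?_⟩
  · apply Subtype.ext
    show Matrix.fromBlocks _ _ _ _ * Matrix.fromBlocks _ _ _ _ = Matrix.fromBlocks _ _ _ _ * Matrix.fromBlocks _ _ _ _
    rw [Matrix.fromBlocks_multiply, Matrix.fromBlocks_multiply]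
    simp [Matrix.diagonal_mul_diagonal, mul_comm]
  · rw [dGL_det, one_pow, mul_one, Finset.prod_pi_mulSingle', if_pos (Finset.mem_univ _), Fin.fin_one_eq_zero b]
  · rw [mul_inv_eq_iff_eq_mul]
    apply Subtype.ext
    show Matrix.fromBlocks _ 0 0 _ * Matrix.fromBlocks (x 0).1 0 0 ((x 0)⁻¹).1ᵀ =
      Matrix.fromBlocks (conjSL (dGL d') (x 0)).1 0 0 ((conjSL (dGL d') (x 0))⁻¹).1ᵀ * Matrix.fromBlocks _ 0 0 _
    rw [conjSL_inv, conjSL_dGL_val, conjSL_dGL_val, Matrix.fromBlocks_multiply, Matrix.fromBlocks_multiply]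
    simp only [Matrix.mul_zero, Matrix.zero_mul, add_zero, zero_add, Matrix.transpose_mul,
      Matrix.diagonal_transpose, Matrix.mul_assoc, Matrix.diagonal_mul_diagonal, ← Units.val_mul,
      mul_inv_cancel, inv_mul_cancel, Units.val_one, Matrix.diagonal_one, Matrix.mul_one]

variable [Finite F]

theorem exists_matLevi [Fintype F] (hm : 2 ≤ m) (hF : 9 ≤ Fintype.card F) :
    Nonempty (MatLevi (lst (F := F) hm).matDatum) := by
  obtain ⟨ξ, hξ⟩ := exists_sep (F := F) hF
  have hne : ξ ≠ ξ⁻¹ := fun e => absurd (hξ 1 (-1) (by decide) (by rw [zpow_one, _root_.zpow_neg_one]; exact e))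
    (by decide)
  obtain ⟨hd, hdl, hdr⟩ : ∃ hd : Fin m ⊕ Fin m → Fˣ, (∀ i, hd (Sum.inl i) = ξ) ∧ ∀ i, hd (Sum.inr i) = ξ⁻¹ :=
    ⟨Sum.elim (fun _ => ξ) fun _ => ξ⁻¹, fun _ => rfl, fun _ => rfl⟩
  let N : Matrix.symplecticGroup (Fin m) F := ⟨Matrix.J (Fin m) F, SymplecticGroup.J_mem _ _⟩
  refine ⟨{
    r := 1
    kk := fun _ => m
    Ψ := ψC.comp (Pi.evalMonoidHom (fun _ : Fin 1 => SpecialLinearGroup (Fin m) F) 0)
    lev := Sum.elim (fun _ => 0) fun _ => 1
    lev_mono := ?_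
    hd := hd
    hd_eq := ?_
    hd_ne := ?_
    h := tC fun _ => ξ
    h_val := ?_
    Ψ_bd := ?_
    sU := ?_
    sV := ?_
    surj := ?_
    flip := ⟨fun _ => ((jSL F m)⁻¹).transpose, ?_, ?_⟩ }⟩
  · rintro (a | a) (b | b) h <;> have := a.2 <;> have := b.2 <;> simp at h
    show fineC m (Sum.inl b) ≤ fineC m (Sum.inr a)
    simp [fineC]; omega
  · rintro (a | a) (b | b) h <;> simp [hdl, hdr] at h ⊢
  · rintro (a | a) (b | b) h <;> simp [hdl, hdr] at h ⊢
    exacts [hne, hne.symm]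
  · show Matrix.fromBlocks _ 0 0 _ = _
    rw [Matrix.fromBlocks_diagonal]
    congr 1
    funext a
    rcases a with a | a <;> simp [hdl, hdr]
  · rintro x (a | a) (b | b) h <;> simp at h <;> rfl
  · intro u hu
    obtain ⟨x, hx, hv⟩ := exists_block (ρC u) (Sum.inl : Fin m → Fin m ⊕ Fin m)
      (fun i => (hu _ _ le_rfl).trans (Matrix.one_apply_eq _))
      fun i j hij => (hu (Sum.inl i) (Sum.inl j) (le_of_lt hij)).trans
        (Matrix.one_apply_ne fun e => by have := Sum.inl_injective e; subst this; omega)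
    refine ⟨fun _ => x, fun _ => hx, ?_⟩
    rintro (a | a) (b | b) h <;> simp at h
    · exact hv a b
    · exact (hy (F := F) m).dual_block_U hu (p := id) Function.injective_id (fun c hc => Or.inr fun i => by
        rcases c with c | c
        · exact absurd rfl (hc c)
        · show fineC m (Sum.inl i) ≤ fineC m (Sum.inr c)
          have := i.2; have := c.2; simp [fineC]; omega) x hv a b
  · intro u hu
    obtain ⟨x, hx, hv⟩ := exists_block_low (ρC u) (Sum.inl : Fin m → Fin m ⊕ Fin m)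
      (fun i => (hu _ _ le_rfl).trans (Matrix.one_apply_eq _))
      fun i j hij => (hu (Sum.inl i) (Sum.inl j) (le_of_lt hij)).trans
        (Matrix.one_apply_ne fun e => by have := Sum.inl_injective e; subst this; omega)
    refine ⟨fun _ => x, fun _ => hx, ?_⟩
    rintro (a | a) (b | b) h <;> simp at h
    · exact hv a b
    · exact (hy (F := F) m).dual_block_V hu (p := id) Function.injective_id (fun c hc => Or.inr fun i => by
        rcases c with c | c
        · exact absurd rfl (hc c)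
        · show fineC m (Sum.inl i) ≤ fineC m (Sum.inr c)
          have := i.2; have := c.2; simp [fineC]; omega) x hv a b
  · exact surjC hm _
  · intro b
    refine isReg_transpose ?_
    exact (isReg_jordan (F := F) m).inv _ (SpecialLinearGroup.toGL (jSL F m)) rfl
  · refine (isConj_iff.2 ⟨N, ?_⟩).symm
    have e1 : N * tC (fun _ : Fin m => ξ) = (tC fun _ : Fin m => ξ)⁻¹ * N := by
      rw [eq_inv_mul_iff_mul_eq]
      apply Subtype.ext
      show Matrix.fromBlocks _ 0 0 _ * (Matrix.J (Fin m) F * Matrix.fromBlocks _ 0 0 _) = Matrix.J (Fin m) F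
      rw [Matrix.J, Matrix.fromBlocks_multiply, Matrix.fromBlocks_multiply]
      simp [Matrix.diagonal_mul_diagonal]
      rw [← Matrix.diagonal_one, Matrix.diagonal_neg]
    have e2 : N * ψC (jSL F m) = ψC (((jSL F m)⁻¹).transpose) * N := by
      apply Subtype.ext
      show Matrix.J (Fin m) F * Matrix.fromBlocks _ 0 0 _ =
        Matrix.fromBlocks ((jSL F m)⁻¹).1ᵀ 0 0 ((((jSL F m)⁻¹).transpose)⁻¹).1ᵀ * Matrix.J (Fin m) F
      have e3 : ((((jSL F m)⁻¹).transpose)⁻¹).1ᵀ = (jSL F m).1 := by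
        have h1 : (((jSL F m)⁻¹).transpose)⁻¹ = (jSL F m).transpose := by
          refine inv_eq_of_mul_eq_one_left (Subtype.ext ?_)
          show (jSL F m).1ᵀ * ((jSL F m)⁻¹).1ᵀ = 1
          rw [← Matrix.transpose_mul, show ((jSL F m)⁻¹).1 * (jSL F m).1 = 1 from
            congrArg Subtype.val (inv_mul_cancel (jSL F m)), Matrix.transpose_one]
        rw [h1]
        exact Matrix.transpose_transpose _
      rw [e3, Matrix.J, Matrix.fromBlocks_multiply, Matrix.fromBlocks_multiply]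
      simp
    show N * (tC (fun _ : Fin m => ξ) * ψC (jSL F m)) * N⁻¹ = (tC fun _ : Fin m => ξ)⁻¹ * ψC (((jSL F m)⁻¹).transpose)
    rw [mul_inv_eq_iff_eq_mul, ← mul_assoc, e1, mul_assoc, e2, mul_assoc]

/-- **The class square property of `PSp 2m`.** -/
theorem class_square [Fintype F] (hm : 2 ≤ m) (hF : 9 ≤ Fintype.card F) {H : Type*} [Group H]
    (e : H ≃* Cfsg.PSp m F) :
    ∃ c : H, ∀ g : H, ∃ x y : H, g = (x * c * x⁻¹) * (y * c * y⁻¹) := by
  obtain ⟨L⟩ := exists_matLevi (F := F) hm hF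
  haveI : Nonempty (Fin m) := ⟨⟨0, by omega⟩⟩
  exact L.class_square hF e

end Cfsg.Agent.ClassSquare.TypeC
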