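/-
The rank one data of `Omega+ 2m`.
-/
import Cfsg.Agent.Lib.ClassSquare.OmegaGen
import Cfsg.Agent.Lib.ClassSquare.TypeC
import Cfsg.Agent.Lib.Orthogonal.Counts

set_option autoImplicit false
set_option linter.style.haveILetI false

namespace Cfsg.Agent.ClassSquare.TypeD

open Cfsg.Agent.SL2Pres (up low)
open Cfsg.Agent.Orth (qPlus coe_qPlus qPlus_nondeg)
open Cfsg.Agent.TwoGenOrth (sg sg_zero Hyp conj_sg_mem sg_conj InW)
open Cfsg.Agent.ClassSquare.Mat
open Cfsg.Agent.ClassSquare.Orth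
open Cfsg.Agent.ClassSquare.TypeC (fineC fineC_inj fineC_ne)
open Matrix (SpecialLinearGroup)
open scoped Matrix
open QuadraticMap

universe v

variable {F : Type v} [Field F] {m : ℕ}

/-- the group -/
abbrev GD (m : ℕ) (F : Type v) [Field F] : Type v := ↥(Cfsg.Omega F (⇑(qPlus F m)))

theorem qPlus_eq (x : Fin m ⊕ Fin m → F) : qPlus F m x = ∑ i, x (Sum.inl i) * x (Sum.inr i) := by
  rw [coe_qPlus]; rfl

theorem pairing : Pairing (⇑(qPlus F m)) (Sum.inl : Fin m → Fin m ⊕ Fin m) Sum.inr where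
  e_inj := Sum.inl_injective
  f_inj := Sum.inr_injective
  disj _ _ := Sum.inl_ne_inr
  rest := ⟨fun _ => 0, fun x => by rw [qPlus_eq, add_zero], rfl, fun _ _ _ => rfl⟩

theorem sl_perf [Fintype F] (hF : 4 ≤ Fintype.card F) (hm : 2 ≤ m) :
    commutator (SpecialLinearGroup (Fin m) F) = ⊤ := sl_perfect hF hm

/-- the swap of the last pair -/
def sD (r : Fin m) : Equiv.Perm (Fin m ⊕ Fin m) := Equiv.swap (Sum.inl r) (Sum.inr r)

theorem sD_inv (r : Fin m) : (sD r)⁻¹ = sD r := Equiv.swap_inv _ _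

theorem sD_symm (r : Fin m) : (sD r).symm = sD r := Equiv.symm_swap _ _

theorem sD_self (r : Fin m) (a : Fin m ⊕ Fin m) : sD r (sD r a) = a := Equiv.swap_apply_self _ _ _

theorem sD_off (r : Fin m) {i : Fin m} (h : i ≠ r) : sD r (Sum.inl i) = Sum.inl i ∧ sD r (Sum.inr i) = Sum.inr i :=
  ⟨Equiv.swap_apply_of_ne_of_ne (fun e => h (Sum.inl_injective e)) Sum.inl_ne_inr,
    Equiv.swap_apply_of_ne_of_ne Sum.inr_ne_inl (fun e => h (Sum.inr_injective e))⟩

theorem sD_on (r : Fin m) : sD r (Sum.inl r) = Sum.inr r ∧ sD r (Sum.inr r) = Sum.inl r :=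
  ⟨Equiv.swap_apply_left _ _, Equiv.swap_apply_right _ _⟩

theorem swap_iso (r : Fin m) (x : Fin m ⊕ Fin m → F) : qPlus F m (pmat F (sD r) *ᵥ x) = qPlus F m x := by
  rw [qPlus_eq, qPlus_eq]
  refine Finset.sum_congr rfl fun i _ => ?_
  rw [pmat_mulVec, pmat_mulVec, sD_inv]
  by_cases h : i = r
  · subst h; rw [(sD_on i).1, (sD_on i).2, mul_comm]
  · rw [(sD_off r h).1, (sD_off r h).2]

/-- the reflection -/
def τD (F : Type v) [Field F] (r : Fin m) : ↥(Cfsg.isometryGroup F (⇑(qPlus F m))) :=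
  ⟨⟨pmat F (sD r), pmat F (sD r)⁻¹, by rw [pmat_mul, mul_inv_cancel, pmat_one],
    by rw [pmat_mul, inv_mul_cancel, pmat_one]⟩, Cfsg.Agent.Orth.mem_isometryGroup.2 (swap_iso r)⟩

theorem conjD_val (r : Fin m) (g : GD m F) :
    ρO (⇑(qPlus F m)) (conjO _ (τD F r) g) = pmat F (sD r) * ρO _ g * pmat F (sD r)⁻¹ := rfl

/-- order of the basis -/
def posD (m : ℕ) (a : Fin m ⊕ Fin m) : ℕ := if fineC m a < m then fineC m a else fineC m a - 2

theorem posD_mono (a b : Fin m ⊕ Fin m) (h : fineC m a ≤ fineC m b) : posD m a ≤ posD m b := by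
  have := fineC_ne a; have := fineC_ne b
  simp only [posD]
  split_ifs <;> omega

theorem posD_swap {r : Fin m} (hr : (r : ℕ) + 1 = m) (a : Fin m ⊕ Fin m) : posD m (sD r a) = posD m a := by
  by_cases h : a = Sum.inl r ∨ a = Sum.inr r
  · have h0 : posD m (Sum.inl r) = m - 1 := by simp [posD, fineC]; omega
    have h1 : posD m (Sum.inr r) = m - 1 := by
      have hv : fineC m (Sum.inr r) = 2 * m - r := rfl
      unfold posD
      rw [if_neg (by omega)]; omega
    rcases h with rfl | rfl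
    · rw [(sD_on r).1, h0, h1]
    · rw [(sD_on r).2, h0, h1]
  · push Not at h
    rw [show sD r a = a from Equiv.swap_apply_of_ne_of_ne h.1 h.2]

theorem tie_U {r : Fin m} (hr : (r : ℕ) + 1 = m) (g : GD m F) (hg : BU (fineC m) (ρO _ g)) :
    BU (posD m) (ρO _ g) := by
  intro a b hab
  by_cases hf : fineC m b ≤ fineC m a
  · exact hg a b hf
  have := fineC_ne a; have := fineC_ne b
  simp only [posD] at hab
  have hval : fineC m a + 1 = m ∧ fineC m b = m + 1 := by split_ifs at hab <;> omega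
  obtain rfl : a = Sum.inl r := fineC_inj m (by show fineC m a = (r : ℕ); omega)
  obtain rfl : b = Sum.inr r := fineC_inj m (by show fineC m b = 2 * m - (r : ℕ); omega)
  rw [Matrix.one_apply_ne Sum.inl_ne_inr]
  have hq := ρO_iso (⇑(qPlus F m)) g (Pi.single (Sum.inr r) 1)
  rw [pairing.q_f, qPlus_eq, Finset.sum_eq_single r, Matrix.mulVec_single_one, Matrix.col_apply, Matrix.col_apply,
    hg (Sum.inr r) (Sum.inr r) le_rfl, Matrix.one_apply_eq, mul_one] at hq
  · exact hq
  · intro i _ hi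
    rw [Matrix.mulVec_single_one, Matrix.col_apply, Matrix.col_apply, hg (Sum.inr i) (Sum.inr r) (by
      have := i.2; show 2 * m - (r : ℕ) ≤ 2 * m - i; omega), Matrix.one_apply_ne (fun e => hi (Sum.inr_injective e)),
      mul_zero]
  · simp

theorem tie_V {r : Fin m} (hr : (r : ℕ) + 1 = m) (g : GD m F) (hg : BL (fineC m) (ρO _ g)) :
    BL (posD m) (ρO _ g) := by
  intro a b hab
  by_cases hf : fineC m a ≤ fineC m b
  · exact hg a b hf
  have := fineC_ne a; have := fineC_ne b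
  simp only [posD] at hab
  have hval : fineC m b + 1 = m ∧ fineC m a = m + 1 := by split_ifs at hab <;> omega
  obtain rfl : b = Sum.inl r := fineC_inj m (by show fineC m b = (r : ℕ); omega)
  obtain rfl : a = Sum.inr r := fineC_inj m (by show fineC m a = 2 * m - (r : ℕ); omega)
  rw [Matrix.one_apply_ne Sum.inr_ne_inl]
  have hq := ρO_iso (⇑(qPlus F m)) g (Pi.single (Sum.inl r) 1)
  rw [pairing.q_e, qPlus_eq, Finset.sum_eq_single r, Matrix.mulVec_single_one, Matrix.col_apply, Matrix.col_apply,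
    hg (Sum.inl r) (Sum.inl r) le_rfl, Matrix.one_apply_eq, one_mul] at hq
  · exact hq
  · intro i _ hi
    rw [Matrix.mulVec_single_one, Matrix.col_apply, Matrix.col_apply, hg (Sum.inl i) (Sum.inl r) (by
      have := i.2; show (i : ℕ) ≤ r; omega), Matrix.one_apply_ne (fun e => hi (Sum.inl_injective e)),
      zero_mul]
  · simp

variable [Fintype F]

/-- The hyperbolic data. -/
noncomputable def hy (hF : 4 ≤ Fintype.card F) (r : Fin m) (hr : (r : ℕ) + 1 = m) (hm : 2 ≤ m) :
    Hy (GD m F) F (Fin m ⊕ Fin m) m where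
  ρ := ρO _
  ρ_inj := ρO_inj _
  e := Sum.inl
  f := Sum.inr
  e_inj := Sum.inl_injective
  f_inj := Sum.inr_injective
  disj _ _ := Sum.inl_ne_inr
  fine := fineC m
  fine_inj := fineC_inj m
  fine_e _ := rfl
  fine_f i := by have := i.2; show 2 * m - (i : ℕ) + i = 2 * m; omega
  fine_mid a h1 h2 := by rcases a with a | a; exacts [absurd rfl (h1 a), absurd rfl (h2 a)]
  pos := posD m
  pos_mono := posD_mono
  pos_e i := if_pos i.2
  tie_U := tie_U hr
  tie_V := tie_V hr
  dual := dual_entries (Q := ⇑(qPlus F m)) _ _ (pairing (F := F) (m := m)).polar_f (pairing (F := F) (m := m)).polar_e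
  ψ := liftO (⇑(qPlus F m)) (leviM (pairing (F := F) (m := m)).e_inj (pairing (F := F) (m := m)).f_inj (pairing (F := F) (m := m)).disj) (pairing (F := F) (m := m)).levi_iso (sl_perf hF hm)
  ψ_val _ := rfl

/-- The hyperbolic data after the swap of the last pair. -/
noncomputable def hy' (hF : 4 ≤ Fintype.card F) (r : Fin m) (hr : (r : ℕ) + 1 = m) (hm : 2 ≤ m) :
    Hy (GD m F) F (Fin m ⊕ Fin m) m where
  ρ := ρO _
  ρ_inj := ρO_inj _
  e := sD r ∘ Sum.inl
  f := sD r ∘ Sum.inr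
  e_inj := (sD r).injective.comp Sum.inl_injective
  f_inj := (sD r).injective.comp Sum.inr_injective
  disj _ _ h := Sum.inl_ne_inr ((sD r).injective h)
  fine := fineC m ∘ sD r
  fine_inj := (fineC_inj m).comp (sD r).injective
  fine_e i := by
    show fineC m (sD r (sD r (Sum.inl i))) = i
    rw [sD_self]; rfl
  fine_f i := by
    show fineC m (sD r (sD r (Sum.inr i))) + i = 2 * m
    rw [sD_self]
    exact (hy hF r hr hm).fine_f i
  fine_mid a h1 h2 := by
    rcases h : sD r a with i | i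
    · exact absurd (by rw [Function.comp_apply, ← h, sD_self]) (h1 i)
    · exact absurd (by rw [Function.comp_apply, ← h, sD_self]) (h2 i)
  pos := posD m
  pos_mono a b h := by
    rw [← posD_swap hr a, ← posD_swap hr b]
    exact posD_mono _ _ h
  pos_e i := by
    show posD m (sD r (Sum.inl i)) = i
    rw [posD_swap hr]; exact if_pos i.2
  tie_U g hg := by
    have h1 : BU (fineC m) (ρO _ (conjO _ (τD F r) g)) := by
      intro a b hab
      rw [conjD_val, pmat_conj_apply, sD_inv, hg (sD r a) (sD r b) (by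
        show fineC m (sD r (sD r b)) ≤ fineC m (sD r (sD r a))
        rwa [sD_self, sD_self])]
      simp [Matrix.one_apply]
    intro a b hab
    have h2 := tie_U hr _ h1 (sD r a) (sD r b) (by rwa [posD_swap hr, posD_swap hr])
    rw [conjD_val, pmat_conj_apply, sD_inv, sD_self, sD_self] at h2
    rw [h2]
    simp [Matrix.one_apply]
  tie_V g hg := by
    have h1 : BL (fineC m) (ρO _ (conjO _ (τD F r) g)) := by
      intro a b hab
      rw [conjD_val, pmat_conj_apply, sD_inv, hg (sD r a) (sD r b) (by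
        show fineC m (sD r (sD r a)) ≤ fineC m (sD r (sD r b))
        rwa [sD_self, sD_self])]
      simp [Matrix.one_apply]
    intro a b hab
    have h2 := tie_V hr _ h1 (sD r a) (sD r b) (by rwa [posD_swap hr, posD_swap hr])
    rw [conjD_val, pmat_conj_apply, sD_inv, sD_self, sD_self] at h2
    rw [h2]
    simp [Matrix.one_apply]
  dual g a b := by
    have h := (hy hF r hr hm).dual (conjO _ (τD F r) g) a b
    rw [← map_inv] at h
    change ρO _ (conjO _ (τD F r) g⁻¹) (Sum.inl a) (Sum.inl b) =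
      ρO _ (conjO _ (τD F r) g) (Sum.inr b) (Sum.inr a) at h
    rw [conjD_val, conjD_val, pmat_conj_apply, pmat_conj_apply, sD_inv] at h
    exact h
  ψ := (conjO _ (τD F r)).comp (hy hF r hr hm).ψ
  ψ_val x := by
    show ρO _ (conjO _ (τD F r) _) = _
    rw [conjD_val]
    show pmat F (sD r) * (embM Sum.inl x.1 * embM Sum.inr (x⁻¹).1ᵀ) * pmat F (sD r)⁻¹ = _
    rw [← pmat_conj (sD r) Sum.inl, ← pmat_conj (sD r) Sum.inr]
    simp only [Matrix.mul_assoc]
    rw [← Matrix.mul_assoc (pmat F (sD r)⁻¹) (pmat F (sD r)), pmat_mul, inv_mul_cancel, pmat_one, Matrix.one_mul]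

variable (hF : 4 ≤ Fintype.card F)

include hF

theorem gen_eq_top (hm : 4 ≤ m) (p r : Fin m) (hp : (p : ℕ) + 2 = m) (hr : (r : ℕ) + 1 = m)
    (K : Subgroup (GD m F)) (hψ : (hy hF r hr (by omega)).ψ.range ≤ K)
    (hl : ((hy' hF r hr (by omega)).φH ⟨p, by omega⟩).range ≤ K) : K = ⊤ := by
  classical
  have hm2 : 2 ≤ m := by omega
  have P : Pairing (⇑(qPlus F m)) (Sum.inl : Fin m → Fin m ⊕ Fin m) Sum.inr := pairing
  refine top_of_siegel _ (qPlus_nondeg m) (by simp; omega) ?_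
  let e : ℕ → (Fin m ⊕ Fin m → F) := fun i => if h : i < m then Pi.single (Sum.inl ⟨i, h⟩) 1 else 0
  let f : ℕ → (Fin m ⊕ Fin m → F) := fun i => if h : i < m then Pi.single (Sum.inr ⟨i, h⟩) 1 else 0
  have he : ∀ i : Fin m, e i = Pi.single (Sum.inl i) 1 := fun i => dif_pos i.2
  have hf : ∀ i : Fin m, f i = Pi.single (Sum.inr i) 1 := fun i => dif_pos i.2
  have pee : ∀ i j : Fin m, polar (qPlus F m) (e i) (e j) = 0 := fun i j => by
    rw [he, he, P.polar_e]; simp
  have pff : ∀ i j : Fin m, polar (qPlus F m) (f i) (f j) = 0 := fun i j => by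
    rw [hf, hf, P.polar_f]; simp
  have pef : ∀ i j : Fin m, polar (qPlus F m) (e i) (f j) = if (i : ℕ) = j then 1 else 0 := fun i j => by
    rw [he, hf, P.polar_f]; simp [Pi.single_apply, Fin.ext_iff, eq_comm]
  have H : Hyp (qPlus F m) m e f :=
    { qe := fun i hi => by rw [he ⟨i, hi⟩]; exact P.q_e _
      qf := fun i hi => by rw [hf ⟨i, hi⟩]; exact P.q_f _
      ee := fun i hi j hj => pee ⟨i, hi⟩ ⟨j, hj⟩
      ff := fun i hi j hj => pff ⟨i, hi⟩ ⟨j, hj⟩
      ef := fun i hi j hj => pef ⟨i, hi⟩ ⟨j, hj⟩ }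
  have hW : ∀ w, InW (qPlus F m) m e f w → w = 0 := fun w hw => by
    funext a
    rcases a with i | i
    · have := (hw i i.2).2
      rwa [hf, P.polar_f] at this
    · have := (hw i i.2).1
      rwa [he, P.polar_e] at this
  have sc : ∀ (c : F) (u w : Fin m ⊕ Fin m → F), polar (qPlus F m) u w = 0 → polar (qPlus F m) u (c • w) = 0 :=
    fun c u w h => by rw [Cfsg.Agent.Orth.b_smul_right, h, mul_zero]
  have hL : ∀ (i j : Fin m), i ≠ j → ∀ c : F, sg (qPlus F m) (f j) (c • e i) ∈ K.map (toLin (qPlus F m)) := by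
    intro i j hij c
    have h0 : polar (qPlus F m) (f j) (e i) = 0 := by
      rw [Cfsg.Agent.Orth.b_comm, pef, if_neg fun e => hij (Fin.ext e)]
    refine sg_mem _ (hψ ⟨SpecialLinearGroup.transvection hij c, rfl⟩) (H.qf j j.2) (sc _ _ _ h0) fun x => ?_
    show leviM P.e_inj P.f_inj P.disj _ *ᵥ x = _
    rw [P.levi_transvection, Cfsg.Agent.Orth.b_smul_right, Cfsg.Agent.Orth.q_smul, H.qe i i.2, he, hf, P.polar_e,
      P.polar_f]
    funext a
    simp [Pi.single_apply, mul_comm]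
  have hne : p ≠ r := fun e => by rw [e] at hp; omega
  have hP0 : ∀ t : F, sg (qPlus F m) (e r) (t • e p) ∈ K.map (toLin (qPlus F m)) := by
    intro t
    refine sg_mem _ (hl ⟨up t, rfl⟩) (H.qe r r.2) (sc _ _ _ (pee r p)) fun x => ?_
    show ρO _ (conjO _ (τD F r) ((hy hF r hr hm2).ψ (TypeA.φA F m ⟨p, _⟩ (up t)))) *ᵥ x = _
    rw [conjD_val, (φA_up_eq _ (i := p) (j := r) rfl (by show (r : ℕ) = (p : ℕ) + 1; omega) hne t).1,
      ← Matrix.mulVec_mulVec, ← Matrix.mulVec_mulVec]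
    show pmat F (sD r) *ᵥ (leviM P.e_inj P.f_inj P.disj _ *ᵥ _) = _
    rw [P.levi_transvection, Cfsg.Agent.Orth.b_smul_right, Cfsg.Agent.Orth.q_smul, H.qe p p.2, he, he, P.polar_e,
      P.polar_e]
    have a1 := (sD_on r).1; have a2 := (sD_on r).2; have b2 := (sD_off r hne).2
    funext a
    rw [pmat_mulVec, sD_inv]
    simp only [Pi.sub_apply, Pi.add_apply, Pi.smul_apply, pmat_mulVec, inv_inv, sD_self, smul_eq_mul, a1, b2]
    by_cases e1 : a = Sum.inl p
    · subst e1; simp [sD_symm, a1, b2, (sD_off r hne).1, hne]; ring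
    by_cases e2 : a = Sum.inl r
    · subst e2; simp [sD_symm, a1, a2, b2, hne, hne.symm]
    have : sD r a ≠ Sum.inl p := fun e => e1 (by rw [← sD_self r a, e, (sD_off r hne).1])
    have : sD r a ≠ Sum.inr r := fun e => e2 (by rw [← sD_self r a, e, a2])
    simp [sD_symm, sD_self, *]
  have hN0 : ∀ t : F, sg (qPlus F m) (f p) (t • f r) ∈ K.map (toLin (qPlus F m)) := by
    intro t
    refine sg_mem _ (hl ⟨low t, rfl⟩) (H.qf p p.2) (sc _ _ _ (pff p r)) fun x => ?_
    show ρO _ (conjO _ (τD F r) ((hy hF r hr hm2).ψ (TypeA.φA F m ⟨p, _⟩ (low t)))) *ᵥ x = _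
    rw [conjD_val, (φA_up_eq _ (i := p) (j := r) rfl (by show (r : ℕ) = (p : ℕ) + 1; omega) hne t).2,
      ← Matrix.mulVec_mulVec, ← Matrix.mulVec_mulVec]
    show pmat F (sD r) *ᵥ (leviM P.e_inj P.f_inj P.disj _ *ᵥ _) = _
    rw [P.levi_transvection, Cfsg.Agent.Orth.b_smul_right, Cfsg.Agent.Orth.q_smul, H.qf r r.2, hf, hf, P.polar_f,
      P.polar_f]
    have a1 := (sD_on r).1; have a2 := (sD_on r).2; have b1 := (sD_off r hne).1
    funext a
    rw [pmat_mulVec, sD_inv]
    simp only [Pi.sub_apply, Pi.add_apply, Pi.smul_apply, pmat_mulVec, inv_inv, sD_self, smul_eq_mul, a2, b1]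
    by_cases e1 : a = Sum.inr p
    · subst e1; simp [sD_symm, a2, b1, (sD_off r hne).2, hne]
    by_cases e2 : a = Sum.inr r
    · subst e2; simp [sD_symm, a1, a2, b1, hne, hne.symm]; ring
    have : sD r a ≠ Sum.inr p := fun e => e1 (by rw [← sD_self r a, e, (sD_off r hne).2])
    have : sD r a ≠ Sum.inl r := fun e => e2 (by rw [← sD_self r a, e, a1])
    simp [sD_symm, sD_self, *]
  refine H.of_gen (qPlus_nondeg m) hm2 (fun i hi w hw => ?_) (fun i hi w hw => ?_) (fun i hi j hj hij c => ?_)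
    (fun i hi j hj hij c => ?_) (fun i hi j hj hij c => hL ⟨i, hi⟩ ⟨j, hj⟩ (fun e => hij (congrArg Fin.val e)) c)
  · rw [hW w hw, sg_zero (H.qe i hi)]; exact one_mem _
  · rw [hW w hw, sg_zero (H.qf i hi)]; exact one_mem _
  · obtain ⟨X, ⟨h1, h2⟩, -⟩ := exists_move (F := F) (show 3 ≤ m by omega) hne.symm
      (show (⟨i, hi⟩ : Fin m) ≠ ⟨j, hj⟩ from fun e => hij (congrArg Fin.val e))
    have hg : toLin (qPlus F m) ((hy hF r hr hm2).ψ X) ∈ K.map (toLin (qPlus F m)) :=
      Subgroup.mem_map_of_mem _ (hψ ⟨X, rfl⟩)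
    have h := conj_sg_mem hg (H.qe r r.2) (sc c _ _ (pee r p)) (hP0 c)
    rw [map_smul] at h
    have a1 : (toLin (qPlus F m) ((hy hF r hr hm2).ψ X)).1 (e r) = e i := by
      rw [toLin_apply, he, he ⟨i, hi⟩]; exact (P.levi_single X r ⟨i, hi⟩).1 h1
    have a2 : (toLin (qPlus F m) ((hy hF r hr hm2).ψ X)).1 (e p) = e j := by
      rw [toLin_apply, he, he ⟨j, hj⟩]; exact (P.levi_single X p ⟨j, hj⟩).1 h2
    rwa [a1, a2] at h
  · obtain ⟨X, -, h1, h2⟩ := exists_move (F := F) (show 3 ≤ m by omega) hne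
      (show (⟨i, hi⟩ : Fin m) ≠ ⟨j, hj⟩ from fun e => hij (congrArg Fin.val e))
    have hg : toLin (qPlus F m) ((hy hF r hr hm2).ψ X) ∈ K.map (toLin (qPlus F m)) :=
      Subgroup.mem_map_of_mem _ (hψ ⟨X, rfl⟩)
    have h := conj_sg_mem hg (H.qf p p.2) (sc c _ _ (pff p r)) (hN0 c)
    rw [map_smul] at h
    have a1 : (toLin (qPlus F m) ((hy hF r hr hm2).ψ X)).1 (f p) = f i := by
      rw [toLin_apply, hf, hf ⟨i, hi⟩]; exact (P.levi_single X p ⟨i, hi⟩).2 h1
    have a2 : (toLin (qPlus F m) ((hy hF r hr hm2).ψ X)).1 (f r) = f j := by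
      rw [toLin_apply, hf, hf ⟨j, hj⟩]; exact (P.levi_single X r ⟨j, hj⟩).2 h2
    rwa [a1, a2] at h

/-- The last node. -/
noncomputable def lst (hm : 4 ≤ m) :
    Lst (hy (m := m) hF ⟨m - 1, Nat.sub_lt (by omega) Nat.one_pos⟩ (by show m - 1 + 1 = m; omega) (by omega)) :=
  let r : Fin m := ⟨m - 1, Nat.sub_lt (by omega) Nat.one_pos⟩
  have hr : (r : ℕ) + 1 = m := by show m - 1 + 1 = m; omega
  have hm2 : 2 ≤ m := by omega
  let n : Fin (m - 1) := ⟨m - 2, by omega⟩
  let p : Fin m := ⟨m - 2, by omega⟩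
  let H' := hy' (m := m) hF r hr hm2
  have hpr : p ≠ r := fun e => by have : m - 2 = m - 1 := congrArg Fin.val e; omega
  have e0 : H'.ep n 0 = Sum.inl p := (sD_off r hpr).1
  have e1 : H'.ep n 1 = Sum.inr r := by
    have h : TypeA.pi' m n 1 = r := Fin.ext (by show m - 2 + 1 = m - 1; omega)
    show sD r (Sum.inl (TypeA.pi' m n 1)) = _
    rw [h, (sD_on r).1]
  { two := hm2
    φl := H'.φH n
    blk := H'.blkH n
    blk_mono := fun a b h => H'.pos_mono _ _ (le_of_not_gt fun hlt => by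
      have := H'.blkH_mono n hlt.le; omega)
    v := fun j => if m ≤ (j : ℕ) + 2 then 1 else 0
    v_diff := fun j k h => by have := k.2; split_ifs <;> omega
    p := Sum.inl p
    q := Sum.inr r
    al := fun u => u p + u r
    al_spec := fun u => by
      show (hy hF r hr hm2).wv u ((hy hF r hr hm2).e p) - (hy hF r hr hm2).wv u ((hy hF r hr hm2).f r) = _
      rw [Hy.wv_e, Hy.wv_f]; ring
    al_self := by
      show (if m ≤ m - 2 + 2 then (1 : ℤ) else 0) + (if m ≤ m - 1 + 2 then 1 else 0) = 2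
      rw [if_pos (by omega), if_pos (by omega)]; rfl
    al_bound := fun i hi => by
      show (Hy.vA i p + Hy.vA i r).natAbs ≤ 2
      simp only [Hy.vA]
      split_ifs <;> omega
    link := ⟨⟨m - 3, by omega⟩, p, by show m - 3 + 1 = m - 2; omega, by
      show Hy.vA (m - 3) p + Hy.vA (m - 3) r ≠ 0
      simp only [Hy.vA, p, r]
      split_ifs <;> omega, by
      show (if m ≤ m - 3 + 2 then (1 : ℤ) else 0) - (if m ≤ m - 2 + 2 then 1 else 0) ≠ 0
      rw [if_neg (by omega), if_pos (by omega)]; decide⟩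
    pq := by rw [← e0, ← e1, H'.blkH_ep, H'.blkH_ep]
    φ_dg := fun c => by
      refine (H'.φH_dg n c).trans ?_
      congr 1
      funext a
      congr 2
      have key : ∀ i : Fin m, i ≠ r → (Hy.vA (n : ℕ) i : ℤ) = if m ≤ (i : ℕ) + 2 then 1 else 0 := fun i hi => by
        have := i.2
        have : (i : ℕ) ≠ m - 1 := fun e => hi (Fin.ext e)
        simp only [Hy.vA, n]
        split_ifs <;> omega
      have hvr : Hy.vA (n : ℕ) r = -1 := by
        simp only [Hy.vA, n, r]; split_ifs <;> omega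
      rcases a with i | i
      · rw [show (hy hF r hr hm2).wv _ (Sum.inl i) = _ from Hy.wv_e _ _ i]
        by_cases hi : i = r
        · subst hi
          rw [show (Sum.inl r : Fin m ⊕ Fin m) = H'.f r from (sD_on r).2.symm, H'.wv_f, hvr, if_pos (by omega)]
          rfl
        · rw [show (Sum.inl i : Fin m ⊕ Fin m) = H'.e i from (sD_off r hi).1.symm, H'.wv_e, key i hi]
      · rw [show (hy hF r hr hm2).wv _ (Sum.inr i) = _ from Hy.wv_f _ _ i]
        by_cases hi : i = r
        · subst hi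
          rw [show (Sum.inr r : Fin m ⊕ Fin m) = H'.e r from (sD_on r).1.symm, H'.wv_e, hvr, if_pos (by omega)]
        · rw [show (Sum.inr i : Fin m ⊕ Fin m) = H'.f i from (sD_off r hi).2.symm, H'.wv_f, key i hi]
    φ_bd := H'.φH_bd n
    φ_up := fun t => ⟨(H'.φH_up n t).1, by rw [← e0, ← e1]; exact (H'.φH_up n t).2⟩
    sc := 1
    φ_low := fun t => ⟨(H'.φH_low n t).1, by
      rw [← e0, ← e1, Units.val_one, one_mul]; exact (H'.φH_low n t).2⟩
    splitU := fun g hg a b hab => by rw [← e0, ← e1]; exact H'.splitU n g hg hab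
    splitV := fun g hg a b hab => by
      rw [← e0, ← e1, inv_one, Units.val_one, one_mul]; exact H'.splitV n g hg hab
    sub_U := fun g h => H'.tie_U g fun a b hab => h a b (H'.blkH_mono _ hab)
    sub_V := fun g h => H'.tie_V g fun a b hab => h a b (H'.blkH_mono _ hab)
    w_col := ⟨p, r, hr, -1, neg_ne_zero.2 one_ne_zero, fun b => by
      show H'.ρ (H'.φH n _) b (Sum.inl p) = if b = Sum.inr r then -1 else 0
      rw [← e0, ← e1, H'.φH_val, mul_embM_apply _ _ _ (fun j => (H'.epfp n 0 j).symm)]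
      by_cases hb : ∃ k, H'.ep n k = b
      · obtain ⟨k, rfl⟩ := hb
        rw [embM_apply_mem (H'.ep_inj n)]
        fin_cases k <;> simp [val_mul', SL2Pres.up_val, SL2Pres.low_val, Matrix.mul_fin_two, (H'.ep_inj n).eq_iff]
      · push Not at hb
        rw [embM_apply_left _ hb, Matrix.one_apply_ne (fun e => hb 0 e.symm), if_neg (fun e => hb 1 e.symm)]⟩
    gen := fun K h1 h2 => gen_eq_top hF hm p r (by show m - 2 + 2 = m; omega) hr K h1 h2
    rigid := fun g h _ => ρO_inj _ (((Matrix.ext fun b a => by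
      rcases a with i | i
      exacts [(h i b).1, (h i b).2]) : ρO (⇑(qPlus F m)) g = 1).trans (map_one _).symm) }

end Cfsg.Agent.ClassSquare.TypeD
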