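/-
The parabolic data of `Omega+ 2m` and the class square property of `POmega+ 2m`.
-/
import Cfsg.Agent.Lib.ClassSquare.TypeD
import Cfsg.Agent.Lib.ClassSquare.HypLevi
import Cfsg.Agent.Lib.ClassSquare.SwapPerm

set_option autoImplicit false
set_option linter.style.haveILetI false

namespace Cfsg.Agent.ClassSquare.TypeD

open Cfsg.Agent.Orth (qPlus coe_qPlus)
open Cfsg.Agent.ClassSquare.Mat
open Cfsg.Agent.ClassSquare.Orth
open Cfsg.Agent.ClassSquare.TypeC (fineC fineC_inj fineC_ne)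
open Matrix (SpecialLinearGroup)
open scoped Matrix

universe v

variable {F : Type v} [Field F] {m : ℕ}

/-- levels -/
def levD (m : ℕ) : Fin m ⊕ Fin m → ℕ :=
  Sum.elim (fun i => if (i : ℕ) + 1 < m then 0 else 1) fun i => if (i : ℕ) + 1 < m then 2 else 1

/-- exponents -/
def exD (m : ℕ) (i : Fin m) : ℤ := if (i : ℕ) + 1 < m then 2 else 0

variable [Fintype F]

theorem exists_matLevi (hm : 4 ≤ m) (hF : 9 ≤ Fintype.card F) :
    Nonempty (MatLevi (lst (F := F) (show 4 ≤ Fintype.card F by omega) hm).matDatum) := by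
  obtain ⟨ξ, hξ⟩ := exists_sep (F := F) hF
  obtain ⟨r, hr⟩ : ∃ r : Fin m, (r : ℕ) + 1 = m := ⟨⟨m - 1, by omega⟩, by show m - 1 + 1 = m; omega⟩
  let L := lst (F := F) (show 4 ≤ Fintype.card F by omega) hm
  let H := hy (F := F) (show 4 ≤ Fintype.card F by omega)
    (⟨m - 1, Nat.sub_lt (by omega) Nat.one_pos⟩ : Fin m) (by show m - 1 + 1 = m; omega) (by omega)
  have hv : ∀ c : Fˣ, ∏ j, c ^ L.v j = c ^ (2 : ℤ) := fun c => by
    rw [prod_zpow_total]
    congr 1
    show ∑ j : Fin m, (if m ≤ (j : ℕ) + 2 then (1 : ℤ) else 0) = 2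
    have hp : ⟨m - 2, by omega⟩ ≠ r := fun e => by have : m - 2 = (r : ℕ) := congrArg Fin.val e; omega
    rw [Finset.sum_eq_add (⟨m - 2, by omega⟩ : Fin m) r hp]
    · rw [if_pos (show m ≤ m - 2 + 2 by omega), if_pos (by omega)]; rfl
    · intro j _ hj
      rw [if_neg]
      intro hle
      have := j.2
      rcases (by omega : (j : ℕ) = m - 2 ∨ (j : ℕ) = r) with h | h
      · exact hj.1 (Fin.ext h)
      · exact hj.2 (Fin.ext h)
    · exact fun h => absurd (Finset.mem_univ _) h
    · exact fun h => absurd (Finset.mem_univ _) h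
  obtain ⟨h, hh⟩ := L.exists_tor (fun i => ξ ^ exD m i) (ξ ^ ((m : ℤ) - 1)) (by
    rw [hv, prod_zpow_total, ← _root_.zpow_mul]
    congr 1
    have e : ∀ i : Fin m, exD m i = 2 - (if i = r then 2 else 0) := fun i => by
      have := i.2
      simp only [exD, Fin.ext_iff]
      split_ifs <;> omega
    simp only [e, Finset.sum_sub_distrib, Finset.sum_ite_eq', Finset.mem_univ, if_true, Finset.sum_const,
      Finset.card_univ, Fintype.card_fin, nsmul_eq_mul]
    ring)
  have hp : Function.Injective (fun i : Fin (m - 1) => (⟨i, by omega⟩ : Fin m)) := fun a b h =>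
    Fin.ext (congrArg Fin.val h : _)
  have hlt : ∀ i : Fin (m - 1), (i : ℕ) + 1 < m := fun i => by have := i.2; omega
  have hP : ∀ i : Fin m, (i : ℕ) + 1 < m → ∃ j : Fin (m - 1), (⟨j, by omega⟩ : Fin m) = i :=
    fun i hi => ⟨⟨i, by omega⟩, rfl⟩
  have hdiag : ∀ {u : GD m F}, (∀ a, ρO _ u a a = 1) → ∀ a b, levD m a = 1 → levD m b = 1 →
      (∀ a b, levD m a = 1 → levD m b = 1 → a ≠ b → ρO _ u a b = 0) →
      ∀ x : SpecialLinearGroup (Fin (m - 1)) F, H.ρ (H.blockHom hp x) a b = ρO _ u a b := by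
    intro u hd a b ha hb h0 x
    have hoff : ∀ c, levD m c = 1 → (∀ i : Fin (m - 1), (H.e ∘ fun j : Fin (m - 1) => (⟨j, by omega⟩ : Fin m)) i ≠ c) ∧
        ∀ i : Fin (m - 1), (H.f ∘ fun j : Fin (m - 1) => (⟨j, by omega⟩ : Fin m)) i ≠ c := by
      intro c hc
      constructor <;> intro i e <;> rw [← e] at hc
      · simp [H, hy, levD, hlt i] at hc
      · simp [H, hy, levD, hlt i] at hc
    rw [H.blockHom_val, two_block_off _ _ (hoff a ha).1 (hoff a ha).2]
    by_cases hab : a = b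
    · subst hab; rw [Matrix.one_apply_eq, hd]
    · rw [Matrix.one_apply_ne hab, h0 a b ha hb hab]
  have htie : ∀ a b, levD m a = 1 → levD m b = 1 → posD m b = posD m a := by
    have : ∀ a, levD m a = 1 → posD m a = m - 1 := by
      intro a ha
      have := fineC_ne a
      rcases a with i | i <;> have := i.2 <;> simp [levD] at ha
      · have hv : fineC m (Sum.inl i) = i := rfl
        unfold posD; rw [if_pos (by omega)]; omega
      · have hv : fineC m (Sum.inr i) = 2 * m - i := rfl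
        unfold posD; rw [if_neg (by omega)]; omega
    intro a b ha hb; rw [this a ha, this b hb]
  have hint : ∀ c, (∀ i : Fin (m - 1), H.e (⟨i, by omega⟩ : Fin m) ≠ c) →
      (∀ i : Fin (m - 1), posD m c ≤ posD m (H.e (⟨i, by omega⟩ : Fin m))) ∨
        ∀ i : Fin (m - 1), posD m (H.e (⟨i, by omega⟩ : Fin m)) ≤ posD m c := by
    intro c hc
    refine Or.inr fun i => posD_mono _ _ ?_
    have := i.2
    rcases c with c | c <;> have := c.2
    · show (i : ℕ) ≤ c
      by_contra hlt'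
      exact hc ⟨c, by omega⟩ rfl
    · show (i : ℕ) ≤ 2 * m - c
      omega
  have hblk : ∀ {u : GD m F} {x : SpecialLinearGroup (Fin (m - 1)) F}, (∀ a, ρO _ u a a = 1) →
      (∀ a b, levD m a = 1 → levD m b = 1 → a ≠ b → ρO _ u a b = 0) →
      (∀ i j, x.1 i j = ρO _ u (Sum.inl (⟨i, by omega⟩ : Fin m)) (Sum.inl ⟨j, by omega⟩)) →
      (∀ i j, (x⁻¹).1ᵀ i j = ρO _ u (Sum.inr (⟨i, by omega⟩ : Fin m)) (Sum.inr ⟨j, by omega⟩)) →
      ∀ a b, levD m a = levD m b → H.ρ (H.blockHom hp x) a b = ρO _ u a b := by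
    intro u x hd h0 he hf a b hab
    by_cases ha : levD m a = 1
    · exact hdiag hd a b ha (hab ▸ ha) h0 x
    rcases a with a | a <;> rcases b with b | b <;> simp [levD] at ha hab <;>
      split_ifs at hab <;> try omega
    · obtain ⟨i, rfl⟩ := hP a (by omega)
      obtain ⟨j, rfl⟩ := hP b (by omega)
      rw [H.blockHom_val]
      exact (two_block_left (H.e_inj.comp hp) (fun i j => H.disj _ _) _ _ i j).trans (he i j)
    · obtain ⟨i, rfl⟩ := hP a (by omega)
      obtain ⟨j, rfl⟩ := hP b (by omega)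
      rw [H.blockHom_val]
      exact (two_block_right (H.f_inj.comp hp) (fun i j => H.disj _ _) _ _ i j).trans (hf i j)
  obtain ⟨σ, ⟨N, hN⟩, hσ, hfix⟩ := exists_swaps (pairing (F := F) (m := m)) (m / 2) (by omega)
  have hσe : ∀ j : Fin m, (j : ℕ) + 1 < m → σ (Sum.inl j) = Sum.inr j ∧ σ (Sum.inr j) = Sum.inl j :=
    fun j hj => hσ j (by omega)
  have hσr : σ (Sum.inl r) = Sum.inl r ∧ σ (Sum.inr r) = Sum.inr r ∨
      σ (Sum.inl r) = Sum.inr r ∧ σ (Sum.inr r) = Sum.inl r := by
    by_cases he : (r : ℕ) < 2 * (m / 2)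
    · exact Or.inr (hσ r he)
    · refine Or.inl ⟨hfix _ fun j hj => ⟨fun e => ?_, Sum.inl_ne_inr⟩, hfix _ fun j hj => ⟨Sum.inr_ne_inl, fun e => ?_⟩⟩
      · have := Sum.inl_injective e; subst this; omega
      · have := Sum.inr_injective e; subst this; omega
  refine ⟨{
    r := 1
    kk := fun _ => m - 1
    Ψ := (H.blockHom hp).comp (Pi.evalMonoidHom (fun _ : Fin 1 => SpecialLinearGroup (Fin (m - 1)) F) 0)
    lev := levD m
    lev_mono := ?_
    hd := fun a => H.dd (fun i => ξ ^ exD m i) a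
    hd_eq := ?_
    hd_ne := ?_
    h := h
    h_val := hh
    Ψ_bd := fun x => H.blockHom_bd hp _ (fun i j => ?_) (fun i j => ?_) _
    sU := ?_
    sV := ?_
    surj := ?_
    flip := ⟨fun _ => ((jSL F (m - 1))⁻¹).transpose, ?_, ?_⟩ }⟩
  · intro a b hab
    show posD m b ≤ posD m a
    refine posD_mono _ _ ?_
    rcases a with i | i <;> rcases b with j | j <;> have := i.2 <;> have := j.2 <;>
      simp [levD, fineC] at hab ⊢ <;> split_ifs at hab <;> omega
  · intro a b hab
    rw [H.dd_zpow, H.dd_zpow]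
    congr 1
    rcases a with i | i <;> rcases b with j | j <;> simp [H, hy, levD, Hy.wv, exD] at hab ⊢ <;>
      split_ifs at hab ⊢ <;> omega
  · intro a b hab
    rw [H.dd_zpow, H.dd_zpow]
    intro e
    have e' := hξ _ _ ?_ e
    · rcases a with i | i <;> rcases b with j | j <;> simp [H, hy, levD, Hy.wv, exD] at hab e' <;>
        split_ifs at hab e' <;> omega
    · rcases a with i | i <;> rcases b with j | j <;> simp [H, hy, Hy.wv, exD] <;> split_ifs <;> omega
  · simp [H, hy, levD, hlt i, hlt j]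
  · simp [H, hy, levD, hlt i, hlt j]
  · intro u hu
    have hu' : BU H.pos (H.ρ u) := hu
    obtain ⟨x, hx, he, hf⟩ := H.block_U hp hu' (fun i j hij => posD_mono _ _ (le_of_lt hij)) hint
    exact ⟨fun _ => x, fun _ => hx, hblk (fun a => (hu a a le_rfl).trans (Matrix.one_apply_eq a))
      (fun a b ha hb hab => (hu a b (htie a b ha hb).le).trans (Matrix.one_apply_ne hab)) he hf⟩
  · intro u hu
    have hu' : BL H.pos (H.ρ u) := hu
    obtain ⟨x, hx, he, hf⟩ := H.block_V hp hu' (fun i j hij => posD_mono _ _ (le_of_lt hij)) hint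
    exact ⟨fun _ => x, fun _ => hx, hblk (fun a => (hu a a le_rfl).trans (Matrix.one_apply_eq a))
      (fun a b ha hb hab => (hu a b (htie a b ha hb).ge).trans (Matrix.one_apply_ne hab)) he hf⟩
  · intro d
    let z : Fin m := ⟨0, by omega⟩
    let d' : Fin m → Fˣ := Pi.mulSingle z (d 0) * Pi.mulSingle r (d 0)
    obtain ⟨t, ht⟩ := L.exists_tor d' (d 0) (by
      rw [hv]
      simp [d', Finset.prod_mul_distrib]
      exact (pow_two _).symm)
    refine ⟨t, diag_commute H ht hh, fun _ => dGL fun i => d' ⟨i, by omega⟩, fun _ => 1,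
      fun b => ⟨one_ne_zero, ?_⟩, fun x => ?_⟩
    · rw [dGL_det, one_pow, mul_one, Fin.fin_one_eq_zero b, Finset.prod_eq_single (⟨0, by omega⟩ : Fin (m - 1))]
      · simp only [d', Pi.mul_apply, z, Pi.mulSingle_apply, Fin.ext_iff]
        rw [if_neg (show ¬(0 : ℕ) = r by omega)]
        simp
      · intro i _ hi
        have h0 : (i : ℕ) ≠ 0 := fun e => hi (Fin.ext e)
        have := i.2
        simp only [d', Pi.mul_apply, z, Pi.mulSingle_apply, Fin.ext_iff]
        rw [if_neg h0, if_neg (by omega), one_mul]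
      · simp
    · exact mul_inv_eq_iff_eq_mul.2 (H.tor_conj_block hp ht _)
  · intro b
    refine isReg_transpose ?_
    exact (isReg_jordan (F := F) (m - 1)).inv _ (SpecialLinearGroup.toGL (jSL F (m - 1))) rfl
  · refine (isConj_iff.2 ⟨N, ?_⟩).symm
    have hσd : ∀ a, H.dd (fun i => ξ ^ exD m i) (σ a) = (H.dd (fun i => ξ ^ exD m i) a)⁻¹ := by
      have hEr : exD m r = 0 := if_neg (by omega)
      intro a
      rw [H.dd_zpow, H.dd_zpow, ← _root_.zpow_neg]
      congr 1
      have we : ∀ i, H.wv (exD m) (Sum.inl i) = exD m i := fun i => H.wv_e _ i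
      have wf : ∀ i, H.wv (exD m) (Sum.inr i) = -exD m i := fun i => H.wv_f _ i
      rcases a with i | i <;> rcases eq_or_ne i r with rfl | hi
      · rcases hσr with ⟨q, -⟩ | ⟨q, -⟩ <;> simp [q, we, wf, hEr]
      · rw [(hσe i (by have := i.2; have : (i : ℕ) ≠ r := fun e => hi (Fin.ext e); omega)).1, we, wf]
      · rcases hσr with ⟨-, q⟩ | ⟨-, q⟩ <;> simp [q, we, wf, hEr]
      · rw [(hσe i (by have := i.2; have : (i : ℕ) ≠ r := fun e => hi (Fin.ext e); omega)).2, we, wf, neg_neg]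
    have e1 : N * h = h⁻¹ * N := by
      rw [eq_inv_mul_iff_mul_eq]
      apply H.ρ_inj
      show ρO _ (h * (N * h)) = ρO _ N
      rw [map_mul, map_mul, hN, show ρO _ h = Matrix.diagonal _ from hh, pmat_diag, ← Matrix.mul_assoc,
        Matrix.diagonal_mul_diagonal]
      refine (congrArg (· * pmat F σ) ?_).trans (Matrix.one_mul _)
      rw [← Matrix.diagonal_one]
      congr 1
      funext a
      have q := hσd (σ⁻¹ a)
      rw [show σ (σ⁻¹ a) = a from σ.apply_symm_apply a] at q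
      rw [q, ← Units.val_mul, inv_mul_cancel, Units.val_one]
    have e2 : N * H.blockHom hp (jSL F (m - 1)) = H.blockHom hp (((jSL F (m - 1))⁻¹).transpose) * N := by
      apply H.ρ_inj
      rw [map_mul, map_mul, show H.ρ N = pmat F σ from hN]
      exact H.pmat_flip_block hp σ (fun i => (hσe _ (hlt i)).1) (fun i => (hσe _ (hlt i)).2) _
    show N * (h * H.blockHom hp (jSL F (m - 1))) * N⁻¹ = h⁻¹ * H.blockHom hp (((jSL F (m - 1))⁻¹).transpose)
    rw [mul_inv_eq_iff_eq_mul, ← mul_assoc, e1, mul_assoc, e2, mul_assoc]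

/-- **The class square property of `POmega+ 2m`.** -/
theorem class_square (hm : 4 ≤ m) (hF : 9 ≤ Fintype.card F) {H : Type*} [Group H]
    (e : H ≃* Cfsg.POmega F (Cfsg.quadFormPlus m F)) :
    ∃ c : H, ∀ g : H, ∃ x y : H, g = (x * c * x⁻¹) * (y * c * y⁻¹) := by
  obtain ⟨L⟩ := exists_matLevi (F := F) hm hF
  haveI : Nonempty (Fin m) := ⟨⟨0, by omega⟩⟩
  rw [← coe_qPlus] at e
  exact L.class_square hF e

end Cfsg.Agent.ClassSquare.TypeD
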